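import Mathlib
import Cfsg.Agent.Lib.Core.Cores
import Cfsg.Agent.Lib.Core.HHCritical.PLengthExceptional

/-!
# Elements of order four moving a plane

On an abelian group of exponent `q ≡ 3 [MOD 4]` call `w` good if `w ^ 4 = 1`, `w` fixes what `w ^ 2`
fixes and `w ^ 2` inverts exactly `q ^ 2` elements.

* `Good.conj_inv_or_self`: for good `w` in a `2`-group and `u = (t w t⁻¹)⁻¹ w`, conjugation by `w`
  fixes or inverts `u`
* `sq_mem_pCore`: such a `w` has its square in `O_2` of any soluble group without odd core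
-/

set_option autoImplicit false
set_option linter.all false

namespace CfsgLib.Core.HHTwo

open Subgroup

variable {M : Type*} [CommGroup M]

/-- The elements inverted by an automorphism. -/
def neg (a : MulAut M) : Subgroup M := (a.toMonoidHom * MonoidHom.id M).ker

theorem mem_neg {a : MulAut M} {v : M} : v ∈ neg a ↔ a v * v = 1 := Iff.rfl

theorem mem_neg' {a : MulAut M} {v : M} : v ∈ neg a ↔ a v = v⁻¹ := by
  rw [mem_neg, mul_eq_one_iff_eq_inv]

structure Good (q : ℕ) (w : MulAut M) : Prop where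
  four : w ^ 4 = 1
  fix : ∀ v, (w ^ 2) v = v → w v = v
  card : Nat.card (neg (w ^ 2)) = q ^ 2

theorem Good.sq_sq {q : ℕ} {w : MulAut M} (hw : Good q w) (v : M) : (w ^ 2) ((w ^ 2) v) = v := by
  rw [← MulAut.mul_apply, ← pow_add, hw.four]; rfl

theorem Good.conj {q : ℕ} {w : MulAut M} (hw : Good q w) (g : MulAut M) : Good q (g * w * g⁻¹) := by
  refine ⟨by rw [conj_pow, hw.four, mul_one, mul_inv_cancel], fun v hv => ?_, ?_⟩
  · rw [conj_pow] at hv
    simp only [MulAut.mul_apply] at hv ⊢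
    have h := hw.fix (g⁻¹ v) (g.injective (by rw [hv]; exact (g.apply_symm_apply v).symm))
    rw [h]; exact g.apply_symm_apply v
  · refine Eq.trans (Nat.card_congr (g.toEquiv.subtypeEquiv fun v => ?_).symm) hw.card
    rw [conj_pow, mem_neg', mem_neg']
    show (w ^ 2) v = v⁻¹ ↔ g ((w ^ 2) (g.symm (g v))) = (g v)⁻¹
    rw [g.symm_apply_apply, ← map_inv]
    exact g.injective.eq_iff.symm

variable {q : ℕ}

theorem eq_one_of_sq (hq2 : Odd q) (hM : ∀ v : M, v ^ q = 1) {v : M} (h : v ^ 2 = 1) : v = 1 := by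
  obtain ⟨k, hk⟩ := hq2
  have := hM v
  rwa [hk, pow_succ, pow_mul, h, one_pow, one_mul] at this

/-- The splitting by an involution. -/
theorem exists_split (hq2 : Odd q) (hM : ∀ v : M, v ^ q = 1) {a : MulAut M}
    (ha : ∀ v, a (a v) = v) (v : M) : ∃ d ∈ neg a, ∃ c, a c = c ∧ d * c = v := by
  obtain ⟨k, hk⟩ := hq2
  refine ⟨(v / a v) ^ (k + 1), ?_, (v * a v) ^ (k + 1), ?_, ?_⟩
  · rw [mem_neg, map_pow, map_div, ha, ← mul_pow, div_mul_div_cancel, div_self', one_pow]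
  · rw [map_pow, map_mul, ha, mul_comm]
  · rw [← mul_pow, show v / a v * (v * a v) = v ^ 2 by
      rw [pow_two, div_mul_eq_mul_div, ← mul_assoc, mul_div_cancel_right], ← pow_mul,
      show 2 * (k + 1) = q + 1 by omega, pow_succ, hM, one_mul]

theorem eq_one_of_neg_fix (hq2 : Odd q) (hM : ∀ v : M, v ^ q = 1) {a : MulAut M} {v : M}
    (h1 : v ∈ neg a) (h2 : a v = v) : v = 1 := by
  rw [mem_neg, h2, ← pow_two] at h1
  exact eq_one_of_sq hq2 hM h1

variable [Finite M] [hqf : Fact q.Prime]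

/-- Two distinct commuting planes meet trivially. -/
theorem Good.inter (hq4 : q % 4 = 3) (hM : ∀ v : M, v ^ q = 1) {w₁ w₂ : MulAut M} (h₁ : Good q w₁)
    (h₂ : Good q w₂) (hc : w₂ ^ 2 * w₁ = w₁ * w₂ ^ 2) (hne : w₁ ^ 2 ≠ w₂ ^ 2) :
    (∀ v, v ∈ neg (w₁ ^ 2) → v ∈ neg (w₂ ^ 2) → v = 1) ∧
      ∀ v ∈ neg (w₁ ^ 2), (w₂ ^ 2) v = v := by
  have hq2 : Odd q := Nat.odd_iff.2 (by omega)
  have hcc : ∀ v, (w₂ ^ 2) (w₁ v) = w₁ ((w₂ ^ 2) v) := fun v => MulEquiv.congr_fun hc v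
  have hcc2 : ∀ v, (w₂ ^ 2) ((w₁ ^ 2) v) = (w₁ ^ 2) ((w₂ ^ 2) v) := fun v => by
    rw [sq w₁, MulAut.mul_apply, MulAut.mul_apply, hcc, hcc]
  set S := neg (w₁ ^ 2) ⊓ neg (w₂ ^ 2) with hS
  have hSinv : ∀ v ∈ S, w₁ v ∈ S := by
    rintro v ⟨h1, h2⟩
    refine ⟨?_, ?_⟩
    · replace h1 := mem_neg'.1 h1
      show w₁ v ∈ neg (w₁ ^ 2)
      rw [mem_neg']
      rw [← MulAut.mul_apply, ← pow_succ, pow_succ', MulAut.mul_apply, h1, map_inv]
    · replace h2 := mem_neg'.1 h2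
      show w₁ v ∈ neg (w₂ ^ 2)
      rw [mem_neg']
      rw [hcc, h2, map_inv]
  have hdvd : Nat.card S ∣ q ^ 2 := h₁.card ▸ card_dvd_of_le inf_le_left
  obtain ⟨i, hi2, hi⟩ := (Nat.dvd_prime_pow hqf.out).1 hdvd
  have hS1 : S = ⊥ := by
    obtain rfl | rfl | rfl : i = 0 ∨ i = 1 ∨ i = 2 := by omega
    · exact Subgroup.eq_bot_of_card_eq S (by rw [hi, pow_zero])
    · exfalso
      rw [pow_one] at hi
      haveI : Nontrivial S := Finite.one_lt_card_iff_nontrivial.1 (by rw [hi]; exact hqf.out.one_lt)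
      obtain ⟨⟨x, hx⟩, hx1⟩ := exists_ne (1 : S)
      have hox : orderOf x = q :=
        orderOf_eq_prime (hM x) fun h => hx1 (Subtype.ext h)
      have hzS : zpowers x = S := by
        refine Subgroup.eq_of_le_of_card_ge (zpowers_le.2 hx) ?_
        rw [hi, Nat.card_zpowers, hox]
      obtain ⟨j, hj⟩ : ∃ j : ℕ, x ^ j = w₁ x :=
        (mem_powers_iff_mem_zpowers.2 (hzS.symm ▸ hSinv x hx : w₁ x ∈ zpowers x))
      have h2 := mem_neg'.1 hx.1
      rw [sq, MulAut.mul_apply, ← hj, map_pow, ← hj, ← pow_mul, eq_inv_iff_mul_eq_one,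
        ← pow_succ, ← orderOf_dvd_iff_pow_eq_one, hox] at h2
      have hj2 : ((j : ZMod q)) ^ 2 = -1 := by
        rw [eq_neg_iff_add_eq_zero, sq]
        exact_mod_cast ((ZMod.natCast_eq_zero_iff _ _).2 h2 : ((j * j + 1 : ℕ) : ZMod q) = 0)
      exact ZMod.exists_sq_eq_neg_one_iff.1 ⟨(j : ZMod q), by rw [← hj2, sq]⟩ hq4
    · exfalso
      have e1 : S = neg (w₁ ^ 2) := Subgroup.eq_of_le_of_card_ge inf_le_left (by rw [hi, h₁.card])
      have e2 : S = neg (w₂ ^ 2) := Subgroup.eq_of_le_of_card_ge inf_le_right (by rw [hi, h₂.card])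
      refine hne (MulEquiv.ext fun v => ?_)
      obtain ⟨d, hd, c, hc', rfl⟩ := exists_split hq2 hM h₁.sq_sq v
      have hd2 : d ∈ neg (w₂ ^ 2) := (e2.symm.trans e1).symm ▸ hd
      have hc2 : (w₂ ^ 2) c = c := by
        have hy1 : c / (w₂ ^ 2) c ∈ neg (w₁ ^ 2) := by
          rw [← (e2.symm.trans e1), mem_neg, map_div, h₂.sq_sq, div_mul_div_cancel, div_self']
        have hy2 : (w₁ ^ 2) (c / (w₂ ^ 2) c) = c / (w₂ ^ 2) c := by
          rw [map_div, ← hcc2, hc']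
        exact (div_eq_one.1 (eq_one_of_neg_fix hq2 hM hy1 hy2)).symm
      rw [map_mul, map_mul, mem_neg'.1 hd, mem_neg'.1 hd2, hc', hc2]
  have hmeet : ∀ v, v ∈ neg (w₁ ^ 2) → v ∈ neg (w₂ ^ 2) → v = 1 := fun v h h' =>
    (Subgroup.eq_bot_iff_forall S).1 hS1 v ⟨h, h'⟩
  refine ⟨hmeet, fun d hd => (div_eq_one.1 (hmeet _ ?_ ?_)).symm⟩
  · rw [mem_neg', map_div, ← hcc2, mem_neg'.1 hd, map_inv, inv_div_inv, inv_div]
  · rw [mem_neg, map_div, h₂.sq_sq, div_mul_div_cancel, div_self']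

theorem commute_sq_aux (hq4 : q % 4 = 3) (hM : ∀ v : M, v ^ q = 1) :
    ∀ (n : ℕ) (H : Subgroup (MulAut M)), Nat.card H ≤ n → IsPGroup 2 H → ∀ w ∈ H, ∀ w' ∈ H,
      Good q w → Good q w' → w ^ 2 * w' = w' * w ^ 2 := by
  intro n
  induction n with
  | zero => intro H h; exact absurd h (not_le.2 Nat.card_pos)
  | succ n ih =>
    intro H hn hH w hw w' hw' hgw hgw'
    by_cases hcyc : (zpowers (⟨w, hw⟩ : H)) = ⊤
    · obtain ⟨j, hj⟩ := mem_zpowers_iff.1 (hcyc.ge (mem_top (⟨w', hw'⟩ : H)))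
      have e : w ^ j = w' := congrArg Subtype.val hj
      rw [← e]
      exact (((Commute.refl w).pow_left 2).zpow_right j).eq
    haveI := Fact.mk Nat.prime_two
    haveI := hH.isNilpotent
    obtain ⟨K0, hK0, hwK0⟩ := (eq_top_or_exists_le_coatom (zpowers (⟨w, hw⟩ : H))).resolve_left hcyc
    haveI : K0.Normal := NormalizerCondition.normal_of_coatom K0 Group.normalizerCondition_of_isNilpotent hK0
    set K := K0.map H.subtype with hK
    have hKH : Nat.card K ≤ n := by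
      rw [hK, Subgroup.card_map_of_injective H.subtype_injective]
      have : Nat.card K0 < Nat.card H := by
        refine lt_of_le_of_ne (Subgroup.card_le_card_group K0) fun h => hK0.1 ?_
        exact Subgroup.eq_top_of_card_eq K0 h
      omega
    have hK2 : IsPGroup 2 K := (hH.to_subgroup K0).map _
    have hconj : ∀ g ∈ H, g * w * g⁻¹ ∈ K := fun g hg =>
      ⟨⟨g, hg⟩ * ⟨w, hw⟩ * (⟨g, hg⟩ : H)⁻¹,
        (inferInstance : K0.Normal).conj_mem _ (hwK0 (mem_zpowers _)) _, rfl⟩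
    have hIH : ∀ g ∈ H, ∀ g' ∈ H,
        (g * w * g⁻¹) ^ 2 * (g' * w * g'⁻¹) = g' * w * g'⁻¹ * (g * w * g⁻¹) ^ 2 := fun g hg g' hg' =>
      ih K hKH hK2 _ (hconj g hg) _ (hconj g' hg') (hgw.conj g) (hgw.conj g')
    have hq2 : Odd q := Nat.odd_iff.2 (by omega)
    set a' := w' ^ 2 with ha'
    set wb := w' * w * w'⁻¹ with hwb
    set wc := a' * w * a'⁻¹ with hwc
    have hb : wb ^ 2 = w' * w ^ 2 * w'⁻¹ := conj_pow
    have hcb : wc ^ 2 = w' * wb ^ 2 * w'⁻¹ := by rw [hwc, conj_pow, hb, ha', sq w']; group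
    by_cases hba : wb ^ 2 = w ^ 2
    · rw [hb] at hba
      exact (mul_inv_eq_iff_eq_mul.1 hba).symm
    have hcne : wc ^ 2 ≠ wb ^ 2 := by
      rw [hcb, hb]
      intro h
      exact hba (hb.trans (mul_left_cancel (mul_right_cancel h)))
    have hwH : w = 1 * w * 1⁻¹ := by group
    obtain ⟨hmeet, hDb⟩ := hgw.inter hq4 hM (hgw.conj w')
      (by have := hIH w' hw' 1 H.one_mem; rwa [← hwH] at this) (Ne.symm hba)
    obtain ⟨-, hcfix⟩ := (hgw.conj a').inter hq4 hM (hgw.conj w')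
      (hIH w' hw' a' (pow_mem hw' 2)) hcne
    rw [← hwb] at hmeet hDb hcfix
    rw [← hwc] at hcfix
    -- the displacements of the second element
    have hδ : ∀ x, w' x / x ∈ neg a' := by
      intro x
      have h1 : w' (a' x * x) = a' x * x := hgw'.fix _ (by rw [map_mul, hgw'.sq_sq, mul_comm])
      have e : a' (w' x) = w' (a' x) := by
        rw [ha', ← MulAut.mul_apply, ← MulAut.mul_apply, ← pow_succ, ← pow_succ']
      rw [mem_neg, map_div, e, div_mul_div_comm, ← map_mul, h1, div_self']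
    have hwD : ∀ d ∈ neg (w ^ 2), w' d ∈ neg (wb ^ 2) := by
      intro d hd
      rw [mem_neg'] at hd ⊢
      rw [hb, MulAut.mul_apply, MulAut.mul_apply]
      show w' ((w ^ 2) (w'.symm (w' d))) = _
      rw [w'.symm_apply_apply, hd, map_inv]
    let f : neg (w ^ 2) →* neg a' :=
      { toFun := fun d => ⟨w' d / d, hδ d⟩
        map_one' := Subtype.ext (by simp)
        map_mul' := fun x y => Subtype.ext (by
          show w' ((x : M) * y) / ((x : M) * y) = w' x / x * (w' y / y)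
          rw [map_mul, div_mul_div_comm]) }
    have hfinj : Function.Injective f := by
      rw [injective_iff_map_eq_one]
      intro d hd
      have h1 : w' (d : M) = d := div_eq_one.1 (congrArg Subtype.val hd)
      exact Subtype.ext (hmeet _ d.2 (h1 ▸ hwD _ d.2))
    have hfsur : Function.Surjective f :=
      ((Nat.bijective_iff_injective_and_card f).2 ⟨hfinj, by rw [hgw.card]; exact hgw'.card.symm⟩).2
    haveI : Nontrivial (neg (w ^ 2)) := Finite.one_lt_card_iff_nontrivial.1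
      (by rw [hgw.card]; exact Nat.one_lt_pow two_ne_zero hqf.out.one_lt)
    obtain ⟨⟨d, hd⟩, hd1⟩ := exists_ne (1 : neg (w ^ 2))
    exfalso
    obtain ⟨⟨e, he⟩, hfe⟩ := hfsur ⟨_, hδ (w' d)⟩
    have h1 : w' e / e = a' d / w' d := by
      rw [show a' d = w' (w' d) by rw [ha', sq]; rfl]
      exact congrArg Subtype.val hfe
    have h2 : a' d * e = w' (e * d) := by
      rw [map_mul, ← div_mul_cancel (w' e) e, h1, mul_assoc, mul_comm e, ← mul_assoc,
        div_mul_cancel, mul_comm]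
    have h3 : w' (e * d) = 1 := by
      refine eq_one_of_neg_fix hq2 hM (hwD _ (mul_mem he hd)) ?_
      rw [← h2, map_mul, hDb e he]
      congr 1
      refine hcfix _ ?_
      rw [mem_neg'] at hd ⊢
      rw [hwc, conj_pow, MulAut.mul_apply, MulAut.mul_apply]
      show a' ((w ^ 2) (a'.symm (a' d))) = _
      rw [a'.symm_apply_apply, hd, map_inv]
    have h4 : e * d = 1 := w'.map_eq_one_iff.1 h3
    have h5 : a' d = d := by
      rw [h3, mul_eq_one_iff_eq_inv.1 h4, mul_inv_eq_one] at h2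
      exact h2
    have h6 : w' d = d := hgw'.fix d h5
    exact hd1 (Subtype.ext (hmeet _ hd (by have := hwD _ hd; rwa [h6] at this)))

/-- Conjugation by a good element fixes or inverts `(t w t⁻¹)⁻¹ w`. -/
theorem Good.conj_inv_or_self (hq4 : q % 4 = 3) (hM : ∀ v : M, v ^ q = 1)
    {H : Subgroup (MulAut M)} (hH : IsPGroup 2 H) {w t : MulAut M} (hgw : Good q w) (hw : w ∈ H)
    (ht : t ∈ H) :
    w⁻¹ * ((t * w * t⁻¹)⁻¹ * w) * w = (t * w * t⁻¹)⁻¹ * w ∨
      w⁻¹ * ((t * w * t⁻¹)⁻¹ * w) * w = ((t * w * t⁻¹)⁻¹ * w)⁻¹ := by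
  obtain ⟨w', hw'e⟩ : ∃ w', w' = t * w * t⁻¹ := ⟨_, rfl⟩
  rw [← hw'e]
  have hgw' : Good q w' := by rw [hw'e]; exact hgw.conj t
  have hw' : w' ∈ H := by rw [hw'e]; exact mul_mem (mul_mem ht hw) (inv_mem ht)
  have hc1 := commute_sq_aux hq4 hM _ H le_rfl hH w hw w' hw' hgw hgw'
  have hc2 := commute_sq_aux hq4 hM _ H le_rfl hH w' hw' w hw hgw' hgw
  by_cases ha : w ^ 2 = w' ^ 2
  · right
    refine eq_inv_of_mul_eq_one_left ?_
    have h1 : w ^ 2 * w'⁻¹ = w'⁻¹ * w ^ 2 := by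
      rw [eq_inv_mul_iff_mul_eq, ← mul_assoc, ← hc1, mul_inv_cancel_right]
    calc w⁻¹ * (w'⁻¹ * w) * w * (w'⁻¹ * w) = w⁻¹ * w'⁻¹ * (w ^ 2 * w'⁻¹) * w := by rw [pow_two]; group
      _ = w⁻¹ * (w'⁻¹ * w'⁻¹) * w ^ 2 * w := by rw [h1]; group
      _ = 1 := by rw [ha]; group
  · left
    have hq2 : Odd q := Nat.odd_iff.2 (by omega)
    obtain ⟨-, hD⟩ := hgw.inter hq4 hM hgw' hc2 ha
    have hcomm : w * w' = w' * w := by
      refine MulEquiv.ext fun v => ?_
      obtain ⟨d, hd, c, hc, rfl⟩ := exists_split hq2 hM hgw.sq_sq v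
      have e1 : w' d = d := hgw'.fix d (hD d hd)
      have e2 : w' (w d) = w d := hgw'.fix _ (hD _ (by
        rw [mem_neg'] at hd ⊢
        rw [← MulAut.mul_apply, ← pow_succ, pow_succ', MulAut.mul_apply, hd, map_inv]))
      have e3 : w (w' c) = w' c := hgw.fix _ (by
        rw [← MulAut.mul_apply, hc1, MulAut.mul_apply, hc])
      simp only [MulAut.mul_apply, map_mul, hgw.fix c hc, e1, e2, e3]
    calc w⁻¹ * (w'⁻¹ * w) * w = (w' * w)⁻¹ * (w * w) := by group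
      _ = (w * w')⁻¹ * (w * w) := by rw [hcomm]
      _ = w'⁻¹ * w := by group

/-- The group theoretic conclusion. -/
theorem sq_mem_pCore {Y : Type*} [Group Y] [Finite Y] (hsol : Cfsg.IsPSolvable 2 Y)
    (hO : Cfsg.pPrimeCore 2 Y = ⊥) (P : Sylow 2 Y) {w : Y}
    (h : ∀ t ∈ (P : Subgroup Y), w⁻¹ * ((t * w * t⁻¹)⁻¹ * w) * w = (t * w * t⁻¹)⁻¹ * w ∨
      w⁻¹ * ((t * w * t⁻¹)⁻¹ * w) * w = ((t * w * t⁻¹)⁻¹ * w)⁻¹) :
    w ^ 2 ∈ Cfsg.pCore 2 Y := by
  haveI := Fact.mk Nat.prime_two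
  obtain ⟨N, _, _, r0, em, hN, hinj, hem, hadd, hact⟩ := HHTop.frattini_rep hsol hO
  have hdd : ∀ x : N, x + x = 0 := fun x => by rw [← two_nsmul]; exact hN x
  have hinv : ∀ r, em r⁻¹ = em r := by
    intro r
    have h1 := hadd r r⁻¹
    have h2 := hadd 1 1
    rw [mul_inv_cancel] at h1
    rw [mul_one, left_eq_add] at h2
    rw [h2] at h1
    exact add_left_cancel (h1.symm.trans (hdd (em r)).symm)
  set T := r0 ((w⁻¹ : Y) : Y ⧸ Cfsg.pCore 2 Y) with hT
  have hT2 : T * T = 1 := by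
    refine DFunLike.ext _ _ fun x => ?_
    obtain ⟨r, rfl⟩ := hem x
    show T (T (em r)) = em r
    set u := ((r : Y) * w * (r : Y)⁻¹)⁻¹ * w with hu
    have huR : u ∈ Cfsg.pCore 2 Y := by
      rw [show u = (r : Y) * (w⁻¹ * (r : Y)⁻¹ * w⁻¹⁻¹) by rw [hu]; group]
      exact mul_mem r.2 ((normal_pCore 2 Y).conj_mem _ (inv_mem r.2) _)
    have heu : em ⟨u, huR⟩ = em r + T (em r) := by
      rw [← hinv r, hT, hact, hinv r, ← hadd]
      refine congrArg em (Subtype.ext ?_)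
      show ((r : Y) * w * (r : Y)⁻¹)⁻¹ * w = (r : Y) * (w⁻¹ * ((r⁻¹ : Cfsg.pCore 2 Y) : Y) * w⁻¹⁻¹)
      rw [Subgroup.coe_inv]; group
    have hTu : T (em ⟨u, huR⟩) = em ⟨u, huR⟩ := by
      rw [hT, hact]
      rcases h r (pCore_le_sylow P r.2) with h' | h'
      · exact congrArg em (Subtype.ext (by show w⁻¹ * u * w⁻¹⁻¹ = u; rw [inv_inv]; exact h'))
      · refine (congrArg em (Subtype.ext ?_)).trans (hinv ⟨u, huR⟩)
        show w⁻¹ * u * w⁻¹⁻¹ = u⁻¹
        rw [inv_inv]; exact h'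
    rw [heu, map_add, add_comm (em r)] at hTu
    exact add_left_cancel hTu
  have h1 : ((w⁻¹ : Y) : Y ⧸ Cfsg.pCore 2 Y) * ((w⁻¹ : Y) : Y ⧸ Cfsg.pCore 2 Y) = 1 :=
    hinj (by rw [map_mul, map_one]; exact hT2)
  rw [← QuotientGroup.mk_mul, QuotientGroup.eq_one_iff] at h1
  rw [show w ^ 2 = (w⁻¹ * w⁻¹)⁻¹ by group]
  exact inv_mem h1

end CfsgLib.Core.HHTwo
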