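import Mathlib
import Cfsg.Agent.Lib.Core.HHCritical.TopDisplacement
import Cfsg.Agent.Lib.Core.HHCritical.TwoTops.Rank

/-!
# Orbits of an element of `2`-power order with small minimal polynomial

* `card_le_mul_cover`: on a projective representation of an abelian group `M`, `M` has at most
  `s * n` elements when `n` points meet all orbits of the operator and `(X - 1) ^ s = 0`
-/

set_option autoImplicit false
set_option linter.all false

namespace CfsgLib.Core.HHTwo

section Count

variable {K : Type*} [Field K] {V : Type*} [AddCommGroup V] [Module K V] [FiniteDimensional K V]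

/-- The orbits of the operator. The setting is that of `HHTop.card_le_sq_mul_fixed`. -/
theorem card_le_mul_cover {M : Type*} [CommGroup M] [Finite M]
    (e : M → Module.End K V) (einv : M → Module.End K V) (he : ∀ v, e v * einv v = 1)
    (he' : ∀ v, einv v * e v = 1)
    (χ : M → M → K) (hχ : ∀ a v, e a * e v = χ a v • (e v * e a))
    (hχmul : ∀ a a' v, χ (a * a') v = χ a v * χ a' v)
    (hχne : ∀ a v, χ a v ≠ 0)
    (hχnd : ∀ w, w ≠ 1 → ∃ b, χ b w ≠ 1)
    (hcj : ∀ a b T, e (a * b) * T * einv (a * b) = e a * (e b * T * einv b) * einv a)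
    (hN : (Nat.card M : K) ≠ 0) (σ : MulAut M)
    (Xo Xi : Module.End K V) (hXX : Xo * Xi = 1) (hXX' : Xi * Xo = 1) {s : ℕ}
    (hq : (Xo - 1) ^ s = 0)
    (hχσ : ∀ a v, χ (σ a) (σ v) = χ a v)
    (hXe : ∀ a T, Xo * (e a * T * einv a) * Xi = e (σ a) * (Xo * T * Xi) * einv (σ a))
    [Nontrivial V] (Reps : Finset M) (hcover : ∀ v : M, ∃ r ∈ Reps, ∃ i : ℕ, (σ ^ i) r = v) :
    Nat.card M ≤ s * Reps.card := by
  classical
  haveI : Fintype M := Fintype.ofFinite M
  let cj : M → (Module.End K V →ₗ[K] Module.End K V) := fun g =>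
    (LinearMap.mulLeft K (e g)).comp (LinearMap.mulRight K (einv g))
  have hcjd : ∀ g T, cj g T = e g * T * einv g := fun g T => (mul_assoc _ _ _).symm
  let P : M → (Module.End K V →ₗ[K] Module.End K V) := fun v =>
    (Nat.card M : K)⁻¹ • ∑ a : M, (χ a v)⁻¹ • cj a
  have hP : ∀ v T, P v T = (Nat.card M : K)⁻¹ • ∑ a : M, (χ a v)⁻¹ • cj a T := fun v T => by
    simp only [P, LinearMap.smul_apply, LinearMap.sum_apply]
  have hcancel : ∀ (g : M) {c c' : K}, c • e g = c' • e g → c = c' := by
    intro g c c' h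
    by_contra hne
    obtain ⟨v, hv⟩ := exists_ne (0 : V)
    have h1 := congrArg (fun T => T * einv g) h
    simp only [smul_mul_assoc, he] at h1
    have h2' := LinearMap.congr_fun h1 v
    simp only [LinearMap.smul_apply, Module.End.one_apply] at h2'
    exact hne (smul_left_injective K hv h2')
  have hswap : ∀ a b, χ a b * χ b a = 1 := by
    intro a b
    have h1 : (1 : K) • (e a * e b) = (χ a b * χ b a) • (e a * e b) := by
      rw [one_smul, ← smul_smul, ← hχ b a, ← hχ a b]
    have h2' := congrArg (fun T => T * einv b) h1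
    simp only [smul_mul_assoc, mul_assoc, he, mul_one] at h2'
    exact (hcancel a h2').symm
  have hχmul' : ∀ a v v', χ a (v * v') = χ a v * χ a v' := by
    intro a v v'
    have h1 := hswap (v * v') a
    rw [hχmul] at h1
    refine mul_left_cancel₀ (mul_ne_zero (hχne v a) (hχne v' a)) ?_
    rw [h1]
    calc (1 : K) = (χ v a * χ a v) * (χ v' a * χ a v') := by rw [hswap, hswap, one_mul]
      _ = χ v a * χ v' a * (χ a v * χ a v') := by ring
  have hχ1 : ∀ a, χ a 1 = 1 := fun a => by
    have h := hχmul' a 1 1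
    rw [mul_one] at h
    exact (mul_eq_left₀ (hχne a 1)).1 h.symm
  have hsum0 : ∀ w : M, w ≠ 1 → ∑ a : M, χ a w = 0 := by
    intro w hw
    obtain ⟨b, hb⟩ := hχnd w hw
    have h1 : ∑ a : M, χ a w = χ b w * ∑ a : M, χ a w := by
      rw [Finset.mul_sum]
      conv_lhs => rw [← Equiv.sum_comp (Equiv.mulLeft b)]
      exact Finset.sum_congr rfl fun a _ => hχmul b a w
    by_contra hne
    exact hb ((mul_eq_right₀ hne).1 h1.symm)
  have hcjP : ∀ b v T, cj b (P v T) = χ b v • P v T := by
    intro b v T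
    rw [hP, map_smul, map_sum, smul_comm (χ b v)]
    congr 1
    rw [Finset.smul_sum]
    conv_rhs => rw [← Equiv.sum_comp (Equiv.mulLeft b)]
    refine Finset.sum_congr rfl fun a _ => ?_
    rw [map_smul, Equiv.coe_mulLeft, smul_smul]
    have hc2 : cj b (cj a T) = cj (b * a) T := by simp only [hcjd]; exact (hcj b a T).symm
    rw [hc2]
    congr 1
    rw [hχmul]
    field_simp [hχne b v]
  have hPP : ∀ w v T, P w (P v T) = if w = v then P v T else 0 := by
    intro w v T
    conv_lhs => rw [hP]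
    simp only [hcjP, smul_smul, ← Finset.sum_smul]
    have ee : ∀ a, (χ a w)⁻¹ * χ a v = χ a (w⁻¹ * v) := by
      intro a
      rw [hχmul']
      congr 1
      refine (eq_inv_of_mul_eq_one_left ?_).symm
      rw [← hχmul', inv_mul_cancel, hχ1]
    simp only [ee]
    by_cases h : w = v
    · rw [if_pos h, h, inv_mul_cancel, Finset.sum_congr rfl (fun a _ => hχ1 a), Finset.sum_const,
        Finset.card_univ, nsmul_one, ← Nat.card_eq_fintype_card, inv_mul_cancel₀ hN, one_smul]
    · rw [if_neg h, hsum0 _ (fun h' => h (inv_mul_eq_one.1 h')), mul_zero, zero_smul]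
  have htw : ∀ v U, P v (e v * U) = e v * P 1 U := by
    intro v U
    rw [hP, hP, mul_smul_comm, Finset.mul_sum]
    congr 1
    refine Finset.sum_congr rfl fun a _ => ?_
    rw [hχ1, inv_one, one_smul, hcjd, hcjd, ← mul_assoc (e a), hχ a v]
    simp only [smul_mul_assoc, smul_smul, inv_mul_cancel₀ (hχne _ _), one_smul, mul_assoc]
  have hdim : ∀ v, Module.finrank K (LinearMap.range (P v)) = Module.finrank K (LinearMap.range (P 1)) := by
    intro v
    have e' : LinearMap.range (P v) = (LinearMap.range (P 1)).map (LinearMap.mulLeft K (e v)) := by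
      apply le_antisymm
      · rintro _ ⟨T, rfl⟩
        refine ⟨P 1 (einv v * T), ⟨_, rfl⟩, ?_⟩
        show e v * P 1 (einv v * T) = P v T
        rw [← htw, ← mul_assoc, he, one_mul]
      · rintro _ ⟨_, ⟨U, rfl⟩, rfl⟩
        exact ⟨_, htw v U⟩
    rw [e']
    refine (Submodule.equivMapOfInjective _ (fun T U h => ?_) _).finrank_eq.symm
    have := congrArg (einv v * ·) h
    simpa only [LinearMap.mulLeft_apply, ← mul_assoc, he', one_mul] using this
  set e₁ := Module.finrank K (LinearMap.range (P 1)) with he₁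
  have hdec : ∀ T, ∑ v, P v T = T := by
    intro T
    simp only [hP, ← Finset.smul_sum]
    rw [Finset.sum_comm]
    simp only [← Finset.sum_smul]
    have hinv : ∀ a v, (χ a v)⁻¹ = χ v a := fun a v => by
      rw [eq_comm]; exact eq_inv_of_mul_eq_one_left (hswap v a)
    simp only [hinv]
    rw [Finset.sum_eq_single (1 : M)]
    · have hone : cj 1 T = T := by
        have h := hcj 1 1 T
        rw [one_mul] at h
        have h' := congrArg (fun Y => einv 1 * Y * e 1) h
        simp only [mul_assoc, he', mul_one] at h'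
        simp only [← mul_assoc, he', one_mul] at h'
        rw [hcjd]; exact h'.symm
      rw [hone, Finset.sum_congr rfl (fun v _ => hχ1 v), Finset.sum_const, Finset.card_univ,
        nsmul_one, ← Nat.card_eq_fintype_card, smul_smul, inv_mul_cancel₀ hN, one_smul]
    · intro a _ ha
      rw [hsum0 a ha, zero_smul]
    · simp
  have htotal : Nat.card M * e₁ = Module.finrank K V * Module.finrank K V := by
    let f : Module.End K V →ₗ[K] ((v : M) → LinearMap.range (P v)) :=
      LinearMap.pi fun v => (P v).rangeRestrict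
    have hf : Function.Bijective f := by
      constructor
      · intro T U h
        rw [← hdec T, ← hdec U]
        exact Finset.sum_congr rfl fun v _ => congrArg Subtype.val (congrFun h v)
      · intro y
        refine ⟨∑ v, (y v : Module.End K V), funext fun w => Subtype.ext ?_⟩
        show P w (∑ v, (y v : Module.End K V)) = y w
        rw [map_sum, Finset.sum_eq_single w]
        · obtain ⟨U, hU⟩ := (y w).2
          rw [← hU, hPP, if_pos rfl]
        · intro v _ hv
          obtain ⟨U, hU⟩ := (y v).2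
          rw [← hU, hPP, if_neg (Ne.symm hv)]
        · simp
    have h1 := (LinearEquiv.ofBijective f hf).finrank_eq
    rw [Module.finrank_linearMap, Module.finrank_pi_fintype] at h1
    rw [h1, Finset.sum_congr rfl (fun v _ => hdim v), Finset.sum_const, Finset.card_univ,
      smul_eq_mul, ← Nat.card_eq_fintype_card]
  -- conjugation by the operator permutes the components
  let c : Module.End K V →ₗ[K] Module.End K V :=
    (LinearMap.mulLeft K Xo).comp (LinearMap.mulRight K Xi)
  have hc : ∀ T, c T = Xo * T * Xi := fun T => (mul_assoc _ _ _).symm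
  have hcP : ∀ v T, c (P v T) = P (σ v) (c T) := by
    intro v T
    rw [hP, hP, map_smul, map_sum]
    congr 1
    conv_rhs => rw [← Equiv.sum_comp σ.toEquiv]
    refine Finset.sum_congr rfl fun a _ => ?_
    rw [map_smul, MulEquiv.toEquiv_eq_coe, MulEquiv.coe_toEquiv, hχσ]
    congr 1
    rw [hc, hc, hcjd, hcjd]
    exact hXe a T
  -- the commutant embeds in the components at the representatives
  have hcomm : Module.finrank K (HHCritical.commutant (Xo - 1)) ≤ Reps.card * e₁ := by
    let Φ : HHCritical.commutant (Xo - 1) →ₗ[K] ((r : Reps) → LinearMap.range (P r)) :=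
      (LinearMap.pi fun r : Reps => (P (r : M)).rangeRestrict).comp (HHCritical.commutant (Xo - 1)).subtype
    have hinj : Function.Injective Φ := by
      rw [← LinearMap.ker_eq_bot, LinearMap.ker_eq_bot']
      intro T hT
      have hfix : c (T : Module.End K V) = T := by
        have h := HHCritical.mem_commutant.1 T.2
        rw [sub_mul, mul_sub, one_mul, mul_one, sub_left_inj] at h
        rw [hc, h, mul_assoc, hXX, mul_one]
      have hiter : ∀ (i : ℕ) r, P r (T : Module.End K V) = 0 → P ((σ ^ i) r) (T : Module.End K V) = 0 := by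
        intro i
        induction i with
        | zero => intro r h; exact h
        | succ i ih =>
          intro r h
          rw [pow_succ', MulAut.mul_apply, ← hfix, ← hcP, ih r h, map_zero]
      refine Subtype.ext ?_
      rw [Submodule.coe_zero, ← hdec (T : Module.End K V)]
      refine Finset.sum_eq_zero fun v _ => ?_
      obtain ⟨r, hr, i, rfl⟩ := hcover v
      exact hiter i r (congrArg Subtype.val (congrFun hT ⟨r, hr⟩))
    have h := LinearMap.finrank_le_finrank_of_injective hinj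
    rwa [Module.finrank_pi_fintype, Finset.sum_congr rfl (fun (r : Reps) _ => hdim r.1),
      Finset.sum_const, Finset.card_univ, Fintype.card_coe, smul_eq_mul] at h
  have hsq := HHCritical.sq_finrank_le_mul_commutant hq
  rw [pow_two, ← htotal] at hsq
  have he1 : 0 < e₁ := Nat.pos_of_ne_zero fun h => by
    rw [h, mul_zero] at htotal
    exact (Nat.mul_pos Module.finrank_pos Module.finrank_pos).ne htotal
  refine Nat.le_of_mul_le_mul_right ?_ he1
  rw [mul_assoc]
  exact hsq.trans (Nat.mul_le_mul_left _ hcomm)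

end Count

section Arith

theorem odd_geom_sum {u k : ℕ} (hu : Odd u) (hk : Odd k) : Odd (∑ i ∈ Finset.range k, u ^ i) := by
  rw [Finset.odd_sum_iff_odd_card_odd, Finset.filter_true_of_mem fun i _ => hu.pow, Finset.card_range]
  exact hk

theorem dvd_sub_one_of_dvd_pow_sub_one {u k n : ℕ} (hu : Odd u) (hk : Odd k)
    (h : 2 ^ n ∣ u ^ k - 1) : 2 ^ n ∣ u - 1 := by
  rw [← geom_sum_mul_of_one_le hu.pos k] at h
  exact (Nat.Coprime.pow_left n (Nat.coprime_two_left.2 (odd_geom_sum hu hk))).dvd_of_dvd_mul_left h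

theorem eq_one_of_pow_eq_two_pow_sub_one {u k n : ℕ} (hu : Odd u) (hu1 : 1 < u) (hk : k ≠ 0)
    (h : u ^ k + 1 = 2 ^ n) : k = 1 := by
  rcases Nat.even_or_odd k with ⟨t, rfl⟩ | hk'
  · exfalso
    obtain ⟨r, hr⟩ := hu.pow (n := t)
    rw [pow_add, hr] at h
    have h1 : 1 < u ^ t := Nat.one_lt_pow (by omega) hu1
    rw [hr] at h1
    rcases n with _ | _ | n
    · rw [pow_zero] at h; nlinarith
    · rw [zero_add, pow_one] at h; nlinarith
    · have e : 2 ^ (n + 1 + 1) = 4 * 2 ^ n := by ring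
      rw [e] at h
      have e2 : (2 * r + 1) * (2 * r + 1) = 4 * (r * r + r) + 1 := by ring
      omega
  · have hdvd : u + 1 ∣ 2 ^ n := by
      have := hk'.nat_add_dvd_pow_add_pow u 1
      rwa [one_pow, h] at this
    obtain ⟨i, -, hi⟩ := (Nat.dvd_prime_pow Nat.prime_two).1 hdvd
    obtain ⟨c, hc⟩ := hdvd
    have hz : ((u : ℤ) + 1) * ∑ i ∈ Finset.range k, (-(u : ℤ)) ^ i = (u : ℤ) ^ k + 1 := by
      have h1 := geom_sum_mul (-(u : ℤ)) k
      rw [hk'.neg_pow] at h1
      linear_combination -h1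
    have hodd : Odd (∑ i ∈ Finset.range k, (-(u : ℤ)) ^ i) := by
      obtain ⟨j, rfl⟩ := hk'
      have hf : ∀ i, Odd ((-(u : ℤ)) ^ i) := fun i => ((Int.odd_coe_nat u).2 hu).neg.pow
      clear hz h hk
      induction j with
      | zero => simpa using hf 0
      | succ j ih =>
        rw [show 2 * (j + 1) + 1 = 2 * j + 1 + 1 + 1 by ring, Finset.sum_range_succ,
          Finset.sum_range_succ, add_assoc]
        exact ih.add_even ((hf _).add_odd (hf _))
    have hc' : (c : ℤ) = ∑ i ∈ Finset.range k, (-(u : ℤ)) ^ i := by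
      refine mul_left_cancel₀ (show (u : ℤ) + 1 ≠ 0 by positivity) ?_
      rw [hz]
      exact_mod_cast (h.trans hc).symm
    rw [← hc', Int.odd_coe_nat] at hodd
    obtain ⟨j, -, hj⟩ := (Nat.dvd_prime_pow Nat.prime_two).1 (Dvd.intro_left _ hc.symm)
    obtain rfl : j = 0 := by
      by_contra hj0
      rw [hj, Nat.odd_pow_iff hj0] at hodd
      exact absurd hodd (by decide)
    rw [pow_zero] at hj
    subst hj
    have h2 : u ^ k = u ^ 1 := by rw [pow_one]; omega
    exact Nat.pow_right_injective hu1 h2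

theorem of_pow_eq_two_pow_add_one {u k n : ℕ} (hu : Odd u) (hu1 : 1 < u) (hk : k ≠ 0)
    (h : u ^ k = 2 ^ n + 1) : k = 1 ∨ u = 3 ∧ k = 2 ∧ n = 3 := by
  rcases Nat.even_or_odd k with ⟨t, rfl⟩ | hk'
  · right
    rw [← two_mul] at hk
    have ht : t ≠ 0 := fun e => hk (by rw [e, mul_zero])
    have hv : 1 < u ^ t := Nat.one_lt_pow ht hu1
    obtain ⟨r, hr⟩ := hu.pow (n := t)
    rw [pow_add, hr] at h
    have h4 : 4 * (r * (r + 1)) = 2 ^ n := by ring_nf; ring_nf at h; omega
    have hr1 : r = 1 := by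
      obtain ⟨i, -, hi⟩ := (Nat.dvd_prime_pow Nat.prime_two).1
        (show r ∣ 2 ^ n from ⟨4 * (r + 1), by rw [← h4]; ring⟩)
      obtain ⟨j, -, hj⟩ := (Nat.dvd_prime_pow Nat.prime_two).1
        (show r + 1 ∣ 2 ^ n from ⟨4 * r, by rw [← h4]; ring⟩)
      rcases i with _ | i
      · rw [hi, pow_zero]
      · rcases j with _ | j
        · rw [pow_zero] at hj; omega
        · rw [pow_succ] at hi hj; omega
    subst hr1
    have hn : n = 3 := Nat.pow_right_injective le_rfl (show 2 ^ n = 2 ^ 3 by rw [← h4])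
    rcases t with _ | _ | t
    · omega
    · rw [pow_one] at hr
      exact ⟨by omega, rfl, hn⟩
    · exfalso
      have : 3 ^ 2 ≤ u ^ (t + 1 + 1) :=
        (Nat.pow_le_pow_left (by rcases hu with ⟨s, rfl⟩; omega) 2).trans
          (Nat.pow_le_pow_right (by omega) (by omega))
      omega
  · left
    have hdvd : 2 ^ n ∣ u - 1 := dvd_sub_one_of_dvd_pow_sub_one hu hk' ⟨1, by omega⟩
    have h1 := Nat.le_of_dvd (by omega) hdvd
    have h2 : u ^ k ≤ u ^ 1 := by rw [pow_one]; omega
    have := (Nat.pow_le_pow_iff_right hu1).1 h2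
    omega

theorem trichotomy {m u : ℕ} (hu : Odd u) (hu1 : 1 < u) (hlt : u < 2 ^ (m + 1))
    (h : 2 ^ (m + 1) ∣ u ^ 2 - 1) : u + 1 = 2 ^ m ∨ u + 1 = 2 ^ (m + 1) ∨ u = 2 ^ m + 1 := by
  obtain ⟨t, rfl⟩ := hu
  have e1 : (2 * t + 1) ^ 2 = 4 * t * (t + 1) + 1 := by ring
  rw [e1, Nat.add_sub_cancel, pow_succ] at h
  rw [pow_succ] at hlt ⊢
  have h2 : 2 ^ m ∣ 2 * t * (t + 1) := by
    refine Nat.dvd_of_mul_dvd_mul_right two_pos ?_
    rwa [show 2 * t * (t + 1) * 2 = 4 * t * (t + 1) by ring]
  rcases Nat.even_or_odd t with ht | ht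
  · obtain ⟨c, hc⟩ := (Nat.Coprime.pow_left m (Nat.coprime_two_left.2 ht.add_one)).dvd_of_dvd_mul_right h2
    rcases c with _ | _ | c
    · omega
    · exact Or.inr (Or.inr (by omega))
    · nlinarith
  · rw [mul_right_comm] at h2
    obtain ⟨c, hc⟩ := (Nat.Coprime.pow_left m (Nat.coprime_two_left.2 ht)).dvd_of_dvd_mul_right h2
    rcases c with _ | _ | _ | c
    · omega
    · exact Or.inl (by omega)
    · exact Or.inr (Or.inl (by omega))
    · nlinarith

end Arith

section Burnside

variable {M : Type*} [CommGroup M] [Finite M]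

/-- The elements fixed by an automorphism. -/
def fixd (a : MulAut M) : Subgroup M := a.toMonoidHom.eqLocus (MonoidHom.id M)

theorem mem_fixd {a : MulAut M} {v : M} : v ∈ fixd a ↔ a v = v := Iff.rfl

theorem natCard_eq_neg_mul_fixd {q : ℕ} (hq2 : Odd q) (hM : ∀ v : M, v ^ q = 1) {a : MulAut M}
    (ha : ∀ v, a (a v) = v) : Nat.card M = Nat.card (neg a) * Nat.card (fixd a) := by
  rw [← Nat.card_prod]
  refine (Nat.card_congr (Equiv.ofBijective (fun x : neg a × fixd a => (x.1 : M) * (x.2 : M))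
    ⟨?_, fun v => ?_⟩)).symm
  · rintro ⟨d, c⟩ ⟨d', c'⟩ h
    change (d : M) * c = d' * c' at h
    have h1 : (d : M) / d' = c' / c := by
      rw [div_eq_div_iff_mul_eq_mul, h, mul_comm]
    have h2 := eq_one_of_neg_fix hq2 hM ((neg a).div_mem d.2 d'.2)
      (h1 ▸ (fixd a).div_mem c'.2 c.2)
    exact Prod.ext (Subtype.ext (div_eq_one.1 h2)) (Subtype.ext (div_eq_one.1 (h1.symm.trans h2)).symm)
  · obtain ⟨d, hd, c, hc, rfl⟩ := exists_split hq2 hM ha v
    exact ⟨(⟨d, hd⟩, ⟨c, hc⟩), rfl⟩

/-- A power of an element of order `2 ^ (m + 1)` below the top fixes no more than a lower power. -/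
theorem fixd_pow_le {σ : MulAut M} {m : ℕ} (hσ : σ ^ 2 ^ (m + 1) = 1) {i : ℕ}
    (h0 : 0 < i) (hi : i < 2 ^ (m + 1)) :
    fixd (σ ^ i) ≤ fixd (σ ^ 2 ^ m) ∧ (i ≠ 2 ^ m → fixd (σ ^ i) ≤ fixd (σ ^ 2 ^ (m - 1))) := by
  suffices h : ∀ v, (σ ^ i) v = v → ∃ j ≤ m, (i ≠ 2 ^ m → j + 1 ≤ m) ∧ (σ ^ 2 ^ j) v = v by
    have hup : ∀ (v : M) (j j' : ℕ), j ≤ j' → (σ ^ 2 ^ j) v = v → (σ ^ 2 ^ j') v = v := by
      intro v j j' hjj hv
      induction j', hjj using Nat.le_induction with
      | base => exact hv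
      | succ k _ ih => rw [pow_succ, pow_mul, sq, MulAut.mul_apply, ih, ih]
    refine ⟨fun v hv => ?_, fun hne v hv => ?_⟩ <;> obtain ⟨j, hj, hj', hv'⟩ := h v hv
    · exact hup v j m hj hv'
    · exact hup v j (m - 1) (by have := hj' hne; omega) hv'
  intro v hv
  obtain ⟨j, hjn, hji, hj⟩ := HHTop.ppow_mem Nat.prime_two (n := m + 1) {k | (σ ^ k) v = v}
    (fun a ha b hb => by
      show (σ ^ (a + b)) v = v
      rw [pow_add, MulAut.mul_apply, show (σ ^ b) v = v from hb, show (σ ^ a) v = v from ha])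
    (show (σ ^ 0) v = v by rw [pow_zero]; rfl)
    (fun a b h ha => by
      show (σ ^ b) v = v
      rw [pow_eq_pow_mod b hσ, ← h, ← pow_eq_pow_mod a hσ]; exact ha)
    hv (fun h => by have := Nat.le_of_dvd h0 h; omega)
  refine ⟨j, by omega, fun hne => ?_, hj⟩
  by_contra hjm
  obtain rfl : j = m := by omega
  obtain ⟨c, hc⟩ := hji
  rw [pow_succ] at hi
  rcases c with _ | _ | c
  · omega
  · omega
  · nlinarith

/-- Burnside's count for an element of order `2 ^ (m + 1)`. -/
theorem exists_cover {σ : MulAut M} {m : ℕ} (hσ : σ ^ 2 ^ (m + 1) = 1) (hne : σ ^ 2 ^ m ≠ 1) :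
    ∃ Reps : Finset M, (∀ v : M, ∃ r ∈ Reps, ∃ i : ℕ, (σ ^ i) r = v) ∧
      ∃ Φ : ℕ → ℕ, (∀ i, Φ i = Nat.card (fixd (σ ^ i))) ∧
        Reps.card * 2 ^ (m + 1) = ∑ i ∈ Finset.range (2 ^ (m + 1)), Φ i := by
  classical
  haveI := Fintype.ofFinite M
  have ho : orderOf σ = 2 ^ (m + 1) := by
    haveI := Fact.mk Nat.prime_two
    exact orderOf_eq_prime_pow hne hσ
  haveI : Fintype (Subgroup.zpowers σ) := Fintype.ofFinite _
  refine ⟨Finset.univ.image fun x : MulAction.orbitRel.Quotient (Subgroup.zpowers σ) M => x.out,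
    fun v => ?_, fun i => Nat.card (fixd (σ ^ i)), fun i => rfl, ?_⟩
  · obtain ⟨⟨g, hg⟩, hgv⟩ : v ∈ MulAction.orbit (Subgroup.zpowers σ)
        (Quotient.out (Quotient.mk (MulAction.orbitRel (Subgroup.zpowers σ) M) v)) :=
      MulAction.orbitRel_apply.1 ((MulAction.orbitRel (Subgroup.zpowers σ) M).iseqv.symm
        (Quotient.mk_out (s := MulAction.orbitRel (Subgroup.zpowers σ) M) v))
    obtain ⟨i, rfl⟩ := mem_powers_iff_mem_zpowers.2 hg
    exact ⟨_, Finset.mem_image.2 ⟨_, Finset.mem_univ _, rfl⟩, i, hgv⟩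
  · have hB := MulAction.sum_card_fixedBy_eq_card_orbits_mul_card_group (Subgroup.zpowers σ) M
    simp only [Fintype.card_eq_nat_card, Nat.card_zpowers] at hB
    rw [Finset.card_image_of_injective _ Quotient.out_injective, Finset.card_univ,
      Fintype.card_eq_nat_card, ← ho]
    refine hB.symm.trans ?_
    let f : Fin (2 ^ (m + 1)) ≃ Subgroup.zpowers σ :=
      (finCongr ho.symm).trans (finEquivZPowers (isOfFinOrder_of_finite σ))
    rw [ho, Finset.sum_range, ← Equiv.sum_comp f]
    refine Finset.sum_congr rfl fun i _ => ?_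
    refine Nat.card_congr (Equiv.subtypeEquivRight fun v => ?_)
    rw [MulAction.mem_fixedBy, Subgroup.smul_def, show ((f i : Subgroup.zpowers σ) : MulAut M) = σ ^ (i : ℕ) from rfl,
      mem_fixd]
    rfl

/-- Automorphisms of `2`-power order free outside the identity. -/
theorem pow_dvd_natCard_sub_one {σ : MulAut M} {m : ℕ} (hσ : σ ^ 2 ^ (m + 1) = 1)
    (hfree : ∀ v, (σ ^ 2 ^ m) v = v → v = 1) (hM : 1 < Nat.card M) :
    2 ^ (m + 1) ∣ Nat.card M - 1 := by
  have hne : σ ^ 2 ^ m ≠ 1 := by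
    intro h
    haveI : Subsingleton M := ⟨fun v w => by
      rw [hfree v (by rw [h]; rfl), hfree w (by rw [h]; rfl)]⟩
    rw [Nat.card_of_subsingleton (1 : M)] at hM
    omega
  obtain ⟨R, -, Φ, hΦ, hR⟩ := exists_cover hσ hne
  have h0 : Φ 0 = Nat.card M := by
    rw [hΦ, pow_zero, show fixd (1 : MulAut M) = ⊤ from eq_top_iff.2 fun v _ => rfl, Subgroup.card_top]
  have h1 : ∀ i ∈ (Finset.range (2 ^ (m + 1))).erase 0, Φ i = 1 := by
    intro i hi
    rw [Finset.mem_erase, Finset.mem_range] at hi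
    rw [hΦ, Subgroup.card_eq_one, Subgroup.eq_bot_iff_forall]
    exact fun v hv => hfree v ((fixd_pow_le hσ (by omega) hi.2).1 hv)
  rw [← Finset.add_sum_erase _ _ (Finset.mem_range.2 (pow_pos two_pos _)), Finset.sum_congr rfl h1,
    h0, Finset.sum_const, smul_eq_mul, mul_one, Finset.card_erase_of_mem
      (Finset.mem_range.2 (pow_pos two_pos _)), Finset.card_range] at hR
  have hd : 2 ^ (m + 1) ∣ Nat.card M + (2 ^ (m + 1) - 1) := hR ▸ dvd_mul_left _ _
  rw [show Nat.card M + (2 ^ (m + 1) - 1) = Nat.card M - 1 + 2 ^ (m + 1) by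
    have := Nat.one_le_two_pow (n := m + 1); omega] at hd
  exact Nat.dvd_add_self_right.1 hd

end Burnside

end CfsgLib.Core.HHTwo
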