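import Mathlib
import Cfsg.Agent.Lib.Core.HHCritical.TwoTops.Displacement
import Cfsg.Agent.Lib.Core.CriticalSubgroup

/-!
# Exceptional elements of `2`-power order

* `exc_of_small`: on a nondegenerate projectively represented abelian group of odd prime exponent
  `q`, an operator of order `2 ^ (m + 1)` whose minimal polynomial has degree less than `2 ^ (m + 1)`
  moves a plane only and `q + 1 = 2 ^ (m + 1)`
* `good_pow_of_exc`: such an operator has a good power
-/

set_option autoImplicit false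
set_option linter.all false

namespace CfsgLib.Core.HHTwo

open Subgroup

variable {M : Type*} [CommGroup M] [Finite M] {K : Type*} [Field K]

/-- The alternating nondegenerate pairing preserved by `σ`. -/
structure Pairing (χ : M → M → K) (σ : MulAut M) : Prop where
  mul : ∀ a a' v, χ (a * a') v = χ a v * χ a' v
  ne : ∀ a v, χ a v ≠ 0
  nd : ∀ w, w ≠ 1 → ∃ b, χ b w ≠ 1
  swap : ∀ a b, χ a b * χ b a = 1
  self : ∀ a, χ a a = 1
  inv' : ∀ a v, χ (σ a) (σ v) = χ a v

namespace Pairing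

variable {χ : M → M → K} {σ : MulAut M}

theorem one_left (h : Pairing χ σ) (v : M) : χ 1 v = 1 :=
  (mul_eq_left₀ (h.ne 1 v)).1 (by rw [← h.mul, one_mul])

theorem pow_left (h : Pairing χ σ) (a v : M) (n : ℕ) : χ (a ^ n) v = χ a v ^ n := by
  induction n with
  | zero => rw [pow_zero, pow_zero, h.one_left]
  | succ n ih => rw [pow_succ, h.mul, ih, pow_succ]

theorem inv_left (h : Pairing χ σ) (a v : M) : χ a⁻¹ v * χ a v = 1 := by
  rw [← h.mul, inv_mul_cancel, h.one_left]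

theorem eq_one_swap (h : Pairing χ σ) {a b : M} (hab : χ a b = 1) : χ b a = 1 := by
  have := h.swap a b
  rwa [hab, one_mul] at this

theorem mul_right (h : Pairing χ σ) (a v v' : M) : χ a (v * v') = χ a v * χ a v' := by
  have h1 := h.swap (v * v') a
  rw [h.mul] at h1
  refine mul_left_cancel₀ (mul_ne_zero (h.ne v a) (h.ne v' a)) ?_
  rw [h1]
  calc (1 : K) = (χ v a * χ a v) * (χ v' a * χ a v') := by rw [h.swap, h.swap, one_mul]
    _ = χ v a * χ v' a * (χ a v * χ a v') := by ring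

theorem pow_inv' (h : Pairing χ σ) (n : ℕ) : ∀ a v, χ ((σ ^ n) a) ((σ ^ n) v) = χ a v := by
  induction n with
  | zero => intro a v; rfl
  | succ n ih => intro a v; rw [pow_succ, MulAut.mul_apply, MulAut.mul_apply, ih, h.inv']

/-- The radical is trivial. -/
theorem false_of_isotropic (h : Pairing χ σ) {q m : ℕ} (hq2 : Odd q) (hM : ∀ v : M, v ^ q = 1)
    (ha : ∀ v, (σ ^ 2 ^ m) ((σ ^ 2 ^ m) v) = v) {d : M} (hd : d ∈ neg (σ ^ 2 ^ m)) (hd1 : d ≠ 1)
    (hiso : ∀ b ∈ neg (σ ^ 2 ^ m), χ b d = 1) : False := by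
  obtain ⟨b, hb⟩ := h.nd d hd1
  obtain ⟨b1, hb1, c, hc, rfl⟩ := exists_split hq2 hM ha b
  refine hb ?_
  rw [h.mul, hiso b1 hb1, one_mul]
  refine h.eq_one_swap ?_
  have h1 : χ d⁻¹ c = χ d c := by
    have := h.pow_inv' (2 ^ m) d c
    rwa [mem_neg'.1 hd, hc] at this
  have h2 := h.inv_left d c
  rw [h1, ← pow_two] at h2
  have h3 : χ d c ^ q = 1 := by rw [← h.pow_left, hM, h.one_left]
  obtain ⟨k, hk⟩ := hq2
  rwa [hk, pow_succ, pow_mul, h2, one_pow, one_mul] at h3

end Pairing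

theorem coe_res_pow {D : Subgroup M} {σ : MulAut M} (hD : ∀ u ∈ D, σ u ∈ D) (i : ℕ) (u : D) :
    (((CfsgLib.Core.HH.res D σ hD ^ i) u : D) : M) = (σ ^ i) u := by
  induction i with
  | zero => rfl
  | succ i ih =>
    rw [pow_succ', MulAut.mul_apply, CfsgLib.Core.HH.coe_res, ih, pow_succ', MulAut.mul_apply]

/-- Invariant subgroups of the inverted part. -/
theorem pow_dvd_sub_one_of_le_neg {q m : ℕ} (hq2 : Odd q) (hM : ∀ v : M, v ^ q = 1) {σ : MulAut M}
    (hσ : σ ^ 2 ^ (m + 1) = 1) {L : Subgroup M} (hL : ∀ u ∈ L, σ u ∈ L)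
    (hle : L ≤ neg (σ ^ 2 ^ m)) (hL1 : 1 < Nat.card L) : 2 ^ (m + 1) ∣ Nat.card L - 1 := by
  refine pow_dvd_natCard_sub_one (σ := CfsgLib.Core.HH.res L σ hL)
    (MulEquiv.ext fun u => Subtype.ext (by rw [coe_res_pow, hσ]; rfl)) (fun u hu => Subtype.ext ?_) hL1
  have h1 := congrArg Subtype.val hu
  rw [coe_res_pow] at h1
  exact eq_one_of_neg_fix hq2 hM (hle u.2) h1

variable [hqf : Fact (Nat.Prime 2)]

theorem natCard_of_exponent {q : ℕ} (hq : q.Prime) (hM : ∀ v : M, v ^ q = 1) (L : Subgroup M) :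
    ∃ j, Nat.card L = q ^ j := by
  haveI := Fact.mk hq
  exact IsPGroup.iff_card.1 (fun u => ⟨1, Subtype.ext (by rw [pow_one, coe_pow, hM]; rfl)⟩)

theorem sq_apply_of_pow (σ : MulAut M) {m : ℕ} (hσ : σ ^ 2 ^ (m + 1) = 1) (v : M) :
    (σ ^ 2 ^ m) ((σ ^ 2 ^ m) v) = v := by
  rw [← MulAut.mul_apply, ← pow_add, ← two_mul, ← pow_succ', hσ]; rfl

theorem apply_mem_neg (σ : MulAut M) (k : ℕ) {v : M} (hv : v ∈ neg (σ ^ k)) : σ v ∈ neg (σ ^ k) := by
  rw [mem_neg'] at hv ⊢
  rw [← MulAut.mul_apply, ← pow_succ, pow_succ', MulAut.mul_apply, hv, map_inv]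

/-- Degree two: the order divides `q + 1`. -/
theorem Pairing.pow_dvd_add_one {χ : M → M → K} {σ : MulAut M} (h : Pairing χ σ) {q m : ℕ}
    (hq : q.Prime) (hq2 : Odd q) (hM : ∀ v : M, v ^ q = 1) (hσ : σ ^ 2 ^ (m + 1) = 1)
    (hD : Nat.card (neg (σ ^ 2 ^ m)) = q ^ 2) (hbig : q < 2 ^ (m + 1)) : 2 ^ (m + 1) ∣ q + 1 := by
  haveI := Fact.mk hq
  have ha := sq_apply_of_pow σ hσ
  set D := neg (σ ^ 2 ^ m) with hDdef
  have hDinv : ∀ u ∈ D, σ u ∈ D := fun u hu => apply_mem_neg σ _ hu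
  haveI : Nontrivial D := Finite.one_lt_card_iff_nontrivial.1
    (by rw [hD]; exact Nat.one_lt_pow two_ne_zero hq.one_lt)
  obtain ⟨⟨x, hx⟩, hx1⟩ := exists_ne (1 : D)
  replace hx1 : x ≠ 1 := fun e => hx1 (Subtype.ext e)
  have hox : orderOf x = q := orderOf_eq_prime (hM x) hx1
  set y := σ x with hy
  have hyD : y ∈ D := hDinv x hx
  have hyx : y ∉ zpowers x := by
    intro hyz
    have hd := pow_dvd_sub_one_of_le_neg hq2 hM hσ (L := zpowers x) (fun u hu => by
      obtain ⟨i, rfl⟩ := mem_zpowers_iff.1 hu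
      rw [map_zpow]; exact zpow_mem hyz i) (zpowers_le.2 hx)
      (by rw [Nat.card_zpowers, hox]; exact hq.one_lt)
    rw [Nat.card_zpowers, hox] at hd
    have := Nat.le_of_dvd (by have := hq.two_le; omega) hd
    omega
  have hspan : zpowers x ⊔ zpowers y = D := by
    refine Subgroup.eq_of_le_of_card_ge (sup_le (zpowers_le.2 hx) (zpowers_le.2 hyD)) ?_
    obtain ⟨j, hj⟩ := natCard_of_exponent hq hM (zpowers x ⊔ zpowers y)
    rw [hD, hj]
    refine Nat.pow_le_pow_right hq.pos ?_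
    by_contra hj2
    have hle : Nat.card (zpowers x ⊔ zpowers y : Subgroup M) ≤ Nat.card (zpowers x) := by
      rw [hj, Nat.card_zpowers, hox]
      exact (Nat.pow_le_pow_right hq.pos (by omega : j ≤ 1)).trans_eq (pow_one q)
    exact hyx (Subgroup.eq_of_le_of_card_ge le_sup_left hle ▸ mem_sup_right (mem_zpowers y))
  have hgen : ∀ v ∈ D, ∃ a b : ℕ, x ^ a * y ^ b = v := by
    intro v hv
    obtain ⟨v1, h1, v2, h2, rfl⟩ := Subgroup.mem_sup.1 (hspan.symm ▸ hv : v ∈ zpowers x ⊔ zpowers y)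
    obtain ⟨a, rfl⟩ := mem_powers_iff_mem_zpowers.2 h1
    obtain ⟨b, rfl⟩ := mem_powers_iff_mem_zpowers.2 h2
    exact ⟨a, b, rfl⟩
  -- the pairing
  have hxy : χ x y ≠ 1 := by
    intro hxy
    refine h.false_of_isotropic hq2 hM ha hx hx1 fun b hb => ?_
    obtain ⟨i, j, rfl⟩ := hgen b hb
    rw [h.mul, h.pow_left, h.pow_left, h.self, h.eq_one_swap hxy, one_pow, one_pow, one_mul]
  obtain ⟨α, β, hαβ⟩ := hgen (σ y) (hDinv y hyD)
  have hα : x ^ α = x⁻¹ := by
    have h1 : χ x y ^ (α + 1) = 1 := by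
      have h2 : χ (σ y) (σ x) = χ y x := h.inv' y x
      rw [← hy, ← hαβ, h.mul, h.pow_left, h.pow_left, h.self, one_pow, mul_one] at h2
      rw [pow_succ, h2, h.swap]
    have hox' : orderOf (χ x y) = q :=
      orderOf_eq_prime (by rw [← h.pow_left, hM, h.one_left]) hxy
    rw [← orderOf_dvd_iff_pow_eq_one, hox'] at h1
    exact eq_inv_of_mul_eq_one_left (by rw [← pow_succ, ← orderOf_dvd_iff_pow_eq_one, hox]; exact h1)
  rw [hα] at hαβ
  -- the quadratic relation
  have hquad : ∀ v ∈ D, σ (σ v) * v = σ v ^ β := by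
    intro v hv
    obtain ⟨i, j, rfl⟩ := hgen v hv
    have e1 : σ (σ x) * x = σ x ^ β := by
      rw [← hy, ← hαβ, mul_right_comm, inv_mul_cancel, one_mul]
    have e2 : σ (σ y) * y = σ y ^ β := by
      have := congrArg σ e1
      rwa [map_mul, map_pow] at this
    simp only [map_mul, map_pow]
    rw [mul_mul_mul_comm, ← mul_pow, ← mul_pow, e1, e2, mul_pow, ← pow_mul, ← pow_mul, ← pow_mul,
      ← pow_mul, mul_comm β, mul_comm β]
  -- Frobenius
  let E := AddMonoid.End (Additive D)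
  let S : E := MonoidHom.toAdditive (CfsgLib.Core.HH.res D σ hDinv).toMonoidHom
  have hS : ∀ (n : ℕ) (v : D), (((S ^ n) (Additive.ofMul v)).toMul : M) = (σ ^ n) v := by
    intro n
    induction n with
    | zero => intro v; rfl
    | succ n ih =>
      intro v
      rw [pow_succ', pow_succ', MulAut.mul_apply, ← ih v]
      rfl
  have hSq : S ^ 2 + 1 = (β : E) * S := by
    refine DFunLike.ext _ _ fun w => ?_
    obtain ⟨v, rfl⟩ := Additive.ofMul.surjective w
    apply Additive.toMul.injective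
    apply Subtype.ext
    show (((S ^ 2) (Additive.ofMul v)).toMul : M) * (v : M) =
      (((β : E) (S (Additive.ofMul v))).toMul : M)
    rw [hS, sq σ, MulAut.mul_apply, hquad _ v.2, show ((β : E) (S (Additive.ofMul v))) =
      β • S (Additive.ofMul v) from rfl, toMul_nsmul, Subgroup.coe_pow]
    rfl
  haveI : Nontrivial E := by
    refine ⟨⟨0, 1, fun e => ?_⟩⟩
    obtain ⟨v, hv⟩ := exists_ne (0 : Additive D)
    exact hv (DFunLike.congr_fun e v).symm
  haveI : CharP E q := (CharP.charP_iff_prime_eq_zero hq).2 (DFunLike.ext _ _ fun w => by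
    show q • w = 0
    exact Additive.toMul.injective (Subtype.ext (by rw [toMul_nsmul, Subgroup.coe_pow, hM]; rfl)))
  have hβ : (β : E) ^ q = (β : E) := by
    rw [← Nat.cast_pow, CharP.natCast_eq_natCast E q, ← ZMod.natCast_eq_natCast_iff, Nat.cast_pow,
      ZMod.pow_card]
  have hfr : S ^ (2 * q) + 1 = (β : E) * S ^ q := by
    have h1 := congrArg (· ^ q) hSq
    simp only [add_pow_char_of_commute (p := q) (Commute.one_right (S ^ 2)), one_pow, ← pow_mul,
      (Nat.cast_commute β S).mul_pow, hβ] at h1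
    exact h1
  obtain ⟨k, hk⟩ : ∃ k, q = k + 1 := ⟨q - 1, by have := hq.two_le; omega⟩
  have hprod : (S ^ (q + 1) - 1) * (S ^ k - 1) = 0 := by
    have e : (β : E) * S ^ q = S ^ (q + 1) + S ^ k := by
      rw [hk, pow_succ', ← mul_assoc, ← hSq, add_mul, one_mul, ← pow_add]
      congr 2
      omega
    rw [e] at hfr
    rw [sub_mul, mul_sub, mul_one, one_mul, ← pow_add, show q + 1 + k = 2 * q by omega,
      show S ^ (2 * q) - S ^ (q + 1) - (S ^ k - 1) = S ^ (2 * q) + 1 - (S ^ (q + 1) + S ^ k) by abel,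
      hfr, sub_self]
  have hord : ∀ (n : ℕ) (v : M), v ∈ D → v ≠ 1 → (σ ^ n) v = v → 2 ^ (m + 1) ∣ n := by
    intro n v hv hv1 hfix
    rw [pow_eq_pow_mod n hσ] at hfix
    by_contra hnd
    have hpos : 0 < n % 2 ^ (m + 1) := Nat.pos_of_ne_zero fun e => hnd (Nat.dvd_of_mod_eq_zero e)
    exact hv1 (eq_one_of_neg_fix hq2 hM hv
      ((fixd_pow_le hσ hpos (Nat.mod_lt _ (pow_pos two_pos _))).1 hfix))
  by_cases hall : ∀ v : D, (σ ^ k) v = v
  · exfalso
    have := Nat.le_of_dvd (by have := hq.two_le; omega) (hord k x hx hx1 (hall ⟨x, hx⟩))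
    omega
  · push Not at hall
    obtain ⟨v, hv⟩ := hall
    set e := (S ^ k - 1) (Additive.ofMul v) with he
    have he1 : (e.toMul : M) ≠ 1 := by
      intro h0
      refine hv ?_
      have h1 : (((S ^ k) (Additive.ofMul v)).toMul : M) / (v : M) = 1 := h0
      rw [div_eq_one, hS] at h1
      exact h1
    refine hord (q + 1) _ e.toMul.2 he1 ?_
    have h1 := DFunLike.congr_fun hprod (Additive.ofMul v)
    change (S ^ (q + 1)) e - e = 0 at h1
    rw [sub_eq_zero] at h1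
    conv_rhs => rw [← h1]
    exact (hS (q + 1) e.toMul).symm

/-- The case `q = 3` and order `16` does not occur. -/
theorem Pairing.not_three {χ : M → M → K} {σ : MulAut M} (h : Pairing χ σ)
    (hM : ∀ v : M, v ^ 3 = 1) (hσ : σ ^ 2 ^ (3 + 1) = 1)
    (hD : Nat.card (neg (σ ^ 2 ^ 3)) = 3 ^ 4) : False := by
  have hq2 : Odd 3 := by decide
  have ha := sq_apply_of_pow σ hσ
  set D := neg (σ ^ 2 ^ 3) with hDdef
  have hDinv : ∀ (i : ℕ), ∀ u ∈ D, (σ ^ i) u ∈ D := by
    intro i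
    induction i with
    | zero => intro u hu; exact hu
    | succ i ih => intro u hu; rw [pow_succ', MulAut.mul_apply]; exact apply_mem_neg σ _ (ih u hu)
  haveI : Nontrivial D := Finite.one_lt_card_iff_nontrivial.1 (by rw [hD]; norm_num)
  obtain ⟨⟨d, hd⟩, hd1⟩ := exists_ne (1 : D)
  replace hd1 : d ≠ 1 := fun e => hd1 (Subtype.ext e)
  -- a vector killed by one of the two factors of `X ^ 8 + 1`
  obtain ⟨x, hx, hx1, hrel⟩ : ∃ x ∈ D, x ≠ 1 ∧
      ((σ ^ 4) x = (σ ^ 2) x * x ∨ (σ ^ 4) x = ((σ ^ 2) x)⁻¹ * x) := by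
    by_cases h0 : (σ ^ 4) d * (σ ^ 2) d / d = 1
    · exact ⟨d, hd, hd1, Or.inr (by
        rw [div_eq_one] at h0
        rw [eq_inv_mul_iff_mul_eq, mul_comm, h0])⟩
    refine ⟨(σ ^ 4) d * (σ ^ 2) d / d, D.div_mem (D.mul_mem (hDinv 4 d hd) (hDinv 2 d hd)) hd, h0,
      Or.inl ?_⟩
    have e8 : (σ ^ 8) d * d = 1 := mem_neg.1 hd
    have e : ∀ i j : ℕ, (σ ^ i) ((σ ^ j) d) = (σ ^ (i + j)) d := fun i j => by
      rw [pow_add, MulAut.mul_apply]
    simp only [map_div, map_mul, e]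
    have e3 : (σ ^ 4) d * (σ ^ 4) d * (σ ^ 4) d = 1 := by
      rw [← sq, ← pow_succ]; exact hM _
    rw [← div_eq_one]
    calc _ = ((σ ^ 8) d * d) / ((σ ^ 4) d * (σ ^ 4) d * (σ ^ 4) d) := by
          simp only [Nat.reduceAdd, div_eq_mul_inv, mul_inv_rev, inv_inv]
          apply Additive.ofMul.injective
          simp only [ofMul_mul, ofMul_inv]
          abel
      _ = 1 := by rw [e8, e3, div_one]
  -- the pairing along the orbit
  let c : ℕ → K := fun j => χ ((σ ^ j) x) x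
  have hc : ∀ i j, χ ((σ ^ (i + j)) x) ((σ ^ i) x) = c j := fun i j => by
    rw [pow_add, MulAut.mul_apply]; exact h.pow_inv' i _ x
  have hc' : ∀ i j, χ ((σ ^ i) x) ((σ ^ (i + j)) x) * c j = 1 := fun i j => by
    rw [← hc i j]; exact h.swap _ _
  have hc0 : c 0 = 1 := h.self x
  have hcube : ∀ j, c j ^ 3 = 1 := fun j => by rw [← h.pow_left, hM, h.one_left]
  have hcinv : ∀ j, c j * c j = 1 → c j = 1 := fun j hj => by
    have := hcube j
    rwa [pow_succ, pow_two, hj, one_mul] at this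
  -- split the rule at a point
  have hA : ∀ k, c (4 - k) = χ ((σ ^ 4) x) ((σ ^ k) x) → True := fun _ _ => trivial
  have p42 : χ ((σ ^ 4) x) ((σ ^ 2) x) = c 2 := hc 2 2
  have p41 : χ ((σ ^ 4) x) ((σ ^ 1) x) = c 3 := hc 1 3
  have p43 : χ ((σ ^ 4) x) ((σ ^ 3) x) = c 1 := hc 3 1
  have p22 : χ ((σ ^ 2) x) ((σ ^ 2) x) = 1 := h.self _
  have p21 : χ ((σ ^ 2) x) ((σ ^ 1) x) = c 1 := hc 1 1
  have p23 : χ ((σ ^ 2) x) ((σ ^ 3) x) * c 1 = 1 := hc' 2 1
  have p02 : χ x ((σ ^ 2) x) * c 2 = 1 := h.swap x ((σ ^ 2) x)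
  have p01 : χ x ((σ ^ 1) x) * c 1 = 1 := h.swap x ((σ ^ 1) x)
  have p03 : χ x ((σ ^ 3) x) * c 3 = 1 := h.swap x ((σ ^ 3) x)
  have hc1 : c 1 = 1 ∧ c 2 = 1 ∧ c 3 = 1 := by
    rcases hrel with hr | hr
    · rw [hr, h.mul] at p42 p41 p43
      have h2 : c 2 = 1 := by
        rw [p22, one_mul] at p42
        rw [p42] at p02
        exact hcinv 2 p02
      have h3 : c 3 = 1 := by
        rw [p21] at p41
        rw [mul_comm, p01] at p41
        exact p41.symm
      have h1 : c 1 = 1 := by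
        rw [h3, mul_one] at p03
        rw [p03, mul_one] at p43
        rw [p43] at p23
        exact hcinv 1 p23
      exact ⟨h1, h2, h3⟩
    · rw [hr, h.mul] at p42 p41 p43
      have i2 : χ ((σ ^ 2) x)⁻¹ ((σ ^ 2) x) = 1 := by
        have := h.inv_left ((σ ^ 2) x) ((σ ^ 2) x)
        rwa [p22, mul_one] at this
      have i1 : χ ((σ ^ 2) x)⁻¹ ((σ ^ 1) x) * c 1 = 1 := p21 ▸ h.inv_left _ _
      have i3 : χ ((σ ^ 2) x)⁻¹ ((σ ^ 3) x) = c 1 := by
        have h1 := h.inv_left ((σ ^ 2) x) ((σ ^ 3) x)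
        calc χ ((σ ^ 2) x)⁻¹ ((σ ^ 3) x) = χ ((σ ^ 2) x)⁻¹ ((σ ^ 3) x) * (χ ((σ ^ 2) x) ((σ ^ 3) x) * c 1) := by
              rw [p23, mul_one]
          _ = c 1 := by rw [← mul_assoc, h1, one_mul]
      have h2 : c 2 = 1 := by
        rw [i2, one_mul] at p42
        rw [p42] at p02
        exact hcinv 2 p02
      have h3 : χ x ((σ ^ 3) x) = 1 := by
        rw [i3] at p43
        exact (mul_eq_left₀ (h.ne _ _)).1 p43
      rw [h3, one_mul] at p03
      have h1 : c 1 = 1 := by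
        refine hcinv 1 ?_
        calc c 1 * c 1 = (χ ((σ ^ 2) x)⁻¹ ((σ ^ 1) x) * χ x ((σ ^ 1) x)) * (c 1 * c 1) := by
              rw [p41, p03, one_mul]
          _ = (χ ((σ ^ 2) x)⁻¹ ((σ ^ 1) x) * c 1) * (χ x ((σ ^ 1) x) * c 1) := by ring
          _ = 1 := by rw [i1, p01, one_mul]
      exact ⟨h1, h2, p03⟩
  -- the invariant subgroup generated by `x`
  set L := closure {v | ∃ j < 4, v = (σ ^ j) x} with hL
  have hgen : ∀ j, j < 4 → (σ ^ j) x ∈ L := fun j hj => subset_closure ⟨j, hj, rfl⟩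
  have hLinv : ∀ u ∈ L, σ u ∈ L := by
    have : L ≤ L.comap σ.toMonoidHom := by
      rw [hL, closure_le]
      rintro _ ⟨j, hj, rfl⟩
      show σ ((σ ^ j) x) ∈ L
      rw [← MulAut.mul_apply, ← pow_succ']
      by_cases hj3 : j + 1 < 4
      · exact hgen _ hj3
      · rw [show j + 1 = 4 by omega]
        rcases hrel with hr | hr <;> rw [hr]
        · exact mul_mem (hgen 2 (by norm_num)) (hgen 0 (by norm_num))
        · exact mul_mem (inv_mem (hgen 2 (by norm_num))) (hgen 0 (by norm_num))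
    exact fun u hu => this hu
  have hLD : L ≤ D := by
    rw [hL, closure_le]
    rintro _ ⟨j, -, rfl⟩
    exact hDinv j x hx
  have hLcard : Nat.card D ≤ Nat.card L := by
    obtain ⟨j, hj⟩ := natCard_of_exponent Nat.prime_three hM L
    have h1 : 1 < Nat.card L := by
      haveI : Nontrivial L := ⟨⟨⟨x, hgen 0 (by norm_num)⟩, 1, fun e => hx1 (congrArg Subtype.val e)⟩⟩
      exact Finite.one_lt_card
    have h2 := pow_dvd_sub_one_of_le_neg hq2 hM hσ hLinv hLD h1
    have hle : Nat.card L ≤ 3 ^ 4 := hD ▸ Subgroup.card_le_of_le hLD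
    rw [hD, hj]
    rw [hj] at h1 h2 hle
    have hj4 : j ≤ 4 := (Nat.pow_le_pow_iff_right (by norm_num)).1 hle
    interval_cases j <;> revert h1 h2 <;> norm_num
  have hLeq : L = D := Subgroup.eq_of_le_of_card_ge hLD hLcard
  refine h.false_of_isotropic hq2 hM ha hx hx1 fun b hb => ?_
  rw [← hDdef, ← hLeq] at hb
  induction hb using closure_induction with
  | mem v hv =>
    obtain ⟨j, hj, rfl⟩ := hv
    show c j = 1
    interval_cases j
    exacts [hc0, hc1.1, hc1.2.1, hc1.2.2]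
  | one => exact h.one_left x
  | mul v v' _ _ hv hv' => rw [h.mul, hv, hv', one_mul]
  | inv v _ hv =>
    have := h.inv_left v x
    rwa [hv, mul_one] at this

variable {V : Type*} [AddCommGroup V] [Module K V] [FiniteDimensional K V]

/-- Exceptional elements move a plane only. -/
theorem exc_of_small {q m : ℕ} (hq : q.Prime) (hq2 : Odd q) (hM : ∀ v : M, v ^ q = 1)
    (e : M → Module.End K V) (einv : M → Module.End K V) (he : ∀ v, e v * einv v = 1)
    (he' : ∀ v, einv v * e v = 1)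
    (χ : M → M → K) (hχ : ∀ a v, e a * e v = χ a v • (e v * e a))
    (hχmul : ∀ a a' v, χ (a * a') v = χ a v * χ a' v)
    (hχne : ∀ a v, χ a v ≠ 0)
    (hχnd : ∀ w, w ≠ 1 → ∃ b, χ b w ≠ 1)
    (hcj : ∀ a b T, e (a * b) * T * einv (a * b) = e a * (e b * T * einv b) * einv a)
    (hN : (Nat.card M : K) ≠ 0) (σ : MulAut M) (hσ : σ ^ 2 ^ (m + 1) = 1)
    (Xo Xi : Module.End K V) (hXX : Xo * Xi = 1) (hXX' : Xi * Xo = 1)
    (hs : (Xo - 1) ^ (2 ^ (m + 1) - 1) = 0)
    (hχσ : ∀ a v, χ (σ a) (σ v) = χ a v)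
    (hXe : ∀ a T, Xo * (e a * T * einv a) * Xi = e (σ a) * (Xo * T * Xi) * einv (σ a))
    [Nontrivial V] :
    σ ^ 2 ^ m = 1 ∨ (q + 1 = 2 ^ (m + 1) ∧ 1 ≤ m ∧ (∀ v, (σ ^ 2 ^ m) v = v → σ v = v) ∧
      Nat.card (neg (σ ^ 2 ^ m)) = q ^ 2) := by
  classical
  by_cases hne : σ ^ 2 ^ m = 1
  · exact Or.inl hne
  right
  have hcan : ∀ a b : M, ∀ c : K, e a * e b = c • (e a * e b) → c = 1 := by
    intro a b c h
    obtain ⟨v, hv⟩ := exists_ne (0 : V)
    have h1 := congrArg (fun T => einv b * (einv a * T)) h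
    simp only [mul_smul_comm, ← mul_assoc (einv a), he', one_mul] at h1
    have h2 := LinearMap.congr_fun h1 v
    rw [LinearMap.smul_apply, Module.End.one_apply] at h2
    exact (smul_left_injective K hv (by simpa using h2.symm) : c = 1)
  have hpair : Pairing χ σ := by
    refine ⟨hχmul, hχne, hχnd, fun a b => hcan a b _ ?_, fun a => hcan a a _ (hχ a a), hχσ⟩
    rw [← smul_smul, ← hχ b a, ← hχ a b]
  have ha := sq_apply_of_pow σ hσ
  set D := neg (σ ^ 2 ^ m) with hD
  set C := fixd (σ ^ 2 ^ m) with hC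
  have hMD : Nat.card M = Nat.card D * Nat.card C := natCard_eq_neg_mul_fixd hq2 hM ha
  obtain ⟨Reps, hcov, Φ, hΦ, hR⟩ := exists_cover hσ hne
  have hcount := card_le_mul_cover e einv he he' χ hχ hχmul hχne hχnd hcj hN σ Xo Xi hXX hXX' hs
    hχσ hXe Reps hcov
  set P := 2 ^ (m + 1) with hPdef
  have hP2 : 2 ≤ P := by rw [hPdef, pow_succ]; have := Nat.one_le_two_pow (n := m); omega
  set C' := fixd (σ ^ 2 ^ (m - 1)) with hC'
  -- the main inequality
  have h0 : Φ 0 = Nat.card M := by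
    rw [hΦ, pow_zero, show fixd (1 : MulAut M) = ⊤ from eq_top_iff.2 fun v _ => rfl,
      Subgroup.card_top]
  have hmP : 2 ^ m < P := by rw [hPdef]; exact Nat.pow_lt_pow_right one_lt_two (by omega)
  have hm0 : 2 ^ m ∈ (Finset.range P).erase 0 :=
    Finset.mem_erase.2 ⟨(pow_pos two_pos m).ne', Finset.mem_range.2 hmP⟩
  have hbase : Nat.card D * Nat.card C ≤ (P - 1) * ∑ i ∈ (Finset.range P).erase 0, Φ i := by
    rw [← Finset.add_sum_erase _ _ (Finset.mem_range.2 (by omega : 0 < P)), h0] at hR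
    obtain ⟨w, hw⟩ : ∃ w, P = w + 1 := ⟨P - 1, by omega⟩
    have h3 := Nat.mul_le_mul_right P hcount
    rw [mul_assoc, hR, hMD] at h3
    rw [hw, Nat.add_sub_cancel] at h3 ⊢
    rw [mul_add w, mul_add (Nat.card D * Nat.card C), mul_one, mul_comm _ w] at h3
    exact Nat.le_of_add_le_add_left h3
  have hineq : Nat.card D * Nat.card C ≤
      (P - 1) * (Nat.card C + (P - 2) * Nat.card C') := by
    refine hbase.trans (Nat.mul_le_mul_left _ ?_)
    rw [← Finset.add_sum_erase _ _ hm0]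
    refine Nat.add_le_add (hΦ _).le ((Finset.sum_le_card_nsmul _ _ (Nat.card C') fun i hi => ?_).trans ?_)
    · simp only [Finset.mem_erase, Finset.mem_range] at hi
      rw [hΦ]
      exact Subgroup.card_le_of_le ((fixd_pow_le hσ (by omega) hi.2.2).2 hi.1)
    · rw [Finset.card_erase_of_mem hm0, Finset.card_erase_of_mem (Finset.mem_range.2 (by omega)),
        Finset.card_range, smul_eq_mul, show P - 1 - 1 = P - 2 by omega]
  have hC'C : C' ≤ C := by
    intro v hv
    rcases m with _ | m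
    · exact hv
    · rw [Nat.add_sub_cancel] at hC'
      rw [hC, mem_fixd, pow_succ, pow_mul, sq, MulAut.mul_apply]
      rw [hC', mem_fixd] at hv
      rw [hv, hv]
  have hCpos : 0 < Nat.card C := Nat.card_pos
  obtain ⟨w1, hw1⟩ : ∃ w, P = w + 2 := ⟨P - 2, by omega⟩
  have hDle : Nat.card D ≤ (P - 1) * (P - 1) := by
    refine Nat.le_of_mul_le_mul_right ?_ hCpos
    refine hineq.trans ?_
    rw [mul_assoc]
    refine Nat.mul_le_mul_left _ ?_
    have := Nat.mul_le_mul_left (P - 2) (Subgroup.card_le_of_le hC'C)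
    rw [hw1, Nat.add_sub_cancel] at this ⊢
    rw [show w1 + 2 - 1 = w1 + 1 by omega, add_mul, one_mul]
    omega
  -- `D` is not trivial
  have hD1 : 1 < Nat.card D := by
    by_contra h
    have h1 : Nat.card D = 1 := by have := Nat.card_pos (α := D); omega
    rw [Subgroup.card_eq_one, Subgroup.eq_bot_iff_forall] at h1
    refine hne (MulEquiv.ext fun v => ?_)
    obtain ⟨d, hd, c, hc, rfl⟩ := exists_split hq2 hM ha v
    rw [map_mul, hc, h1 d hd, map_one]
    rfl
  have hDinv : ∀ u ∈ D, σ u ∈ D := fun u hu => apply_mem_neg σ _ hu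
  have hdvd := pow_dvd_sub_one_of_le_neg hq2 hM hσ hDinv le_rfl hD1
  obtain ⟨j, hj⟩ := natCard_of_exponent hq hM D
  rw [hj] at hdvd hDle hD1
  -- the exponent is even
  rcases Nat.even_or_odd j with ⟨k, rfl⟩ | hodd
  swap
  · exfalso
    have h1 := Nat.le_of_dvd (by have := hq.two_le; omega) (dvd_sub_one_of_dvd_pow_sub_one hq2 hodd hdvd)
    rw [← hPdef] at h1
    have hj1 : j = 1 := by
      by_contra hj1
      have h2 : q ^ 2 ≤ q ^ j := Nat.pow_le_pow_right hq.pos (by rcases hodd with ⟨t, rfl⟩; omega)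
      have h3 : P - 1 < q := by omega
      have h4 := Nat.mul_lt_mul_of_lt_of_lt h3 h3
      rw [← sq q] at h4
      omega
    rw [hj1, pow_one] at hj
    obtain ⟨⟨x, hx⟩, hx1⟩ := by
      haveI : Nontrivial D := Finite.one_lt_card_iff_nontrivial.1 (by rw [hj]; exact hq.one_lt)
      exact exists_ne (1 : D)
    haveI := Fact.mk hq
    refine hpair.false_of_isotropic hq2 hM ha hx (fun e => hx1 (Subtype.ext e)) fun b hb => ?_
    obtain ⟨i, hi⟩ := mem_powers_iff_mem_zpowers.2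
      (mem_zpowers_of_prime_card hj hx1 : (⟨b, hb⟩ : D) ∈ zpowers (⟨x, hx⟩ : D))
    rw [show b = x ^ i from (congrArg Subtype.val hi).symm, hpair.pow_left, hpair.self, one_pow]
  have hk0 : k ≠ 0 := by rintro rfl; simp at hD1
  have hu1 : 1 < q ^ k := Nat.one_lt_pow hk0 hq.one_lt
  have huP : q ^ k < 2 ^ (m + 1) := by
    rw [← hPdef]
    by_contra h
    rw [not_lt] at h
    rw [pow_add] at hDle
    have h4 := Nat.mul_lt_mul_of_lt_of_lt (show P - 1 < q ^ k by omega) (show P - 1 < q ^ k by omega)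
    omega
  have hdvd2 : 2 ^ (m + 1) ∣ (q ^ k) ^ 2 - 1 := by rwa [sq, ← pow_add]
  have hk1 : k = 1 := by
    rcases trichotomy hq2.pow hu1 huP hdvd2 with h | h | h
    · exact eq_one_of_pow_eq_two_pow_sub_one hq2 hq.one_lt hk0 h
    · exact eq_one_of_pow_eq_two_pow_sub_one hq2 hq.one_lt hk0 h
    · rcases of_pow_eq_two_pow_add_one hq2 hq.one_lt hk0 h with h1 | ⟨rfl, rfl, rfl⟩
      · exact h1
      · exact (hpair.not_three hM hσ hj).elim
  subst hk1
  rw [pow_one] at huP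
  have hq1 : q + 1 = P := by
    obtain ⟨c, hc⟩ := hpair.pow_dvd_add_one hq hq2 hM hσ hj huP
    rw [← hPdef] at hc huP
    rcases c with _ | _ | c
    · omega
    · omega
    · nlinarith
  have hm : 1 ≤ m := by
    by_contra hm0
    rw [hPdef, show m = 0 by omega] at hq1
    have := hq.two_le
    norm_num at hq1
    omega
  refine ⟨hq1.trans hPdef, hm, fun v hv => ?_, hj⟩
  -- the fixed points
  suffices hEq : fixd σ = C from (hEq.ge hv : v ∈ fixd σ)
  by_contra hCne
  set C1 := fixd σ with hC1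
  have hC1C : C1 ≤ C := by
    intro u hu
    rw [hC, mem_fixd]
    rw [hC1, mem_fixd] at hu
    have h : ∀ n : ℕ, (σ ^ n) u = u := by
      intro n
      induction n with
      | zero => rfl
      | succ n ih => rw [pow_succ, MulAut.mul_apply, hu, ih]
    exact h _
  have hlt : q * Nat.card C1 ≤ Nat.card C := by
    obtain ⟨i, hi⟩ := natCard_of_exponent hq hM C1
    obtain ⟨i', hi'⟩ := natCard_of_exponent hq hM C
    have hii : i < i' := by
      have hle := Subgroup.card_le_of_le hC1C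
      rw [hi, hi'] at hle
      refine lt_of_le_of_ne ((Nat.pow_le_pow_iff_right hq.one_lt).1 hle) fun e => hCne ?_
      exact Subgroup.eq_of_le_of_card_ge hC1C (by rw [hi, hi', e])
    rw [hi, hi', ← pow_succ']
    exact Nat.pow_le_pow_right hq.pos hii
  have hodd : ∀ i, i < P → Odd i → fixd (σ ^ i) ≤ C1 := by
    intro i hi hio u hu
    obtain ⟨j, -, hji, hj'⟩ := HHTop.ppow_mem Nat.prime_two (n := m + 1) {k | (σ ^ k) u = u}
      (fun x hx y hy => by
        show (σ ^ (x + y)) u = u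
        rw [pow_add, MulAut.mul_apply, show (σ ^ y) u = u from hy, show (σ ^ x) u = u from hx])
      (show (σ ^ 0) u = u by rw [pow_zero]; rfl)
      (fun x y h hx => by
        show (σ ^ y) u = u
        rw [pow_eq_pow_mod y hσ, ← h, ← pow_eq_pow_mod x hσ]; exact hx)
      hu (fun h => by
        have := Nat.le_of_dvd hio.pos h
        rw [hPdef] at hi
        omega)
    rcases j with _ | j
    · rw [hC1, mem_fixd]
      simpa using hj'
    · exact absurd ((dvd_pow_self 2 j.succ_ne_zero).trans hji) hio.not_two_dvd_nat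
  have hbound : ∀ w, 1 ≤ w → 2 * w ≤ P → ∑ i ∈ Finset.range (2 * w), Φ i ≤
      Nat.card M + (w - 1) * Nat.card C + w * Nat.card C1 := by
    intro w
    induction w with
    | zero => intro h; omega
    | succ w ih =>
      intro _ hw
      have h1 : Φ (2 * w + 1) ≤ Nat.card C1 := by
        rw [hΦ]; exact Subgroup.card_le_of_le (hodd _ (by omega) ⟨w, rfl⟩)
      rw [show 2 * (w + 1) = 2 * w + 1 + 1 by ring, Finset.sum_range_succ, Finset.sum_range_succ,
        Nat.add_sub_cancel]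
      rcases w with _ | w
      · simp only [Nat.mul_zero, Finset.range_zero, Finset.sum_empty, zero_add, h0, zero_mul,
          one_mul, add_zero] at h1 ⊢
        omega
      · have h2 : Φ (2 * (w + 1)) ≤ Nat.card C := by
          rw [hΦ]
          exact Subgroup.card_le_of_le (fixd_pow_le hσ (by omega) (by omega)).1
        have h3 := ih (by omega) (by omega)
        rw [Nat.add_sub_cancel] at h3
        rw [add_mul (w + 1) 1, one_mul, add_mul w 1, one_mul]
        omega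
  have hP2m : 2 * 2 ^ m = P := by rw [hPdef, pow_succ, mul_comm]
  have h7 := hbound (2 ^ m) Nat.one_le_two_pow hP2m.le
  rw [hP2m, ← Finset.add_sum_erase _ _ (Finset.mem_range.2 (by omega : 0 < P)), h0, add_assoc] at h7
  have h8 := hbase.trans (Nat.mul_le_mul_left _ (Nat.le_of_add_le_add_left h7))
  obtain ⟨t, rfl⟩ : ∃ t, q = t + 2 := ⟨q - 2, by have := hq.two_le; omega⟩
  rw [hj, show P - 1 = t + 2 by omega] at h8
  have hle : (t + 2) * Nat.card C ≤ (2 ^ m - 1) * Nat.card C + 2 ^ m * Nat.card C1 :=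
    Nat.le_of_mul_le_mul_left (by rw [← mul_assoc, ← sq]; exact h8) (by omega : 0 < t + 2)
  obtain ⟨w, hw⟩ : ∃ w, 2 ^ m = w + 1 := ⟨2 ^ m - 1, by have := Nat.one_le_two_pow (n := m); omega⟩
  rw [hw, Nat.add_sub_cancel] at hle
  have hwt : t + 3 = 2 * (w + 1) := by omega
  nlinarith [Nat.mul_le_mul_left (w + 1) hlt, Nat.mul_le_mul_left (t + 2) hle, hCpos]

/-- Exceptional elements have a good power. -/
theorem good_pow_of_exc {q m : ℕ} {σ : MulAut M} (hσ : σ ^ 2 ^ (m + 1) = 1) (hq1 : q + 1 = 2 ^ (m + 1))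
    (hm : 1 ≤ m) (hfix : ∀ v, (σ ^ 2 ^ m) v = v → σ v = v)
    (hcard : Nat.card (neg (σ ^ 2 ^ m)) = q ^ 2) : q % 4 = 3 ∧ Good q (σ ^ 2 ^ (m - 1)) := by
  obtain ⟨m', rfl⟩ : ∃ m', m = m' + 1 := ⟨m - 1, by omega⟩
  rw [Nat.add_sub_cancel]
  have hw2 : (σ ^ 2 ^ m') ^ 2 = σ ^ 2 ^ (m' + 1) := by rw [← pow_mul, ← pow_succ]
  refine ⟨?_, ⟨?_, fun v hv => ?_, by rw [hw2]; exact hcard⟩⟩
  · rw [pow_succ, pow_succ] at hq1
    omega
  · rw [← pow_mul, show 2 ^ m' * 4 = 2 ^ (m' + 1 + 1) by ring, hσ]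
  · rw [hw2] at hv
    have h1 := hfix v hv
    induction 2 ^ m' with
    | zero => rfl
    | succ n ih => rw [pow_succ, MulAut.mul_apply, h1, ih]

end CfsgLib.Core.HHTwo
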