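import Mathlib
import Cfsg.Agent.Lib.Core.HHCritical.TwoTops.Good

/-!
# Groups generated by tops of elements moving a plane

`Exc q k v`: `v` has order dividing `2 ^ (k + 1)` and fixes what its top `v ^ 2 ^ k` fixes, the top
inverting exactly `q ^ 2` elements; here `q + 1 = 2 ^ (k + 1)`.

* `Exc.spot`: two such elements of a `2`-group have the same top or move independent planes
* `Exc.top_commute`: for `q ≠ 3` tops normalising each other commute
* `Top.div_mem`: replacing `v` by `n * v` changes the top by a product of squares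
-/

set_option autoImplicit false
set_option linter.all false

namespace CfsgLib.Core.HHTwo

open Subgroup

variable {M : Type*} [CommGroup M]

structure Exc (q k : ℕ) (v : MulAut M) : Prop where
  pow : v ^ 2 ^ (k + 1) = 1
  fix : ∀ x, (v ^ 2 ^ k) x = x → v x = x
  card : Nat.card (neg (v ^ 2 ^ k)) = q ^ 2

variable {q k : ℕ} [Finite M]

theorem Exc.sq_sq {v : MulAut M} (h : Exc q k v) (x : M) : (v ^ 2 ^ k) ((v ^ 2 ^ k) x) = x :=
  sq_apply_of_pow v h.pow x

theorem Exc.top_sq {v : MulAut M} (h : Exc q k v) : v ^ 2 ^ k * v ^ 2 ^ k = 1 :=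
  MulEquiv.ext h.sq_sq

theorem pow_apply_of_fix {v : MulAut M} {x : M} (h : v x = x) (n : ℕ) : (v ^ n) x = x := by
  induction n with
  | zero => rfl
  | succ n ih => rw [pow_succ, MulAut.mul_apply, h, ih]

theorem apply_inv_of_fix {v : MulAut M} {x : M} (h : v x = x) : v⁻¹ x = x := by
  conv_lhs => rw [← h]
  exact v.symm_apply_apply x

theorem conj_mem_neg {a g : MulAut M} {x : M} (hx : x ∈ neg a) : g x ∈ neg (g * a * g⁻¹) := by
  rw [mem_neg'] at hx ⊢
  show g (a (g.symm (g x))) = _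
  rw [g.symm_apply_apply, hx, map_inv]

theorem Exc.conj {v : MulAut M} (h : Exc q k v) (g : MulAut M) : Exc q k (g * v * g⁻¹) := by
  refine ⟨by rw [conj_pow, h.pow, mul_one, mul_inv_cancel], fun x hx => ?_, ?_⟩
  · rw [conj_pow, MulAut.mul_apply, MulAut.mul_apply] at hx
    have h1 := h.fix (g⁻¹ x) (g.injective (by rw [hx]; exact (g.apply_symm_apply x).symm))
    rw [MulAut.mul_apply, MulAut.mul_apply, h1]
    exact g.apply_symm_apply x
  · refine Eq.trans (Nat.card_congr (g.toEquiv.subtypeEquiv fun x => ?_).symm) h.card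
    rw [conj_pow, mem_neg', mem_neg']
    show (v ^ 2 ^ k) x = x⁻¹ ↔ g ((v ^ 2 ^ k) (g.symm (g x))) = (g x)⁻¹
    rw [g.symm_apply_apply, ← map_inv]
    exact g.injective.eq_iff.symm

theorem q_mod_four (hq1 : q + 1 = 2 ^ (k + 1)) (hk : 1 ≤ k) : q % 4 = 3 := by
  obtain ⟨k', rfl⟩ : ∃ k', k = k' + 1 := ⟨k - 1, by omega⟩
  rw [pow_succ, pow_succ] at hq1
  omega

variable [hqf : Fact q.Prime]

/-- Two elements moving a plane in one `2`-group. -/
theorem Exc.spot (hq1 : q + 1 = 2 ^ (k + 1)) (hk : 1 ≤ k) (hM : ∀ x : M, x ^ q = 1)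
    {H : Subgroup (MulAut M)} (hH : IsPGroup 2 H) {u u' : MulAut M} (hu : Exc q k u)
    (hu' : Exc q k u') (huH : u ∈ H) (hu'H : u' ∈ H) :
    u ^ 2 ^ k = u' ^ 2 ^ k ∨ (u * u' = u' * u ∧ (∀ x ∈ neg (u ^ 2 ^ k), u' x = x) ∧
      ∀ x ∈ neg (u' ^ 2 ^ k), u x = x) := by
  refine or_iff_not_imp_left.2 fun hne => ?_
  have hq4 := q_mod_four hq1 hk
  have hq2 : Odd q := Nat.odd_iff.2 (by omega)
  obtain ⟨-, hg⟩ := good_pow_of_exc hu.pow hq1 hk hu.fix hu.card
  obtain ⟨-, hg'⟩ := good_pow_of_exc hu'.pow hq1 hk hu'.fix hu'.card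
  have e : ∀ w : MulAut M, (w ^ 2 ^ (k - 1)) ^ 2 = w ^ 2 ^ k := fun w => by
    rw [← pow_mul, ← pow_succ, Nat.sub_add_cancel hk]
  have hwH := pow_mem huH (2 ^ (k - 1))
  have hwH' := pow_mem hu'H (2 ^ (k - 1))
  have hc1 := commute_sq_aux hq4 hM _ H le_rfl hH _ hwH' _ hwH hg' hg
  have hc2 := commute_sq_aux hq4 hM _ H le_rfl hH _ hwH _ hwH' hg hg'
  have hne1 : (u ^ 2 ^ (k - 1)) ^ 2 ≠ (u' ^ 2 ^ (k - 1)) ^ 2 := by rw [e, e]; exact hne
  obtain ⟨-, hD⟩ := hg.inter hq4 hM hg' hc1 hne1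
  obtain ⟨-, hD'⟩ := hg'.inter hq4 hM hg hc2 (Ne.symm hne1)
  rw [e, e] at hD hD'
  have h1 : ∀ x ∈ neg (u ^ 2 ^ k), u' x = x := fun x hx => hu'.fix x (hD x hx)
  have h2 : ∀ x ∈ neg (u' ^ 2 ^ k), u x = x := fun x hx => hu.fix x (hD' x hx)
  refine ⟨MulEquiv.ext fun x => ?_, h1, h2⟩
  obtain ⟨d, hd, c, hc, rfl⟩ := exists_split hq2 hM hu.sq_sq x
  obtain ⟨d', hd', c', hc', rfl⟩ := exists_split hq2 hM hu'.sq_sq c
  have huc : u c' = c' := by
    have := hu.fix _ hc
    rw [map_mul, h2 d' hd', mul_right_inj] at this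
    exact this
  simp only [MulAut.mul_apply, map_mul, h1 d hd, h1 _ (apply_mem_neg u _ hd), h2 d' hd',
    h2 _ (apply_mem_neg u' _ hd'), hu'.fix c' hc', huc]

variable {K : Type*} [Field K] [Fact (Nat.Prime 2)]

/-- An isometric involution of the plane is a scalar. -/
theorem neg_or_id (hq2 : Odd q) (hM : ∀ x : M, x ^ q = 1) {χ : M → M → K} {a g : MulAut M}
    (hpa : Pairing χ a) (ha : ∀ x, a (a x) = x) (hcard : Nat.card (neg a) = q ^ 2)
    (hg : Pairing χ g) (hgD : ∀ d ∈ neg a, g d ∈ neg a) (hg2 : ∀ d ∈ neg a, g (g d) = d) :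
    (∀ d ∈ neg a, g d = d) ∨ ∀ d ∈ neg a, g d = d⁻¹ := by
  by_contra hno
  push Not at hno
  obtain ⟨⟨d1, hd1, h1⟩, ⟨d2, hd2, h2⟩⟩ := hno
  set p := d1 / g d1 with hp
  set r := d2 * g d2 with hr
  have hpD : p ∈ neg a := (neg a).div_mem hd1 (hgD _ hd1)
  have hrD : r ∈ neg a := mul_mem hd2 (hgD _ hd2)
  have hgp : g p = p⁻¹ := by rw [hp, map_div, hg2 _ hd1, inv_div]
  have hgr : g r = r := by rw [hr, map_mul, hg2 _ hd2, mul_comm]
  have hp1 : p ≠ 1 := fun h => h1 (div_eq_one.1 h).symm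
  have hr1 : r ≠ 1 := fun h => h2 (eq_inv_of_mul_eq_one_right h)
  have hχ : χ r p = 1 := by
    refine hg.eq_one_swap ?_
    have e1 : χ p⁻¹ r = χ p r := by
      have := hg.inv' p r
      rwa [hgp, hgr] at this
    have e2 := hg.inv_left p r
    rw [e1, ← pow_two] at e2
    have e3 : χ p r ^ q = 1 := by rw [← hg.pow_left, hM, hg.one_left]
    obtain ⟨j, hj⟩ := hq2
    rwa [hj, pow_succ, pow_mul, e2, one_pow, one_mul] at e3
  have hrp : r ∉ zpowers p := by
    intro h
    obtain ⟨j, hj⟩ := mem_zpowers_iff.1 h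
    rw [← hj] at hgr hr1
    rw [map_zpow, hgp, inv_zpow, inv_eq_iff_mul_eq_one, ← pow_two] at hgr
    exact hr1 (eq_one_of_sq hq2 hM hgr)
  have hspan : zpowers p ⊔ zpowers r = neg a := by
    refine Subgroup.eq_of_le_of_card_ge (sup_le (zpowers_le.2 hpD) (zpowers_le.2 hrD)) ?_
    obtain ⟨j, hj⟩ := natCard_of_exponent hqf.out hM (zpowers p ⊔ zpowers r)
    rw [hcard, hj]
    refine Nat.pow_le_pow_right hqf.out.pos ?_
    by_contra hj2
    have hle : Nat.card (zpowers p ⊔ zpowers r : Subgroup M) ≤ Nat.card (zpowers p) := by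
      rw [hj, Nat.card_zpowers, orderOf_eq_prime (hM p) hp1]
      exact (Nat.pow_le_pow_right hqf.out.pos (by omega : j ≤ 1)).trans_eq (pow_one q)
    exact hrp (Subgroup.eq_of_le_of_card_ge le_sup_left hle ▸ mem_sup_right (mem_zpowers r))
  have ha0 : a ^ 2 ^ 0 = a := by rw [pow_zero, pow_one]
  refine hpa.false_of_isotropic (m := 0) hq2 hM (by rw [ha0]; exact ha) (d := p)
    (by rw [ha0]; exact hpD) hp1 fun b hb => ?_
  rw [ha0, ← hspan] at hb
  obtain ⟨b1, hb1, b2, hb2, rfl⟩ := Subgroup.mem_sup.1 hb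
  obtain ⟨i, rfl⟩ := mem_powers_iff_mem_zpowers.2 hb1
  obtain ⟨j, rfl⟩ := mem_powers_iff_mem_zpowers.2 hb2
  rw [hpa.mul, hpa.pow_left, hpa.pow_left, hpa.self, hχ, one_pow, one_pow, one_mul]

/-- For `q ≠ 3` a top normalised into an abelian group. -/
theorem Exc.top_commute (hq1 : q + 1 = 2 ^ (k + 1)) (hk : 2 ≤ k) (hM : ∀ x : M, x ^ q = 1)
    {A : Subgroup (MulAut M)} {v u : MulAut M} (hv : Exc q k v)
    (hvN : ∀ g ∈ A, v * g * v⁻¹ ∈ A) (hvP : IsPGroup 2 (A ⊔ zpowers v : Subgroup (MulAut M)))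
    (hu : Exc q k u) (huA : u ^ 2 ^ k ∈ A)
    (huP : IsPGroup 2 (A ⊔ zpowers u : Subgroup (MulAut M))) :
    v ^ 2 ^ k * u ^ 2 ^ k = u ^ 2 ^ k * v ^ 2 ^ k := by
  have hk1 : 1 ≤ k := by omega
  have hq4 := q_mod_four hq1 hk1
  have hq2 : Odd q := Nat.odd_iff.2 (by omega)
  have hb2 := hu.sq_sq
  set b := u ^ 2 ^ k with hb
  set a := v ^ 2 ^ k with ha
  by_contra hne
  have hbb : b * b = 1 := MulEquiv.ext hb2
  have hbi : b⁻¹ = b := inv_eq_of_mul_eq_one_right hbb
  have hmv : v ∈ A ⊔ zpowers v := mem_sup_right (mem_zpowers v)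
  rcases hv.spot hq1 hk1 hM hvP (hv.conj b) hmv
    (mul_mem (mul_mem (mem_sup_left huA) hmv) (inv_mem (mem_sup_left huA))) with h | ⟨-, h1, -⟩
  · rw [conj_pow, ← ha] at h
    exact hne (eq_mul_inv_iff_mul_eq.1 h)
  -- `b` moves the plane into the fixed points
  rw [← ha] at h1
  have hbD : ∀ x ∈ neg a, v (b x) = b x := by
    intro x hx
    have := congrArg b (h1 x hx)
    rwa [MulAut.mul_apply, MulAut.mul_apply, hb2, hbi] at this
  have huniq : ∀ x ∈ neg a, ∀ y ∈ neg a, x * b y = 1 → x = 1 ∧ y = 1 := by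
    intro x hx y hy h
    have hx1 : x = 1 := by
      refine eq_one_of_neg_fix hq2 hM hx ?_
      rw [eq_inv_of_mul_eq_one_left h, map_inv, ha, pow_apply_of_fix (hbD y hy)]
    refine ⟨hx1, ?_⟩
    rw [hx1, one_mul] at h
    exact b.map_eq_one_iff.1 h
  have hδ : ∀ x, x / b x ∈ neg b := fun x => by
    rw [mem_neg, map_div, hb2, div_mul_div_cancel, div_self']
  haveI : Nontrivial (neg a) := Finite.one_lt_card_iff_nontrivial.1
    (by rw [hv.card]; exact Nat.one_lt_pow two_ne_zero hqf.out.one_lt)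
  obtain ⟨⟨d, hd⟩, hd1⟩ := exists_ne (1 : neg a)
  replace hd1 : d ≠ 1 := fun e => hd1 (Subtype.ext e)
  have hvd : v d ∈ neg a := apply_mem_neg v _ hd
  have hvd' : v⁻¹ d ∈ neg a := by
    have hcm : (v ^ 2 ^ k) * v⁻¹ = v⁻¹ * v ^ 2 ^ k := ((Commute.refl v).pow_left _).inv_right.eq
    rw [mem_neg', ha, ← MulAut.mul_apply, hcm, MulAut.mul_apply, mem_neg'.1 hd, map_inv]
  -- the element `y`
  set y := b * v * b * v⁻¹ with hy
  have hyA : y ∈ A := by
    rw [hy, show b * v * b * v⁻¹ = b * (v * b * v⁻¹) by group]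
    exact mul_mem huA (hvN b huA)
  have hyd : y d = v⁻¹ d := by
    simp only [hy, MulAut.mul_apply]
    rw [hbD _ hvd', hb2]
  have hybd : y (b d) = b (v d) := by
    simp only [hy, MulAut.mul_apply]
    rw [apply_inv_of_fix (hbD d hd), hb2]
  set e := v⁻¹ d / b (v d) with he
  have hye : y (d / b d) = e := by rw [map_div, hyd, hybd]
  have heneg : e ∈ neg ((y * u * y⁻¹) ^ 2 ^ k) := by
    rw [conj_pow, ← hb, ← hye]
    exact conj_mem_neg (hδ d)
  have hmu : u ∈ A ⊔ zpowers u := mem_sup_right (mem_zpowers u)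
  have hfour : v (v (v (v d))) = d := by
    rcases hu.spot hq1 hk1 hM huP (hu.conj y) hmu
      (mul_mem (mul_mem (mem_sup_left hyA) hmu) (inv_mem (mem_sup_left hyA))) with h | ⟨-, -, h2⟩
    · rw [← h, ← hb, mem_neg, he, map_div, hb2] at heneg
      have hz := huniq _ ((neg a).div_mem hvd' hvd) _ ((neg a).div_mem hvd' hvd) (by
        rw [map_div, ← heneg]
        simp only [div_eq_mul_inv]
        simp only [mul_comm, mul_left_comm, mul_assoc])
      have h3 : v⁻¹ d = v d := div_eq_one.1 hz.1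
      have h4 : v (v d) = d := by rw [← h3]; exact v.apply_symm_apply d
      rw [h4, h4]
    · have hbe : b e = e := by rw [hb]; exact pow_apply_of_fix (h2 e heneg) _
      rw [he, map_div, hb2, div_eq_div_iff_mul_eq_mul, ← map_mul] at hbe
      have hz := huniq _ ((neg a).inv_mem (mul_mem hvd' hvd)) _ (mul_mem hvd' hvd) (by
        rw [hbe, mul_comm (v⁻¹ d) (v d), inv_mul_cancel])
      have h3 := hz.2
      have h4 : d * v (v d) = 1 := by
        have := congrArg v h3
        rwa [map_mul, map_one, show v (v⁻¹ d) = d from v.apply_symm_apply d] at this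
      have h5 : v (v d) = d⁻¹ := eq_inv_of_mul_eq_one_right h4
      rw [h5, map_inv, map_inv, h5, inv_inv]
  refine hd1 (eq_one_of_neg_fix hq2 hM hd ?_)
  obtain ⟨j, rfl⟩ : ∃ j, k = j + 2 := ⟨k - 2, by omega⟩
  rw [ha, show 2 ^ (j + 2) = 4 * 2 ^ j by ring, pow_mul]
  exact pow_apply_of_fix (show (v ^ 4) d = d from hfour) _

/-- An exceptional element whose top lies in a group it normalises. -/
structure Top (q k : ℕ) (A : Subgroup (MulAut M)) (v : MulAut M) : Prop where
  exc : Exc q k v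
  mem : v ^ 2 ^ k ∈ A
  conj : ∀ g ∈ A, v * g * v⁻¹ ∈ A
  pg : IsPGroup 2 (A ⊔ zpowers v : Subgroup (MulAut M))

/-- The generators are commuting involutions for `q ≠ 3`. -/
theorem Top.div_mem_of_two_le (hq1 : q + 1 = 2 ^ (k + 1)) (hk : 2 ≤ k) (hM : ∀ x : M, x ^ q = 1)
    {A : Subgroup (MulAut M)} {χ : M → M → K}
    (hgen : A ≤ closure {b | ∃ u, Top q k A u ∧ u ^ 2 ^ k = b})
    {v : MulAut M} (hiso : ∀ g ∈ A ⊔ zpowers v, Pairing χ g) (hv : Top q k A v)
    {n : MulAut M} (hn : n ∈ A) : (n * v) ^ 2 ^ k = v ^ 2 ^ k := by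
  have hk1 : 1 ≤ k := by omega
  have hq4 := q_mod_four hq1 hk1
  have hq2 : Odd q := Nat.odd_iff.2 (by omega)
  set S := {b | ∃ u, Top q k A u ∧ u ^ 2 ^ k = b} with hS
  have hSS : ∀ b ∈ S, ∀ b' ∈ S, b * b' = b' * b := by
    rintro _ ⟨u, hu, rfl⟩ _ ⟨u', hu', rfl⟩
    exact hu.exc.top_commute hq1 hk hM hu.conj hu.pg hu'.exc hu'.mem hu'.pg
  have hAS : ∀ b ∈ S, ∀ g ∈ A, b * g = g * b := by
    intro b hb g hg
    have hle : closure S ≤ centralizer ({b} : Set (MulAut M)) :=
      (closure_le _).2 fun c hc => mem_centralizer_singleton_iff.2 (hSS c hc b hb)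
    exact (mem_centralizer_singleton_iff.1 (hle (hgen hg))).symm
  have hab : ∀ g ∈ A, ∀ g' ∈ A, g * g' = g' * g := by
    intro g hg g' hg'
    have hle : closure S ≤ centralizer ({g'} : Set (MulAut M)) :=
      (closure_le _).2 fun c hc => mem_centralizer_singleton_iff.2 (hAS c hc g' hg')
    exact mem_centralizer_singleton_iff.1 (hle (hgen hg))
  have hSA : closure S ≤ A := (closure_le _).2 (by rintro _ ⟨u, hu, rfl⟩; exact hu.mem)
  have hinv : ∀ g ∈ A, g * g = 1 := by
    intro g hg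
    refine closure_induction (p := fun x _ => x * x = 1) ?_ (one_mul 1) ?_ ?_ (hgen hg)
    · rintro _ ⟨u, hu, rfl⟩; exact hu.exc.top_sq
    · intro x y hx hy h1 h2
      rw [mul_assoc, ← mul_assoc y x, hab y (hSA hy) x (hSA hx), mul_assoc x y y, h2, mul_one, h1]
    · intro x _ h; rw [← mul_inv_rev, h, inv_one]
  set a := v ^ 2 ^ k with ha
  have hav := hv.exc.sq_sq
  have hc : n * a = a * n := hab n hn a hv.mem
  have hnx : ∀ x, a (n x) = n (a x) := fun x => (MulEquiv.congr_fun hc x).symm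
  have hgD : ∀ d ∈ neg a, n d ∈ neg a := fun d hd => by
    rw [mem_neg'] at hd ⊢
    rw [hnx, hd, map_inv]
  have hcomm : n * v = v * n := by
    refine MulEquiv.ext fun x => ?_
    obtain ⟨d, hd, c, hc', rfl⟩ := exists_split hq2 hM hav x
    have h1 : v (n c) = n c := hv.exc.fix _ (by rw [← ha, hnx, hc'])
    simp only [MulAut.mul_apply, map_mul, hv.exc.fix c hc', h1]
    rcases neg_or_id hq2 hM (hiso a (mem_sup_left hv.mem)) hav hv.exc.card (hiso n (mem_sup_left hn))
      hgD (fun d _ => MulEquiv.congr_fun (hinv n hn) d) with h | h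
    · rw [h _ (apply_mem_neg v _ hd), h d hd]
    · rw [h _ (apply_mem_neg v _ hd), h d hd, map_inv]
  rw [(show Commute n v from hcomm).mul_pow, ha]
  obtain ⟨j, rfl⟩ : ∃ j, k = j + 1 := ⟨k - 1, by omega⟩
  rw [pow_succ' 2 j, pow_mul n, pow_two n, hinv n hn, one_pow, one_mul]

/-- On a plane of order nine the restrictions have order at most four. -/
theorem four_of_eight (hM : ∀ x : M, x ^ 3 = 1) {χ : M → M → K} {a s : MulAut M}
    (hpa : Pairing χ a) (ha : ∀ x, a (a x) = x) (hcard : Nat.card (neg a) = 3 ^ 2)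
    (hs : Pairing χ s) (hs4 : Pairing χ (s ^ 4)) (hsD : ∀ d ∈ neg a, s d ∈ neg a)
    (h8 : ∀ d ∈ neg a, (s ^ 8) d = d) : ∀ d ∈ neg a, (s ^ 4) d = d := by
  haveI := Fact.mk Nat.prime_three
  have hq2 : Odd 3 := by decide
  have hsD' : ∀ (i : ℕ), ∀ d ∈ neg a, (s ^ i) d ∈ neg a := by
    intro i
    induction i with
    | zero => intro d hd; exact hd
    | succ i ih => intro d hd; rw [pow_succ', MulAut.mul_apply]; exact hsD _ (ih d hd)
  rcases neg_or_id hq2 hM hpa ha hcard hs4 (hsD' 4) (fun d hd => by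
      rw [← MulAut.mul_apply, ← pow_add]; exact h8 d hd) with h | h
  · exact h
  exfalso
  set σ := CfsgLib.Core.HH.res (neg a) s hsD with hσ
  have hpD : Pairing (fun x y : neg a => χ x y) σ := by
    refine ⟨fun x x' y => hs.mul _ _ _, fun x y => hs.ne _ _, fun w hw => ?_, fun x y => hs.swap _ _,
      fun x => hs.self _, fun x y => ?_⟩
    · by_contra hno
      push Not at hno
      have ha0 : a ^ 2 ^ 0 = a := by rw [pow_zero, pow_one]
      exact hpa.false_of_isotropic (m := 0) hq2 hM (by rw [ha0]; exact ha)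
        (by rw [ha0]; exact w.2) (fun e => hw (Subtype.ext e))
        (by rw [ha0]; exact fun b hb => hno ⟨b, hb⟩)
    · show χ ((σ x : neg a) : M) ((σ y : neg a) : M) = _
      rw [hσ, CfsgLib.Core.HH.coe_res, CfsgLib.Core.HH.coe_res, hs.inv']
  have htop : neg (σ ^ 2 ^ 2) = ⊤ := by
    refine eq_top_iff.2 fun x _ => mem_neg'.2 (Subtype.ext ?_)
    rw [hσ, coe_res_pow]
    exact h x x.2
  have h1 := hpD.pow_dvd_add_one (m := 2) Nat.prime_three hq2 (fun x => Subtype.ext (hM x))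
    (MulEquiv.ext fun x => Subtype.ext (by rw [hσ, coe_res_pow]; exact h8 x x.2))
    (by rw [htop, Subgroup.card_top, hcard]) (by norm_num)
  norm_num at h1

open scoped Classical in
/-- The case `q = 3`. -/
theorem Top.sq_ne_one (hM : ∀ x : M, x ^ 3 = 1) {A : Subgroup (MulAut M)} {χ : M → M → K}
    (hgen : A ≤ closure {b | ∃ u, Top 3 1 A u ∧ u ^ 2 ^ 1 = b})
    {v : MulAut M} (hiso : ∀ g ∈ A ⊔ zpowers v, Pairing χ g) (hv : Top 3 1 A v)
    {n : MulAut M} (hn : n ∈ A) : (n * v) ^ 2 ^ 1 ≠ 1 := by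
  haveI := Fact.mk Nat.prime_three
  intro hinv'
  have hq2 : Odd 3 := by decide
  set a := v ^ 2 ^ 1 with hadef
  have haa := hv.exc.sq_sq
  set H := A ⊔ zpowers v with hH
  have haH : a ∈ H := mem_sup_left hv.mem
  have hpa : Pairing χ a := hiso a haH
  let aH : H := ⟨a, haH⟩
  let HD : Subgroup H := centralizer ({aH} : Set H)
  have hHD : ∀ g : H, g ∈ HD ↔ (g : MulAut M) * a = a * g := fun g => by
    rw [mem_centralizer_singleton_iff, Subtype.ext_iff]; rfl
  have hD : ∀ g : HD, ∀ d ∈ neg a, ((g : H) : MulAut M) d ∈ neg a := fun g d hd => by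
    rw [mem_neg'] at hd ⊢
    have := MulEquiv.congr_fun ((hHD g).1 g.2) d
    simp only [MulAut.mul_apply] at this
    rw [← this, hd, map_inv]
  -- scalars on the plane
  let N0 : Subgroup HD :=
    { carrier := {g | (∀ d ∈ neg a, ((g : H) : MulAut M) d = d) ∨ ∀ d ∈ neg a, ((g : H) : MulAut M) d = d⁻¹}
      one_mem' := Or.inl fun d _ => rfl
      mul_mem' := fun {g g'} hg hg' => by
        rcases hg with hg | hg <;> rcases hg' with hg' | hg'
        · exact Or.inl fun d hd => by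
            show ((g : H) : MulAut M) (((g' : H) : MulAut M) d) = d
            rw [hg' d hd, hg d hd]
        · exact Or.inr fun d hd => by
            show ((g : H) : MulAut M) (((g' : H) : MulAut M) d) = d⁻¹
            rw [hg' d hd, hg _ (inv_mem hd)]
        · exact Or.inr fun d hd => by
            show ((g : H) : MulAut M) (((g' : H) : MulAut M) d) = d⁻¹
            rw [hg' d hd, hg d hd]
        · exact Or.inl fun d hd => by
            show ((g : H) : MulAut M) (((g' : H) : MulAut M) d) = d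
            rw [hg' d hd, hg _ (inv_mem hd), inv_inv]
      inv_mem' := fun {g} hg => by
        rcases hg with hg | hg
        · exact Or.inl fun d hd => apply_inv_of_fix (hg d hd)
        · refine Or.inr fun d hd => ?_
          show (((g : H) : MulAut M))⁻¹ d = d⁻¹
          have h1 := hg _ (inv_mem hd)
          rw [inv_inv] at h1
          conv_lhs => rw [← h1]
          exact MulEquiv.symm_apply_apply _ _ }
  haveI : N0.Normal := ⟨fun g hg c => by
    rcases hg with hg | hg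
    · refine Or.inl fun d hd => ?_
      show ((c : H) : MulAut M) (((g : H) : MulAut M) (((c : H) : MulAut M)⁻¹ d)) = d
      rw [hg _ (by simpa using hD c⁻¹ d hd)]
      exact MulEquiv.apply_symm_apply _ _
    · refine Or.inr fun d hd => ?_
      show ((c : H) : MulAut M) (((g : H) : MulAut M) (((c : H) : MulAut M)⁻¹ d)) = d⁻¹
      rw [hg _ (by simpa using hD c⁻¹ d hd), map_inv]
      exact congrArg _ (MulEquiv.apply_symm_apply _ _)⟩
  have hinvol : ∀ g : HD, (∀ d ∈ neg a, ((g : H) : MulAut M) (((g : H) : MulAut M) d) = d) → g ∈ N0 :=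
    fun g hg => neg_or_id hq2 hM hpa haa hv.exc.card (hiso _ (g : H).2) (hD g) hg
  have hsqN : ∀ g : HD, g * g ∈ N0 := by
    intro g
    refine hinvol _ fun d hd => ?_
    have hsh : ∀ (j : ℕ), (∀ d ∈ neg a, (((g : H) : MulAut M) ^ (2 ^ j * 4)) d = d) := by
      have hP := hv.pg
      rw [← hH] at hP
      obtain ⟨J, hJ⟩ := hP (g : H)
      have hJ' : ((g : H) : MulAut M) ^ 2 ^ J = 1 := congrArg Subtype.val hJ
      suffices h : ∀ i j, j + i = J → ∀ d ∈ neg a, (((g : H) : MulAut M) ^ (2 ^ j * 4)) d = d by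
        intro j d hd
        by_cases hj : j ≤ J
        · exact h (J - j) j (by omega) d hd
        · rw [show 2 ^ j * 4 = 2 ^ J * (2 ^ (j - J) * 4) by
            rw [← mul_assoc, ← pow_add, show J + (j - J) = j by omega], pow_mul, hJ', one_pow]
          rfl
      intro i
      induction i with
      | zero =>
        intro j hj d hd
        rw [add_zero] at hj
        rw [hj, pow_mul, hJ', one_pow]; rfl
      | succ i ih =>
        intro j hj d hd
        have h8 := ih (j + 1) (by omega)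
        rw [pow_mul]
        refine four_of_eight hM hpa haa hv.exc.card (hiso _ (pow_mem (g : H).2 _))
          (hiso _ (pow_mem (pow_mem (g : H).2 _) _)) (fun d hd => ?_) (fun d hd => ?_) d hd
        · have := hD (g ^ 2 ^ j) d hd
          simpa using this
        · rw [← pow_mul, show 2 ^ j * 8 = 2 ^ (j + 1) * 4 by ring]
          exact h8 d hd
    exact hsh 0 d hd
  letI : CommGroup (HD ⧸ N0) :=
    { (inferInstance : Group (HD ⧸ N0)) with
      mul_comm := fun x y => by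
        have h2 : ∀ z : HD ⧸ N0, z * z = 1 := fun z => by
          induction z using QuotientGroup.induction_on with
          | H z => exact (QuotientGroup.eq_one_iff _).2 (hsqN z)
        calc x * y = (x * y)⁻¹ := eq_inv_of_mul_eq_one_left (h2 _)
          _ = y * x := by
            rw [mul_inv_rev, inv_eq_of_mul_eq_one_left (h2 y), inv_eq_of_mul_eq_one_left (h2 x)] }
  let ψ : HD →* HD ⧸ N0 := QuotientGroup.mk' N0
  have hψ1 : ∀ g : HD, g ∈ N0 → ψ g = 1 := fun g hg => (QuotientGroup.eq_one_iff g).2 hg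
  let tr : H →* HD ⧸ N0 := MonoidHom.transfer ψ
  haveI : Finite (H ⧸ HD) := inferInstance
  have htr : ∀ t : H, t * t = 1 → tr t = 1 := by
    intro t ht
    show MonoidHom.transfer ψ t = 1
    letI := Fintype.ofFinite (Quotient (MulAction.orbitRel (Subgroup.zpowers t) (H ⧸ HD)))
    rw [MonoidHom.transfer_eq_prod_quotient_orbitRel_zpowers_quot ψ t]
    refine Finset.prod_eq_one fun x _ => hψ1 _ (hinvol _ fun d hd => ?_)
    show (((x.out.out)⁻¹ * t ^ _ * x.out.out : H) : MulAut M)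
      ((((x.out.out)⁻¹ * t ^ _ * x.out.out : H) : MulAut M) d) = d
    rw [← MulAut.mul_apply, ← Subgroup.coe_mul]
    rw [show ∀ (r s : H), r⁻¹ * s * r * (r⁻¹ * s * r) = r⁻¹ * (s * s) * r from fun r s => by group,
      ← (Commute.refl t).mul_pow, ht, one_pow, mul_one, inv_mul_cancel]
    rfl
  have hT : A ≤ (tr.ker).map H.subtype := by
    refine hgen.trans ((closure_le _).2 ?_)
    rintro _ ⟨u, hu, rfl⟩
    exact ⟨⟨_, mem_sup_left hu.mem⟩, htr _ (Subtype.ext hu.exc.top_sq), rfl⟩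
  let vH : H := ⟨v, mem_sup_right (mem_zpowers v)⟩
  -- the transfer of `v`
  have hconj : ∀ r : H, (r⁻¹ * vH * r) ∈ HD ∧ (r ∉ HD → ∀ d ∈ neg a,
      ((r⁻¹ * vH * r : H) : MulAut M) d = d) := by
    intro r
    have e : ((r⁻¹ * vH * r : H) : MulAut M) = (r : MulAut M)⁻¹ * v * ((r : MulAut M)⁻¹)⁻¹ := by
      rw [inv_inv]; rfl
    rcases hv.exc.spot (q := 3) rfl le_rfl hM hv.pg (hv.exc.conj (r : MulAut M)⁻¹) vH.2
        (by rw [← e]; exact SetLike.coe_mem _) with h | ⟨hc, h1, -⟩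
    · refine ⟨(hHD _).2 ?_, fun hr => absurd ((hHD r).2 ?_) hr⟩
      · rw [e, hadef, h]
        exact (Commute.refl _).pow_right _ |>.eq
      · rw [← hadef, conj_pow, ← hadef, inv_inv] at h
        calc (r : MulAut M) * a = r * ((r : MulAut M)⁻¹ * a * r) := by rw [← h]
          _ = a * r := by group
    · refine ⟨(hHD _).2 ?_, fun _ d hd => by rw [e]; exact h1 d hd⟩
      rw [e, hadef]
      exact ((show Commute v _ from hc).pow_left _).symm.eq
  have hvN0 : ∀ g : HD, ((g : H) : MulAut M) = v → g ∉ N0 := by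
    intro g hg hgN
    haveI : Nontrivial (neg a) := Finite.one_lt_card_iff_nontrivial.1 (by rw [hv.exc.card]; norm_num)
    obtain ⟨⟨d, hd⟩, hd1⟩ := exists_ne (1 : neg a)
    refine hd1 (Subtype.ext (eq_one_of_neg_fix hq2 hM hd ?_))
    show (v ^ 2 ^ 1) d = d
    rw [pow_one, sq, MulAut.mul_apply, ← hg]
    rcases hgN with h | h
    · rw [h d hd, h d hd]
    · rw [h d hd, h _ (inv_mem hd), inv_inv]
  have hmin : ∀ x : H ⧸ HD, Function.minimalPeriod (vH • ·) x = 1 := by
    intro x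
    refine Function.minimalPeriod_eq_one_iff_isFixedPt.2 ?_
    induction x using QuotientGroup.induction_on with
    | H r =>
      show vH • (r : H ⧸ HD) = (r : H ⧸ HD)
      rw [MulAction.Quotient.smul_mk, eq_comm, QuotientGroup.eq, smul_eq_mul, ← mul_assoc]
      exact (hconj r).1
  have htrv : tr vH ≠ 1 := by
    have hvD : vH ∈ HD := by simpa using (hconj 1).1
    intro h
    refine hvN0 ⟨vH, hvD⟩ rfl ((QuotientGroup.eq_one_iff _).1 ?_)
    change MonoidHom.transfer ψ vH = 1 at h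
    letI := Fintype.ofFinite (Quotient (MulAction.orbitRel (Subgroup.zpowers vH) (H ⧸ HD)))
    rw [MonoidHom.transfer_eq_prod_quotient_orbitRel_zpowers_quot ψ vH] at h
    let x0 : Quotient (MulAction.orbitRel (Subgroup.zpowers vH) (H ⧸ HD)) :=
      Quotient.mk'' ((1 : H) : H ⧸ HD)
    have hfix : ∀ x : H ⧸ HD, ∀ g ∈ Subgroup.zpowers vH, g • x = x := by
      intro x g hg
      have hstab : Subgroup.zpowers vH ≤ MulAction.stabilizer H x := zpowers_le.2
        (Function.minimalPeriod_eq_one_iff_isFixedPt.1 (hmin x))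
      exact hstab hg
    rw [Finset.prod_eq_single x0 ?_ (by simp)] at h
    · have hout : x0.out = ((1 : H) : H ⧸ HD) := by
        obtain ⟨⟨g, hg⟩, hgx⟩ := MulAction.orbitRel_apply.1
          (Quotient.eq''.1 (Quotient.out_eq' x0) :
            MulAction.orbitRel (Subgroup.zpowers vH) (H ⧸ HD) x0.out ((1 : H) : H ⧸ HD))
        rw [← hgx]
        exact hfix ((1 : H) : H ⧸ HD) g hg
      have hr : x0.out.out ∈ HD := by
        have : ((x0.out.out : H) : H ⧸ HD) = ((1 : H) : H ⧸ HD) := by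
          rw [QuotientGroup.out_eq', hout]
        rw [QuotientGroup.eq, mul_one] at this
        simpa using inv_mem this
      rw [← h]
      have e : ∀ (p : _) , ψ ⟨(x0.out.out)⁻¹ * vH ^ Function.minimalPeriod (vH • ·) x0.out * x0.out.out, p⟩
          = ψ ((⟨_, hr⟩ : HD)⁻¹ * ⟨vH, hvD⟩ * ⟨_, hr⟩) := fun p => by
        congr 1
        refine Subtype.ext ?_
        show (x0.out.out)⁻¹ * vH ^ Function.minimalPeriod (vH • ·) x0.out * x0.out.out = _
        rw [hmin, pow_one]
        rfl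
      rw [e, map_mul, map_mul, map_inv, mul_comm (ψ _)⁻¹, inv_mul_cancel_right]
      rfl
    · intro x _ hx
      refine hψ1 _ (Or.inl fun d hd => ?_)
      have hr : x.out.out ∉ HD := by
        intro hr
        refine hx ?_
        rw [← Quotient.out_eq' x]
        refine congrArg Quotient.mk'' ?_
        rw [← QuotientGroup.out_eq' x.out, QuotientGroup.eq, mul_one]
        exact inv_mem hr
      show (((x.out.out)⁻¹ * vH ^ Function.minimalPeriod (vH • ·) x.out * x.out.out : H) : MulAut M) d = d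
      rw [hmin, pow_one]
      exact (hconj _).2 hr d hd
  obtain ⟨nH, hnH, hne⟩ := hT hn
  refine htrv ?_
  have h2 : tr (nH * vH) = 1 := htr _ (Subtype.ext (by
    show ((nH : H) : MulAut M) * v * ((nH : MulAut M) * v) = 1
    rw [show ((nH : H) : MulAut M) = n from hne, ← pow_two, ← pow_one (2 : ℕ)]
    exact hinv'))
  rwa [map_mul, show tr nH = 1 from hnH, one_mul] at h2

/-- Replacing `v` by `n * v` changes the top by squares. -/
theorem Top.div_mem (hq1 : q + 1 = 2 ^ (k + 1)) (hk : 1 ≤ k) (hM : ∀ x : M, x ^ q = 1)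
    {A F F' : Subgroup (MulAut M)} (hFA : F ≤ A) (hF' : ∀ x ∈ F, x * x ∈ F') {χ : M → M → K}
    (hgen : A ≤ closure {b | ∃ u, Top q k A u ∧ u ^ 2 ^ k = b})
    {v : MulAut M} (hiso : ∀ g ∈ A ⊔ zpowers v, Pairing χ g) (hv : Top q k A v)
    {n : MulAut M} (hn : n ∈ F) (hnv : (n * v) ^ 2 ^ k = 1 ∨ Top q k A (n * v)) :
    (n * v) ^ 2 ^ k * (v ^ 2 ^ k)⁻¹ ∈ F' := by
  by_cases hk2 : 2 ≤ k
  · rw [hv.div_mem_of_two_le hq1 hk2 hM hgen hiso (hFA hn), mul_inv_cancel]
    exact one_mem _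
  obtain rfl : k = 1 := by omega
  obtain rfl : q = 3 := by norm_num at hq1; omega
  rcases hnv with h | hv'
  · exact absurd h (hv.sq_ne_one hM hgen hiso (hFA hn))
  rcases hv.exc.spot (q := 3) hq1 le_rfl hM hv.pg hv'.exc (mem_sup_right (mem_zpowers v))
      (mul_mem (mem_sup_left (hFA hn)) (mem_sup_right (mem_zpowers v))) with h | ⟨hc, -, -⟩
  · rw [h, mul_inv_cancel]; exact one_mem _
  · have hcn : Commute v n := by
      show v * n = n * v
      rw [← mul_assoc] at hc
      exact mul_right_cancel hc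
    rw [hcn.symm.mul_pow, mul_inv_cancel_right, pow_one, sq]
    exact hF' n hn

end CfsgLib.Core.HHTwo
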