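import Mathlib
import Cfsg.Agent.Lib.Core.HHCritical.TwoTops.Good

/-!
# One piece of the centre of a normal subgroup of class two

For a normal `q`-subgroup `U` of class two with centre `W` and a system `f` of eigenvalues of `W`,
`Piece.φ` is the action of the stabiliser `Piece.Xf` of `f` on `U` modulo the radical of `f`.

* `Piece.φ_eq_one_iff`: its kernel
* `Piece.pairing`: it preserves the commutator pairing
* `Piece.dichotomy`: the least power of a `2`-element fixing `f` either has small order or moves a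
  plane only
-/

set_option autoImplicit false
set_option linter.all false

namespace CfsgLib.Core.HHTwo

open Subgroup CfsgLib.Core.HHTop QuadDerived
open scoped commutatorElement

/-- The data of one piece. -/
structure Piece {X : Type*} [Group X] {K : Type*} [Field K] {V : Type*} [AddCommGroup V] [Module K V]
    (ρ : X →* Module.End K V) (q : ℕ) where
  U : Subgroup X
  W : Subgroup X
  nU : U.Normal
  hW : W = U ⊓ centralizer (U : Set X)
  hcW : ∀ x ∈ U, ∀ y ∈ U, ⁅x, y⁆ ∈ W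
  hqW : ∀ x ∈ U, x ^ q ∈ W
  f : X → K
  wit : ∃ v, v ∈ eig ρ (W : Set X) f ∧ v ≠ 0

namespace Piece

variable {X : Type*} [Group X] {K : Type*} [Field K] {V : Type*} [AddCommGroup V] [Module K V]
  {ρ : X →* Module.End K V} {q : ℕ} (S : Piece ρ q)

theorem nW : S.W.Normal := by
  haveI := S.nU
  rw [S.hW]; infer_instance

theorem hWc {s : X} (hs : s ∈ S.W) {w : X} (hw : w ∈ S.U) : s * w = w * s :=
  (mem_centralizer_iff.1 (S.hW.le hs).2 w hw).symm

theorem hWU {s : X} (hs : s ∈ S.W) : s ∈ S.U := (S.hW.le hs).1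

theorem hcen {u : X} (hu : u ∈ S.U) {u' : X} (hu' : u' ∈ S.U) {w : X} (hw : w ∈ S.U) :
    ⁅u, u'⁆ * w = w * ⁅u, u'⁆ :=
  S.hWc (S.hcW u hu u' hu') hw

theorem hconj (b : X) {s : X} (hs : s ∈ S.U) : b⁻¹ * s * b ∈ S.U := by
  simpa using S.nU.conj_mem s hs b⁻¹

theorem hconj' (b : X) {s : X} (hs : s ∈ S.U) : b * s * b⁻¹ ∈ S.U := S.nU.conj_mem s hs b

theorem hWconj (b : X) : ∀ s ∈ (S.W : Set X), b⁻¹ * s * b ∈ (S.W : Set X) := fun s hs => by
  simpa using S.nW.conj_mem s hs b⁻¹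

theorem f_mul {s : X} (hs : s ∈ S.W) {t : X} (ht : t ∈ S.W) : S.f (s * t) = S.f s * S.f t := by
  obtain ⟨v0, hv0, hv00⟩ := S.wit
  refine smul_left_injective K hv00 ?_
  show S.f (s * t) • v0 = (S.f s * S.f t) • v0
  rw [← hv0 _ (mul_mem hs ht), map_mul, Module.End.mul_apply, hv0 t ht, map_smul, hv0 s hs, smul_smul,
    mul_comm]

theorem f_one : S.f 1 = 1 := by
  obtain ⟨v0, hv0, hv00⟩ := S.wit
  exact smul_left_injective K hv00 (show S.f 1 • v0 = (1 : K) • v0 by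
    rw [← hv0 1 (one_mem S.W), map_one, Module.End.one_apply, one_smul])

theorem f_inv {s : X} (hs : s ∈ S.W) : S.f s * S.f s⁻¹ = 1 := by
  rw [← S.f_mul hs (inv_mem hs), mul_inv_cancel, S.f_one]

theorem f_swap {x : X} (hx : x ∈ S.U) {y : X} (hy : y ∈ S.U) : S.f ⁅y, x⁆ = (S.f ⁅x, y⁆)⁻¹ := by
  rw [← commutatorElement_inv]
  exact eq_inv_of_mul_eq_one_right (S.f_inv (S.hcW x hx y hy))

theorem f_comm_mul {x : X} (hx : x ∈ S.U) {x' : X} (hx' : x' ∈ S.U) {y : X} (hy : y ∈ S.U) :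
    S.f ⁅x * x', y⁆ = S.f ⁅x, y⁆ * S.f ⁅x', y⁆ := by
  have e : ⁅x * x', y⁆ = x * ⁅x', y⁆ * x⁻¹ * ⁅x, y⁆ := by simp only [commutatorElement_def]; group
  rw [e, ← S.hcen hx' hy hx, mul_inv_cancel_right,
    S.f_mul (S.hcW x' hx' y hy) (S.hcW x hx y hy), mul_comm]

/-- The stabiliser of the eigenvalues. -/
def Xf : Subgroup X where
  carrier := {x | ∀ s ∈ S.W, S.f (x⁻¹ * s * x) = S.f s}
  one_mem' := fun s _ => by simp
  mul_mem' := fun {x y} hx hy s hs => by
    rw [show (x * y)⁻¹ * s * (x * y) = y⁻¹ * (x⁻¹ * s * x) * y by group,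
      hy _ (S.hWconj x s hs), hx s hs]
  inv_mem' := fun {x} hx s hs => by
    have h := hx _ (S.nW.conj_mem s hs x)
    rw [show x⁻¹ * (x * s * x⁻¹) * x = s by group] at h
    rw [inv_inv, ← h]

theorem centralizer_le_Xf : centralizer (S.W : Set X) ≤ S.Xf := fun x hx s hs => by
  rw [show x⁻¹ * s * x = s by rw [mul_assoc, mem_centralizer_iff.1 hx s hs, inv_mul_cancel_left]]

/-- The radical. -/
def Kl : Subgroup X where
  carrier := {x | x ∈ S.U ∧ ∀ y ∈ S.U, S.f ⁅x, y⁆ = 1}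
  one_mem' := ⟨one_mem S.U, fun y _ => by rw [commutatorElement_one_left, S.f_one]⟩
  mul_mem' := fun {x x'} hx hx' => ⟨mul_mem hx.1 hx'.1, fun y hy => by
    rw [S.f_comm_mul hx.1 hx'.1 hy, hx.2 y hy, hx'.2 y hy, one_mul]⟩
  inv_mem' := fun {x} hx => ⟨inv_mem hx.1, fun y hy => by
    have h := S.f_comm_mul hx.1 (inv_mem hx.1) hy
    rwa [mul_inv_cancel, commutatorElement_one_left, S.f_one, hx.2 y hy, one_mul, eq_comm] at h⟩

theorem W_le_Kl : S.W ≤ S.Kl := fun s hs => ⟨S.hWU hs, fun y hy => by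
  rw [commutatorElement_eq_one_iff_mul_comm.2 (S.hWc hs hy), S.f_one]⟩

theorem Kl_conj {b : X} (hb : b ∈ S.Xf) : ∀ s ∈ (S.Kl : Set X), b⁻¹ * s * b ∈ (S.Kl : Set X) := by
  intro s hs
  refine ⟨S.hconj b hs.1, fun y hy => ?_⟩
  have e : ⁅b⁻¹ * s * b, y⁆ = b⁻¹ * ⁅s, b * y * b⁻¹⁆ * b := by
    simp only [commutatorElement_def]; group
  rw [e, hb _ (S.hcW _ hs.1 _ (S.hconj' b hy)), hs.2 _ (S.hconj' b hy)]

instance Kl_normal : (S.Kl.subgroupOf S.U).Normal :=
  ⟨fun n hn g => mem_subgroupOf.2 (by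
    have hn' := mem_subgroupOf.1 hn
    have e : ((g * n * g⁻¹ : S.U) : X) = ⁅(g : X), (n : X)⁆ * (n : X) := by
      rw [coe_mul, coe_mul, coe_inv, commutatorElement_def]; group
    rw [e]
    exact mul_mem (S.W_le_Kl (S.hcW _ g.2 _ n.2)) hn')⟩

/-- `U` modulo the radical. -/
abbrev Q : Type _ := S.U ⧸ S.Kl.subgroupOf S.U

instance : CommGroup S.Q where
  mul_comm x y := by
    induction x using QuotientGroup.induction_on with
    | H x =>
      induction y using QuotientGroup.induction_on with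
      | H y =>
        rw [← QuotientGroup.mk_mul, ← QuotientGroup.mk_mul, QuotientGroup.eq, mem_subgroupOf]
        have e : (((x * y)⁻¹ * (y * x) : S.U) : X) = ⁅(y : X)⁻¹, (x : X)⁻¹⁆ := by
          simp only [coe_mul, coe_inv, commutatorElement_def]; group
        rw [e]
        exact S.W_le_Kl (S.hcW _ (S.U.inv_mem y.2) _ (S.U.inv_mem x.2))

theorem pow_Q (x : S.Q) : x ^ q = 1 := by
  induction x using QuotientGroup.induction_on with
  | H x =>
    rw [← QuotientGroup.mk_pow, QuotientGroup.eq_one_iff, mem_subgroupOf, coe_pow]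
    exact S.W_le_Kl (S.hqW x x.2)

/-- Conjugation on `U`. -/
def cB : S.Xf →* MulAut S.U :=
  haveI := S.nU
  MulAut.conjNormal.comp S.Xf.subtype

theorem coe_cB (b : S.Xf) (x : S.U) : ((S.cB b x : S.U) : X) = (b : X) * x * (b : X)⁻¹ := by
  haveI := S.nU
  exact MulAut.conjNormal_apply (b : X) x

theorem cB_map (b : S.Xf) :
    (S.Kl.subgroupOf S.U).map (S.cB b).toMonoidHom = S.Kl.subgroupOf S.U := by
  have hmap : ∀ (c : S.Xf) (y : S.U), y ∈ S.Kl.subgroupOf S.U → S.cB c y ∈ S.Kl.subgroupOf S.U := by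
    intro c y hy
    rw [mem_subgroupOf, coe_cB]
    have h := S.Kl_conj (S.Xf.inv_mem c.2) _ (mem_subgroupOf.1 hy)
    rwa [inv_inv] at h
  ext x
  constructor
  · rintro ⟨y, hy, rfl⟩
    exact hmap b y hy
  · intro hx
    refine ⟨S.cB b⁻¹ x, hmap _ _ hx, ?_⟩
    show S.cB b (S.cB b⁻¹ x) = x
    rw [← MulAut.mul_apply, ← map_mul, mul_inv_cancel, map_one]; rfl

/-- The action on `U` modulo the radical. -/
def φ : S.Xf →* MulAut S.Q :=
  MonoidHom.mk' (fun b => QuotientGroup.congr _ _ (S.cB b) (S.cB_map b)) fun b c => MulEquiv.ext fun x => by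
    induction x using QuotientGroup.induction_on with
    | H x =>
      show ((S.cB (b * c) x : S.U) : S.Q) = ((S.cB b (S.cB c x) : S.U) : S.Q)
      rw [map_mul, MulAut.mul_apply]

theorem φ_mk (b : S.Xf) (x : S.U) :
    S.φ b (x : S.Q) = ((⟨(b : X) * x * (b : X)⁻¹, S.hconj' _ x.2⟩ : S.U) : S.Q) :=
  congrArg (QuotientGroup.mk' _) (Subtype.ext (S.coe_cB b x))

theorem mk_eq_mk {x y : S.U} : (x : S.Q) = (y : S.Q) ↔ (x : X)⁻¹ * y ∈ S.Kl := by
  rw [QuotientGroup.eq, mem_subgroupOf, coe_mul, coe_inv]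

theorem φ_eq_one_iff (d : S.Xf) :
    S.φ d = 1 ↔ ∀ u ∈ S.U, ∀ y ∈ S.U, S.f ⁅⁅(d : X), u⁆, y⁆ = 1 := by
  have e : ∀ u : X, ⁅(d : X), u⁆ = ⁅u, u⁻¹ * ((d : X) * u * (d : X)⁻¹)⁆ *
      (u⁻¹ * ((d : X) * u * (d : X)⁻¹)) := fun u => by simp only [commutatorElement_def]; group
  have hiff : ∀ u : S.U, S.φ d (u : S.Q) = (u : S.Q) ↔ ⁅(d : X), (u : X)⁆ ∈ S.Kl := by
    intro u
    rw [φ_mk, eq_comm, mk_eq_mk, e (u : X)]
    exact (Subgroup.mul_mem_cancel_left _ (S.W_le_Kl (S.hcW _ u.2 _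
      (mul_mem (inv_mem u.2) (S.hconj' _ u.2))))).symm
  constructor
  · intro h u hu y hy
    exact ((hiff ⟨u, hu⟩).1 (by rw [h]; rfl)).2 y hy
  · intro h
    refine MulEquiv.ext fun x => ?_
    induction x using QuotientGroup.induction_on with
    | H u =>
      refine (hiff u).2 ⟨?_, fun y hy => h u u.2 y hy⟩
      rw [commutatorElement_def]
      exact mul_mem (S.hconj' _ u.2) (inv_mem u.2)

/-- The commutator pairing. -/
noncomputable def χ (x y : S.Q) : K := S.f ⁅(x.out : X), (y.out : X)⁆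

theorem χ_out_left (x : S.U) {y : X} (hy : y ∈ S.U) :
    S.f ⁅(((x : S.Q).out : S.U) : X), y⁆ = S.f ⁅(x : X), y⁆ := by
  have hd : (x : X)⁻¹ * (((x : S.Q).out : S.U) : X) ∈ S.Kl :=
    S.mk_eq_mk.1 (QuotientGroup.out_eq' (x : S.Q)).symm
  set d := (x : X)⁻¹ * (((x : S.Q).out : S.U) : X) with hdd
  conv_lhs => rw [show (((x : S.Q).out : S.U) : X) = (x : X) * d by rw [hdd, mul_inv_cancel_left]]
  rw [S.f_comm_mul x.2 hd.1 hy, hd.2 y hy, mul_one]

theorem χ_mk (x y : S.U) : S.χ (x : S.Q) (y : S.Q) = S.f ⁅(x : X), (y : X)⁆ := by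
  rw [χ, S.χ_out_left x ((y : S.Q).out).2, S.f_swap ((y : S.Q).out).2 x.2, S.χ_out_left y x.2,
    ← S.f_swap y.2 x.2]

theorem pairing (g : S.Xf) : Pairing S.χ (S.φ g) where
  mul a a' v := by
    induction a using QuotientGroup.induction_on with
    | H a =>
      induction a' using QuotientGroup.induction_on with
      | H a' =>
        induction v using QuotientGroup.induction_on with
        | H v =>
          rw [← QuotientGroup.mk_mul, χ_mk, χ_mk, χ_mk, coe_mul]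
          exact S.f_comm_mul a.2 a'.2 v.2
  ne a v h := by
    have h1 := S.f_inv (S.hcW _ a.out.2 _ v.out.2)
    rw [show S.f ⁅(a.out : X), (v.out : X)⁆ = 0 from h, zero_mul] at h1
    exact zero_ne_one h1
  nd x := by
    induction x using QuotientGroup.induction_on with
    | H x =>
      intro hx
      by_contra hall
      push Not at hall
      refine hx ((QuotientGroup.eq_one_iff x).2 (mem_subgroupOf.2 ⟨x.2, fun y hy => ?_⟩))
      have h := hall ((⟨y, hy⟩ : S.U) : S.Q)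
      rw [χ_mk] at h
      rw [S.f_swap hy x.2, h, inv_one]
  swap a b := by
    rw [χ, χ, S.f_swap a.out.2 b.out.2]
    refine mul_inv_cancel₀ fun h => ?_
    have h1 := S.f_inv (S.hcW _ a.out.2 _ b.out.2)
    rw [h, zero_mul] at h1
    exact zero_ne_one h1
  self a := by rw [χ, commutatorElement_self, S.f_one]
  inv' a v := by
    induction a using QuotientGroup.induction_on with
    | H a =>
      induction v using QuotientGroup.induction_on with
      | H v =>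
        rw [φ_mk, φ_mk, χ_mk, χ_mk]
        have e1 : ⁅(g : X) * a * (g : X)⁻¹, (g : X) * v * (g : X)⁻¹⁆ =
            (g : X)⁻¹⁻¹ * ⁅(a : X), (v : X)⁆ * (g : X)⁻¹ := by
          simp only [commutatorElement_def]; group
        show S.f ⁅(g : X) * a * (g : X)⁻¹, (g : X) * v * (g : X)⁻¹⁆ = _
        rw [e1, S.Xf.inv_mem g.2 _ (S.hcW _ a.2 _ v.2)]

set_option maxHeartbeats 1000000 in
/-- The least power fixing the eigenvalues. -/
theorem dichotomy [Finite X] [IsAlgClosed K] [CharP K 2] [FiniteDimensional K V] [Fact (Nat.Prime 2)]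
    (hq : q.Prime) (hq2 : q ≠ 2) {m : ℕ} {z : X}
    (hzP : z ^ 2 ^ (m + 1) = 1) (hzN : ∑ i ∈ Finset.range (2 ^ (m + 1)), ρ (z ^ i) = 0) :
    ∃ l ≤ m, (∀ j < l, z ^ 2 ^ j ∉ S.Xf) ∧ ∃ hl : z ^ 2 ^ l ∈ S.Xf,
      (S.φ ⟨_, hl⟩ ^ 2 ^ (m - l) = 1 ∨ (q + 1 = 2 ^ (m - l + 1) ∧ 1 ≤ m - l ∧
        (∀ v, (S.φ ⟨_, hl⟩ ^ 2 ^ (m - l)) v = v → S.φ ⟨_, hl⟩ v = v) ∧
        Nat.card (neg (S.φ ⟨_, hl⟩ ^ 2 ^ (m - l))) = q ^ 2)) := by
  classical
  haveI hqf := Fact.mk hq
  obtain ⟨v0, hv0, hv00⟩ := S.wit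
  obtain ⟨l, hl, hfl', hmin, hN1⟩ := exists_fixing_power_min ρ Nat.prime_two hzP (S.hWconj z) ⊤
    (fun v _ => Submodule.mem_top)
    (fun v _ => by
      have h := LinearMap.congr_fun hzN v
      rwa [LinearMap.sum_apply, LinearMap.zero_apply] at h)
    hv0 Submodule.mem_top hv00
  have hz1 : z ^ 2 ^ l ∈ S.Xf := hfl'
  refine ⟨l, hl, fun j hj h => hmin j hj h, hz1, ?_⟩
  set τ := S.φ ⟨z ^ 2 ^ l, hz1⟩ with hτdef
  refine or_iff_not_imp_left.2 fun hne => ?_
  set Vl := eig ρ (S.W : Set X) S.f with hVl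
  obtain ⟨μ, v1, hv10, hv1μ, hv1l⟩ : ∃ (μ : X → K) (v : V), v ≠ 0 ∧ v ∈ eig ρ (S.Kl : Set X) μ ∧ v ∈ Vl := by
    have hinv : ∀ s : S.Kl, ∀ v ∈ Vl, ρ (s : X) v ∈ Vl := fun s v hv t ht => by
      rw [← Module.End.mul_apply, ← map_mul, S.hWc ht s.2.1, map_mul, Module.End.mul_apply, hv t ht,
        map_smul]
    haveI : Nontrivial Vl := Submodule.nontrivial_iff_ne_bot.2
      ((Submodule.ne_bot_iff _).2 ⟨v0, hv0, hv00⟩)
    obtain ⟨lam, v, hv, hlam⟩ := CfsgLib.Core.HHCritical.exists_common_eigenvector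
      (fun s : S.Kl => (ρ (s : X)).restrict (hinv s)) (fun s t => LinearMap.ext fun v => Subtype.ext (by
        show ρ (s : X) (ρ (t : X) v) = ρ (t : X) (ρ (s : X) v)
        have e : (s : X) * (t : X) = ⁅(s : X), (t : X)⁆ * ((t : X) * s) := by
          rw [commutatorElement_def]; group
        rw [← Module.End.mul_apply, ← map_mul, e, map_mul, Module.End.mul_apply, map_mul,
          Module.End.mul_apply, (hinv t (ρ (s : X) v) (hinv s v v.2)) _ (S.hcW _ s.2.1 _ t.2.1),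
          s.2.2 _ t.2.1, one_smul]))
    refine ⟨fun x => if h : x ∈ S.Kl then lam ⟨x, h⟩ else 0, (v : V), fun h => hv (Subtype.ext h),
      fun s hs => ?_, v.2⟩
    show ρ s (v : V) = (if h : s ∈ S.Kl then lam ⟨s, h⟩ else 0) • (v : V)
    rw [dif_pos (show s ∈ S.Kl from hs)]
    exact congrArg Subtype.val (hlam ⟨s, hs⟩)
  have hVlinv : ∀ b ∈ S.Xf, ∀ v ∈ Vl, ρ b v ∈ Vl := by
    intro b hb v hv s hs
    refine (eig_conj ρ (S.hWconj b) hv s hs).trans ?_
    show S.f (b⁻¹ * s * b) • _ = _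
    rw [hb s hs]
  obtain ⟨l', hl', hμl, hN2⟩ := exists_fixing_power ρ Nat.prime_two (m := m - l) (g := z ^ 2 ^ l)
    (by rw [← pow_mul, ← pow_add, show l + (m - l + 1) = m + 1 by omega, hzP])
    (S.Kl_conj hz1) Vl (hVlinv _ hz1)
    (fun v hv => by
      have h := hN1 v hv Submodule.mem_top
      rw [show m + 1 - l = m - l + 1 by omega] at h
      simpa only [map_pow] using h)
    hv1μ hv1l hv10
  set m2 := m - (l + l') with hm2
  set z2 := z ^ 2 ^ (l + l') with hz2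
  have hz2e : (z ^ 2 ^ l) ^ 2 ^ l' = z2 := by rw [hz2, ← pow_mul, ← pow_add]
  rw [hz2e] at hμl hN2
  have hz2f : z2 ∈ S.Xf := hz2e ▸ pow_mem hz1 _
  have hz2P : z2 ^ 2 ^ (m2 + 1) = 1 := by
    rw [hz2, ← pow_mul, ← pow_add, show l + l' + (m2 + 1) = m + 1 by omega, hzP]
  rw [show m - l + 1 - l' = m2 + 1 by omega] at hN2
  -- the eigenspace
  set E := eig ρ (S.Kl : Set X) μ ⊓ Vl with hE
  haveI : Nontrivial E := Submodule.nontrivial_iff_ne_bot.2
    ((Submodule.ne_bot_iff _).2 ⟨v1, ⟨hv1μ, hv1l⟩, hv10⟩)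
  have hEU : ∀ y ∈ S.U, ∀ v ∈ E, ρ y v ∈ E := by
    intro y hy v hv
    refine ⟨fun s hs => ?_, fun s hs => ?_⟩
    · have e : s * y = ⁅s, y⁆ * (y * s) := by rw [commutatorElement_def]; group
      have hsW : ⁅s, y⁆ ∈ S.W := S.hcW s hs.1 y hy
      rw [← Module.End.mul_apply, ← map_mul, e, map_mul, map_mul, Module.End.mul_apply,
        Module.End.mul_apply, hv.1 s hs, map_smul, map_smul]
      congr 1
      rw [← Module.End.mul_apply, ← map_mul, S.hWc hsW hy, map_mul, Module.End.mul_apply,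
        hv.2 _ hsW, hs.2 y hy, one_smul]
    · rw [← Module.End.mul_apply, ← map_mul, S.hWc hs hy, map_mul, Module.End.mul_apply, hv.2 s hs,
        map_smul]
  have hEz : ∀ v ∈ E, ρ z2 v ∈ E := by
    intro v hv
    refine ⟨fun s hs => ?_, hVlinv _ hz2f v hv.2⟩
    refine (eig_conj ρ (S.Kl_conj hz2f) hv.1 s hs).trans ?_
    show μ (z2⁻¹ * s * z2) • _ = _
    rw [hμl s hs]
  let sec : S.Q → S.U := fun x => x.out
  have hsec : ∀ x, ((sec x : S.U) : S.Q) = x := fun x => QuotientGroup.out_eq' x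
  let r : ∀ y : X, (∀ v ∈ E, ρ y v ∈ E) → Module.End K E := fun y hy => (ρ y).restrict hy
  let ee : S.Q → Module.End K E := fun x => r (sec x : X) (hEU _ (sec x).2)
  let einv : S.Q → Module.End K E := fun x => r ((sec x : X)⁻¹) (hEU _ (S.U.inv_mem (sec x).2))
  have hev : ∀ x (v : E), ((ee x v : E) : V) = ρ (sec x : X) v := fun x v => rfl
  have heiv : ∀ x (v : E), ((einv x v : E) : V) = ρ (sec x : X)⁻¹ v := fun x v => rfl
  have he : ∀ x, ee x * einv x = 1 := fun x => LinearMap.ext fun v => Subtype.ext (by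
    rw [Module.End.mul_apply, Module.End.one_apply, hev, heiv, ← Module.End.mul_apply, ← map_mul,
      mul_inv_cancel, map_one]; rfl)
  have he' : ∀ x, einv x * ee x = 1 := fun x => LinearMap.ext fun v => Subtype.ext (by
    rw [Module.End.mul_apply, Module.End.one_apply, heiv, hev, ← Module.End.mul_apply, ← map_mul,
      inv_mul_cancel, map_one]; rfl)
  have hχ : ∀ x y, ee x * ee y = S.χ x y • (ee y * ee x) := fun x y => LinearMap.ext fun v => Subtype.ext (by
    show ρ (sec x : X) (ρ (sec y : X) v) = S.f ⁅(sec x : X), (sec y : X)⁆ • ρ (sec y : X) (ρ (sec x : X) v)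
    have e1 : (sec x : X) * sec y = ⁅(sec x : X), (sec y : X)⁆ * ((sec y : X) * sec x) := by
      rw [commutatorElement_def]; group
    rw [← Module.End.mul_apply, ← map_mul, e1, map_mul, Module.End.mul_apply, map_mul,
      Module.End.mul_apply,
      (hEU _ (sec y).2 _ (hEU _ (sec x).2 _ v.2)).2 _ (S.hcW _ (sec x).2 _ (sec y).2)])
  have hNM : (Nat.card S.Q : K) ≠ 0 := by
    obtain ⟨j, hj⟩ := IsPGroup.iff_card.1 (show IsPGroup q S.Q from fun x => ⟨1, by rw [pow_one]; exact S.pow_Q x⟩)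
    rw [hj, Nat.cast_pow]
    refine pow_ne_zero _ fun h0 => hq2 ?_
    rw [CharP.cast_eq_zero_iff K 2] at h0
    exact ((Nat.prime_dvd_prime_iff_eq Nat.prime_two hq).1 h0).symm
  have hμne : ∀ s ∈ S.Kl, μ s ≠ 0 := fun s hs h => hv10 (by
    have h1 := hv1μ s hs
    rw [h, zero_smul] at h1
    have h3 := congrArg (ρ s⁻¹) h1
    rwa [← Module.End.mul_apply, ← map_mul, inv_mul_cancel, map_one, Module.End.one_apply, map_zero] at h3)
  have hscal : ∀ x : S.U, ∃ c : K, c ≠ 0 ∧ ∀ v : E,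
      ρ (sec (x : S.Q) : X) v = c • ρ (x : X) v ∧ ρ (sec (x : S.Q) : X)⁻¹ v = c⁻¹ • ρ (x : X)⁻¹ v := by
    intro x
    have hd : (x : X)⁻¹ * (sec (x : S.Q) : X) ∈ S.Kl := by
      have h := QuotientGroup.eq.1 (hsec (x : S.Q)).symm
      rw [mem_subgroupOf, coe_mul, coe_inv] at h
      exact h
    refine ⟨μ ((x : X)⁻¹ * (sec (x : S.Q) : X)), hμne _ hd, fun v => ⟨?_, ?_⟩⟩
    · conv_lhs => rw [show (sec (x : S.Q) : X) = (x : X) * ((x : X)⁻¹ * (sec (x : S.Q) : X)) by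
        rw [mul_inv_cancel_left]]
      rw [map_mul, Module.End.mul_apply, v.2.1 _ hd, map_smul]
    · have hd' := S.Kl.inv_mem hd
      have h1 := (hEU _ (S.U.inv_mem x.2) _ v.2).1 _ hd'
      rw [← Module.End.mul_apply, ← map_mul,
        show ((x : X)⁻¹ * (sec (x : S.Q) : X))⁻¹ * (x : X)⁻¹ = (sec (x : S.Q) : X)⁻¹ by group] at h1
      rw [h1]
      congr 1
      refine eq_inv_of_mul_eq_one_left (smul_left_injective K hv10 ?_)
      show (μ _ * μ _) • v1 = (1 : K) • v1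
      set d := (x : X)⁻¹ * (sec (x : S.Q) : X) with hddef
      have h5 : ρ d⁻¹ (ρ d v1) = v1 := by
        rw [← Module.End.mul_apply, ← map_mul, inv_mul_cancel, map_one, Module.End.one_apply]
      rw [hv1μ _ hd, map_smul, hv1μ _ hd', smul_smul] at h5
      rw [one_smul, mul_comm]
      exact h5
  have hcj : ∀ x y T, ee (x * y) * T * einv (x * y) = ee x * (ee y * T * einv y) * einv x := by
    intro x y T
    have hxy : x * y = ((sec x * sec y : S.U) : S.Q) := by rw [QuotientGroup.mk_mul, hsec, hsec]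
    obtain ⟨c, hc, hcv⟩ := hscal (sec x * sec y)
    rw [← hxy] at hcv
    refine LinearMap.ext fun v => Subtype.ext ?_
    simp only [Module.End.mul_apply, hev]
    set u0 : E := einv y (einv x v)
    have h1 : ((einv (x * y) v : E) : V) = c⁻¹ • (u0 : V) := by
      rw [heiv, (hcv v).2, show (u0 : V) = ρ (sec y : X)⁻¹ (ρ (sec x : X)⁻¹ v) from rfl]
      rw [coe_mul, mul_inv_rev, map_mul, Module.End.mul_apply]
    have h1' : einv (x * y) v = c⁻¹ • u0 := Subtype.ext h1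
    rw [(hcv _).1, h1', map_smul, Submodule.coe_smul, coe_mul, map_mul, Module.End.mul_apply,
      map_smul, map_smul, smul_smul, mul_inv_cancel₀ hc, one_smul]
  set σ := S.φ ⟨z2, hz2f⟩ with hσdef
  have hσp : σ ^ 2 ^ (m2 + 1) = 1 := by
    rw [hσdef, ← map_pow, show (⟨z2, hz2f⟩ : S.Xf) ^ 2 ^ (m2 + 1) = 1 from
      Subtype.ext (by rw [coe_pow, hz2P]; rfl), map_one]
  set Xo := r z2 hEz
  have hk : ∀ (k : ℕ) (v : E), (((Xo ^ k) v : E) : V) = ρ (z2 ^ k) v := by
    intro k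
    induction k with
    | zero => intro v; rw [pow_zero, pow_zero, map_one]; rfl
    | succ k ih =>
      intro v
      rw [pow_succ' Xo, Module.End.mul_apply, pow_succ' z2, map_mul, Module.End.mul_apply, ← ih v]
      rfl
  obtain ⟨kk, hkk⟩ : ∃ kk, 2 ^ (m2 + 1) = kk + 1 :=
    ⟨2 ^ (m2 + 1) - 1, (Nat.sub_add_cancel Nat.one_le_two_pow).symm⟩
  have hz2inv : z2⁻¹ = z2 ^ kk :=
    inv_eq_of_mul_eq_one_right (by rw [← pow_succ', ← hkk, hz2P])
  have hXiv : ∀ v : E, (((Xo ^ kk) v : E) : V) = ρ z2⁻¹ v := fun v => by rw [hk, hz2inv]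
  have hXX : Xo * Xo ^ kk = 1 := LinearMap.ext fun v => Subtype.ext (by
    rw [← pow_succ', ← hkk, hk, hz2P, map_one]; rfl)
  have hXX' : Xo ^ kk * Xo = 1 := by rw [← pow_succ, pow_succ']; exact hXX
  have hqE : (Xo - 1) ^ (2 ^ (m2 + 1) - 1) = 0 := by
    have h1 := congrArg (Polynomial.aeval Xo) (HHCritical.poly_sub_one_pow (K := K) 2 (m2 + 1))
    simp only [map_pow, map_sub, Polynomial.aeval_X, map_one, map_sum] at h1
    rw [h1]
    refine LinearMap.ext fun v => Subtype.ext ?_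
    rw [LinearMap.sum_apply, AddSubmonoidClass.coe_finsetSum, LinearMap.zero_apply, Submodule.coe_zero]
    simp only [hk]
    exact hN2 v v.2.1 v.2.2
  have hσsec : ∀ x : S.Q, σ x =
      ((⟨z2 * sec x * z2⁻¹, S.hconj' _ (sec x).2⟩ : S.U) : S.Q) := by
    intro x
    conv_lhs => rw [← hsec x]
    exact S.φ_mk ⟨z2, hz2f⟩ (sec x)
  have hXe : ∀ x T, Xo * (ee x * T * einv x) * Xo ^ kk = ee (σ x) * (Xo * T * Xo ^ kk) * einv (σ x) := by
    intro x T
    obtain ⟨c, hc, hcv⟩ := hscal ⟨z2 * sec x * z2⁻¹, S.hconj' _ (sec x).2⟩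
    rw [← hσsec x] at hcv
    refine LinearMap.ext fun v => Subtype.ext ?_
    simp only [Module.End.mul_apply, hev]
    set u0 : E := Xo (einv x ((Xo ^ kk) v))
    have h1 : einv (σ x) v = c⁻¹ • u0 := Subtype.ext (by
      rw [heiv, (hcv v).2, Submodule.coe_smul]
      congr 1
      show _ = ρ z2 (ρ (sec x : X)⁻¹ (((Xo ^ kk) v : E) : V))
      rw [hXiv, ← Module.End.mul_apply, ← Module.End.mul_apply, ← map_mul, ← map_mul]
      congr 2
      show (z2 * sec x * z2⁻¹)⁻¹ = _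
      group)
    have h3 : (Xo ^ kk) u0 = einv x ((Xo ^ kk) v) := by
      show (Xo ^ kk) (Xo (einv x ((Xo ^ kk) v))) = _
      rw [← Module.End.mul_apply, hXX', Module.End.one_apply]
    rw [(hcv _).1, h1, map_smul, h3, map_smul, map_smul, Submodule.coe_smul, map_smul, smul_smul,
      mul_inv_cancel₀ hc, one_smul]
    show ρ z2 (ρ (sec x : X) (T (einv x ((Xo ^ kk) v)) : V)) =
      ρ (z2 * sec x * z2⁻¹) (ρ z2 (T (einv x ((Xo ^ kk) v)) : V))
    simp only [← Module.End.mul_apply, ← map_mul, inv_mul_cancel_right]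
  have hσp' : τ ^ 2 ^ (m - l + 1) = 1 := by
    rw [hτdef, ← map_pow, show (⟨z ^ 2 ^ l, hz1⟩ : S.Xf) ^ 2 ^ (m - l + 1) = 1 from Subtype.ext (by
      rw [coe_pow, ← pow_mul, ← pow_add, show l + (m - l + 1) = m + 1 by omega, hzP]; rfl), map_one]
  have hτσ : τ ^ 2 ^ l' = σ := by
    rw [hτdef, hσdef, ← map_pow]
    exact congrArg S.φ (Subtype.ext (by rw [coe_pow]; exact hz2e))
  have htop : σ ^ 2 ^ m2 = τ ^ 2 ^ (m - l) := by
    rw [← hτσ, ← pow_mul, ← pow_add, show l' + m2 = m - l by omega]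
  have hp := S.pairing ⟨z ^ 2 ^ l, hz1⟩
  rcases exc_of_small (m := m2) hq (hq.odd_of_ne_two hq2) S.pow_Q ee einv he he' S.χ hχ hp.mul hp.ne
    hp.nd hcj hNM σ hσp Xo (Xo ^ kk) hXX hXX' hqE (S.pairing _).inv' hXe with h | ⟨hq1, hm, hfix, hcard⟩
  · exact absurd (htop.symm.trans h) hne
  rw [htop] at hcard hfix
  obtain ⟨c, hc⟩ := hp.pow_dvd_add_one hq (hq.odd_of_ne_two hq2) S.pow_Q hσp' hcard (by
    have := Nat.pow_le_pow_right two_pos (show m2 + 1 ≤ m - l + 1 by omega)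
    omega)
  have hl0 : l' = 0 := by
    by_contra hl0
    have h1 := Nat.pow_lt_pow_right one_lt_two (show m2 + 1 < m - l + 1 by omega)
    rw [← hq1, hc] at h1
    rcases c with _ | c
    · omega
    · nlinarith
  rw [hl0, pow_zero, pow_one] at hτσ
  rw [← hτσ] at hfix
  exact ⟨by rw [hq1, show m2 = m - l by omega], by omega, hfix, hcard⟩

end Piece

end CfsgLib.Core.HHTwo
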