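import Mathlib
import Cfsg.Agent.Lib.Core.HHCritical.TwoTops.Piece
import Cfsg.Agent.Lib.Core.PLengthTwoMaximal

/-!
# Tops on one piece of the centre

For a normal `q`-subgroup `U` of class two and a system `f` of eigenvalues of its centre `W`, the
centraliser of `W` acts on `U` modulo the radical of `f`.

* `per_char`: in that action the tops lie in the subgroup `O_{2',2}`
-/

set_option autoImplicit false
set_option linter.all false

namespace CfsgLib.Core.HHTwo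

open Subgroup CfsgLib.Core.HHTop QuadDerived
open scoped commutatorElement

variable {X : Type*} [Group X] [Finite X] {K : Type*} [Field K] [IsAlgClosed K] [CharP K 2]
  {V : Type*} [AddCommGroup V] [Module K V] [FiniteDimensional K V]

/-- The tops in one piece, with the odd normal subgroups. -/
theorem per_char [Fact (Nat.Prime 2)] (ρ : X →* Module.End K V) (hsol : Cfsg.IsPSolvable 2 X)
    {q : ℕ} (hq : q.Prime) (hq2 : q ≠ 2)
    (U : Subgroup X) [U.Normal] {W : Subgroup X} (hW : W = U ⊓ centralizer (U : Set X))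
    (hcW : ∀ x ∈ U, ∀ y ∈ U, ⁅x, y⁆ ∈ W) (hqW : ∀ x ∈ U, x ^ q ∈ W)
    (f : X → K) (hwit : ∃ v, v ∈ eig ρ (W : Set X) f ∧ v ≠ 0) {e : ℕ}
    (hX : ∀ z : X, (∃ k, z ^ 2 ^ k = 1) → z ^ 2 ^ (e + 1) = 1 ∧
      ∑ i ∈ Finset.range (2 ^ (e + 1)), ρ (z ^ i) = 0)
    (hfix : ∀ z : X, (∃ k, z ^ 2 ^ k = 1) → z ^ 2 ^ e ∈ centralizer (W : Set X)) :
    ∃ J L : Subgroup X, (∀ z : X, (∃ k, z ^ 2 ^ k = 1) → z ^ 2 ^ e ∈ J) ∧
      (∀ x ∈ J, x ^ 2 ^ Nat.card X ∈ L) ∧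
      (∀ g ∈ centralizer (W : Set X), ∀ x ∈ L, g * x * g⁻¹ ∈ L) ∧
      (∀ N : Subgroup X, N.Normal → N ≤ centralizer (W : Set X) → (Nat.card N).Coprime 2 → N ≤ L) ∧
      ∀ d ∈ L, (∃ k, d ^ 2 ^ k = 1) → ∀ u ∈ U, ∀ y ∈ U, f ⁅⁅d, u⁆, y⁆ = 1 := by
  classical
  haveI hqf := Fact.mk hq
  obtain ⟨S, rfl, rfl, rfl⟩ : ∃ S : Piece ρ q, S.U = U ∧ S.W = W ∧ S.f = f :=
    ⟨⟨U, W, inferInstance, hW, hcW, hqW, f, hwit⟩, rfl, rfl, rfl⟩
  have hNcXf : centralizer (S.W : Set X) ≤ S.Xf := S.centralizer_le_Xf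
  haveI : Finite S.φ.range := Finite.of_surjective _ S.φ.rangeRestrict_surjective
  set KΓ := Cfsg.pPrimeCore 2 S.φ.range with hKΓ
  set κ := QuotientGroup.mk' KΓ with hκ
  let JΓ : Subgroup S.Xf := ((Cfsg.pCore 2 (S.φ.range ⧸ KΓ)).comap κ).comap S.φ.rangeRestrict
  let LΓ : Subgroup S.Xf := KΓ.comap S.φ.rangeRestrict
  refine ⟨JΓ.map S.Xf.subtype, LΓ.map S.Xf.subtype, ?_, ?_, ?_, ?_, ?_⟩
  rotate_left
  · rintro _ ⟨x, hx, rfl⟩
    refine ⟨x ^ 2 ^ Nat.card X, ?_, map_pow _ _ _⟩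
    show S.φ.rangeRestrict (x ^ 2 ^ Nat.card X) ∈ KΓ
    rw [map_pow, ← QuotientGroup.eq_one_iff, QuotientGroup.mk_pow]
    have hcard : Nat.card (Cfsg.pCore 2 (S.φ.range ⧸ KΓ)) ≤ Nat.card X :=
      (Subgroup.card_le_card_group _).trans
        ((Nat.card_le_card_of_surjective _ (QuotientGroup.mk'_surjective KΓ)).trans
          ((Nat.card_le_card_of_surjective _ S.φ.rangeRestrict_surjective).trans
            (Subgroup.card_le_card_group S.Xf)))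
    obtain ⟨j, hj⟩ := IsPGroup.iff_card.1 (isPGroup_pCore 2 (S.φ.range ⧸ KΓ))
    have hjX : j ≤ Nat.card X := by
      have := Nat.lt_two_pow_self (n := j)
      omega
    refine orderOf_dvd_iff_pow_eq_one.1 (Dvd.dvd.trans ?_ (Nat.pow_dvd_pow 2 hjX))
    rw [← hj]
    exact Subgroup.orderOf_dvd_natCard _ hx
  · rintro g hg _ ⟨x, hx, rfl⟩
    refine ⟨⟨g, hNcXf hg⟩ * x * (⟨g, hNcXf hg⟩ : S.Xf)⁻¹, ?_, rfl⟩
    exact ((normal_pPrimeCore 2 S.φ.range).comap S.φ.rangeRestrict).conj_mem x hx _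
  · intro N hN hNW hNodd x hx
    refine ⟨⟨x, hNcXf (hNW hx)⟩, ?_, rfl⟩
    show S.φ.rangeRestrict ⟨x, hNcXf (hNW hx)⟩ ∈ KΓ
    haveI : ((N.subgroupOf S.Xf).map S.φ.rangeRestrict).Normal :=
      (hN.subgroupOf S.Xf).map _ S.φ.rangeRestrict_surjective
    refine le_pPrimeCore ?_ (mem_map_of_mem _ (mem_subgroupOf.2 hx))
    refine Nat.Coprime.coprime_dvd_left ((Subgroup.card_map_dvd _ _).trans ?_) hNodd
    rw [Nat.card_congr (Subgroup.subgroupOfEquivOfLe (hNW.trans hNcXf)).toEquiv]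
  · rintro _ ⟨d, hd, rfl⟩ ⟨k, hk⟩
    have hd1 : S.φ.rangeRestrict d = 1 := by
      have h1 : S.φ.rangeRestrict d ^ 2 ^ k = 1 := by
        rw [← map_pow, show d ^ 2 ^ k = 1 from Subtype.ext (by simpa using hk), map_one]
      have h2 : S.φ.rangeRestrict d ^ Nat.card KΓ = 1 :=
        orderOf_dvd_iff_pow_eq_one.1 (Subgroup.orderOf_dvd_natCard _ hd)
      have h3 := pow_gcd_eq_one.mpr (⟨h1, h2⟩ :
        S.φ.rangeRestrict d ^ 2 ^ k = 1 ∧ S.φ.rangeRestrict d ^ Nat.card KΓ = 1)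
      rwa [((coprime_card_pPrimeCore 2 S.φ.range).symm.pow_left k).gcd_eq_one, pow_one] at h3
    exact (S.φ_eq_one_iff d).1 (congrArg Subtype.val hd1)
  -- the tops
  intro z hz
  have haN := hfix z hz
  refine ⟨⟨z ^ 2 ^ e, hNcXf haN⟩, ?_, rfl⟩
  show κ (S.φ.rangeRestrict ⟨z ^ 2 ^ e, hNcXf haN⟩) ∈ Cfsg.pCore 2 (S.φ.range ⧸ KΓ)
  obtain ⟨hzP, hzN⟩ := hX z hz
  obtain ⟨l, hl, -, hzl, hcases⟩ := S.dichotomy hq hq2 hzP hzN
  set τ := S.φ ⟨z ^ 2 ^ l, hzl⟩ with hτ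
  have hτa : τ ^ 2 ^ (e - l) = S.φ ⟨z ^ 2 ^ e, hNcXf haN⟩ := by
    rw [hτ, ← map_pow]
    refine congrArg S.φ (Subtype.ext ?_)
    rw [coe_pow]
    show (z ^ 2 ^ l) ^ 2 ^ (e - l) = z ^ 2 ^ e
    rw [← pow_mul, ← pow_add, show l + (e - l) = e by omega]
  rcases hcases with h | ⟨hq1, hm, hfx, hcard⟩
  · rw [show S.φ.rangeRestrict ⟨z ^ 2 ^ e, hNcXf haN⟩ = 1 from Subtype.ext (hτa.symm.trans h), map_one]
    exact one_mem _
  have hτP : τ ^ 2 ^ (e - l + 1) = 1 := by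
    rw [hτ, ← map_pow, show (⟨z ^ 2 ^ l, hzl⟩ : S.Xf) ^ 2 ^ (e - l + 1) = 1 from Subtype.ext (by
      rw [coe_pow, ← pow_mul, ← pow_add, show l + (e - l + 1) = e + 1 by omega, hzP]; rfl), map_one]
  obtain ⟨hq4, hgood⟩ := good_pow_of_exc hτP hq1 hm hfx hcard
  -- a good element and a Sylow subgroup of the image
  set wX : S.Xf := (⟨z ^ 2 ^ l, hzl⟩ : S.Xf) ^ 2 ^ (e - l - 1) with hwX
  set γ := S.φ.rangeRestrict wX with hγ
  have hγv : (γ : MulAut S.Q) = τ ^ 2 ^ (e - l - 1) := map_pow S.φ _ _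
  have hsq2 : γ ^ 2 = S.φ.rangeRestrict ⟨z ^ 2 ^ e, hNcXf haN⟩ := by
    refine Subtype.ext ?_
    rw [coe_pow, hγv, ← pow_mul, ← pow_succ, Nat.sub_add_cancel hm]
    exact hτa
  have hγP : IsPGroup 2 (zpowers γ) := by
    obtain ⟨j, -, hj⟩ := (Nat.dvd_prime_pow Nat.prime_two).1 (orderOf_dvd_of_pow_eq_one
      (show γ ^ 4 = 1 from Subtype.ext (by rw [coe_pow, hγv]; exact hgood.four)) : orderOf γ ∣ 2 ^ 2)
    exact IsPGroup.of_card (n := j) (by rw [Nat.card_zpowers, hj])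
  obtain ⟨P, hP⟩ := hγP.exists_le_sylow
  have hY : Cfsg.IsPSolvable 2 (S.φ.range ⧸ KΓ) :=
    CfsgLib.PLocal.isPSolvable_quotient (CfsgLib.PLocal.isPSolvable_of_surjective _
      S.φ.rangeRestrict_surjective (CfsgLib.PLocal.isPSolvable_subgroup hsol S.Xf)) _
  rw [← hsq2, map_pow]
  refine sq_mem_pCore hY (pPrimeCore_quotient_pPrimeCore 2 S.φ.range)
    (P.mapSurjective (QuotientGroup.mk'_surjective KΓ)) ?_
  rintro _ ⟨t, ht, rfl⟩
  have hPm : IsPGroup 2 ((P : Subgroup S.φ.range).map S.φ.range.subtype) := P.2.map _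
  rcases Good.conj_inv_or_self (hqf := hqf) hq4 S.pow_Q hPm (show Good q (S.φ.range.subtype γ) by rw [Subgroup.subtype_apply, hγv]; exact hgood) (mem_map_of_mem _ (hP (mem_zpowers γ)))
    (mem_map_of_mem _ ht) with h' | h'
  · left
    have h'' : γ⁻¹ * ((t * γ * t⁻¹)⁻¹ * γ) * γ = (t * γ * t⁻¹)⁻¹ * γ := Subtype.ext h'
    have := congrArg κ h''
    simpa only [map_mul, map_inv] using this
  · right
    have h'' : γ⁻¹ * ((t * γ * t⁻¹)⁻¹ * γ) * γ = ((t * γ * t⁻¹)⁻¹ * γ)⁻¹ := Subtype.ext h'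
    have := congrArg κ h''
    simpa only [map_mul, map_inv] using this

end CfsgLib.Core.HHTwo
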