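import Mathlib
import Cfsg.Agent.Lib.Core.HHCritical.TwoTops.PerChar
import Cfsg.Agent.Lib.Components.FStar
import Cfsg.Agent.Lib.Core.SolvableStruct
import Cfsg.Agent.Lib.Core.HHCritical.PLengthStep

/-!
# The tops of a soluble group for the prime two

* `top_mem`: if `O_{2'}(H) = 1` and the `2`-elements of `H` have order at most `2 ^ (e + 1)` then
  their `2 ^ e`-th powers lie in `O_{2',2}` of `H / O_2(H)`
-/

set_option autoImplicit false
set_option linter.all false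

namespace CfsgLib.Core.HHTwo

open Subgroup CfsgLib.Core.HHTop QuadDerived
open scoped commutatorElement

universe u

theorem exists_char_ne_one {X : Type*} [Group X] [Finite X] {K : Type*} [Field K] [IsAlgClosed K]
    [CharP K 2] {V : Type*} [AddCommGroup V] [Module K V] [FiniteDimensional K V]
    (ρ : X →* Module.End K V) (hρ : Function.Injective ρ) {W : Subgroup X}
    (hWc : ∀ s ∈ W, ∀ t ∈ W, s * t = t * s) {z0 : X} (hz0 : z0 ∈ W) (hne : z0 ≠ 1) {n : ℕ}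
    (hn : Odd n) (hzn : z0 ^ n = 1) :
    ∃ f : X → K, (∃ v, v ∈ eig ρ (W : Set X) f ∧ v ≠ 0) ∧ f z0 ≠ 1 := by
  classical
  set V0 := LinearMap.range (ρ z0 - 1) with hV0
  have hinv : ∀ s : W, ∀ v ∈ V0, ρ (s : X) v ∈ V0 := by
    rintro s _ ⟨u, rfl⟩
    refine ⟨ρ (s : X) u, ?_⟩
    simp only [LinearMap.sub_apply, Module.End.one_apply, map_sub, ← Module.End.mul_apply, ← map_mul,
      hWc z0 hz0 _ s.2]
    rw [one_mul]
  haveI : Nontrivial V0 := by
    rw [Submodule.nontrivial_iff_ne_bot]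
    intro h
    rw [hV0, LinearMap.range_eq_bot, sub_eq_zero] at h
    exact hne (hρ (by rw [h, map_one]))
  obtain ⟨lam, v, hv, hlam⟩ := CfsgLib.Core.HHCritical.exists_common_eigenvector
    (fun s : W => (ρ (s : X)).restrict (hinv s)) (fun s t => LinearMap.ext fun v => Subtype.ext (by
      show ρ (s : X) (ρ (t : X) v) = ρ (t : X) (ρ (s : X) v)
      rw [← Module.End.mul_apply, ← Module.End.mul_apply, ← map_mul, ← map_mul,
        hWc _ s.2 _ t.2]))
  refine ⟨fun x => if h : x ∈ W then lam ⟨x, h⟩ else 0,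
    ⟨(v : V), fun s hs => ?_, fun h => hv (Subtype.ext h)⟩, fun h1 => hv (Subtype.ext ?_)⟩
  · show ρ s (v : V) = (if h : s ∈ W then lam ⟨s, h⟩ else 0) • (v : V)
    rw [dif_pos (show s ∈ W from hs)]
    exact congrArg Subtype.val (hlam ⟨s, hs⟩)
  · change (if h : z0 ∈ W then lam ⟨z0, h⟩ else 0) = 1 at h1
    rw [dif_pos hz0] at h1
    have hfix : ρ z0 (v : V) = (v : V) := by
      have h2 : ρ z0 (v : V) = lam ⟨z0, hz0⟩ • (v : V) := congrArg Subtype.val (hlam ⟨z0, hz0⟩)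
      rwa [h1, one_smul] at h2
    obtain ⟨u, hu⟩ := v.2
    rw [LinearMap.sub_apply, Module.End.one_apply, sub_eq_iff_eq_add'] at hu
    have hk : ∀ k : ℕ, ρ (z0 ^ k) u = u + k • (v : V) := by
      intro k
      induction k with
      | zero => simp
      | succ k ih =>
        rw [pow_succ', map_mul, Module.End.mul_apply, ih, map_add, map_nsmul, hfix, hu, succ_nsmul]
        abel
    have h3 := hk n
    rw [hzn, map_one, Module.End.one_apply, left_eq_add, ← Nat.cast_smul_eq_nsmul K] at h3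
    obtain ⟨j, rfl⟩ := hn
    rwa [Nat.cast_add, Nat.cast_mul, Nat.cast_one, show ((2 : ℕ) : K) = 0 from CharP.cast_eq_zero K 2,
      zero_mul, zero_add, one_smul] at h3

/-- The normal subgroup used for one prime. -/
theorem exists_piece {X : Type*} [Group X] [Finite X] {q : ℕ} [hq : Fact q.Prime] :
    ∃ U : Subgroup X, U.Normal ∧ U ≤ Cfsg.pCore q X ∧ IsPGroup q U ∧
      (∀ x ∈ U, ∀ y ∈ U, ⁅x, y⁆ ∈ U ⊓ centralizer (U : Set X)) ∧
      (∀ x ∈ U, x ^ q ∈ U ⊓ centralizer (U : Set X)) ∧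
      ∀ t ∈ Cfsg.pCore q X, (∀ u ∈ U, t * u = u * t) → t ∈ U := by
  have hS : IsPGroup q (Cfsg.pCore q X) := isPGroup_pCore q X
  obtain ⟨C, hCc, hCf, hcl, hself⟩ := CfsgLib.Transfer.exists_critical hS
  haveI := hCc
  refine ⟨C.map (Cfsg.pCore q X).subtype, inferInstance, map_subtype_le C, (hS.to_subgroup C).map _,
    ?_, ?_, ?_⟩
  · rintro _ ⟨u, hu, rfl⟩ _ ⟨u', hu', rfl⟩
    have h := hcl (commutator_mem_commutator hu (mem_top u'))
    refine Subgroup.mem_inf.2 ⟨⟨_, h.1, map_commutatorElement _ _ _⟩, mem_centralizer_iff.2 ?_⟩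
    rintro _ ⟨w, hw, rfl⟩
    rw [← map_commutatorElement, ← map_mul, ← map_mul, mem_centralizer_iff.1 h.2 w hw]
  · rintro _ ⟨u, hu, rfl⟩
    have h1 := hCf (mem_map_of_mem C.subtype
      (CfsgLib.PGroups.pow_mem_frattini (hS.to_subgroup C) (⟨u, hu⟩ : C)))
    rw [Subgroup.subtype_apply, coe_pow] at h1
    refine Subgroup.mem_inf.2 ⟨⟨_, pow_mem hu q, map_pow _ _ _⟩, mem_centralizer_iff.2 ?_⟩
    rintro _ ⟨w, hw, rfl⟩
    rw [← map_pow, ← map_mul, ← map_mul, mem_centralizer_iff.1 h1 w hw]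
  · intro t ht hc
    refine ⟨⟨t, ht⟩, hself (mem_centralizer_iff.2 fun w hw => Subtype.ext ?_), rfl⟩
    exact (hc _ (mem_map_of_mem _ hw)).symm

/-- The tops centralise the normalised abelian groups of odd order. -/
theorem top_centralizes {X : Type*} [Group X] [Finite X] {K : Type*} [Field K] [CharP K 2]
    {V : Type*} [AddCommGroup V] [Module K V] (ρ : X →* Module.End K V) (hρ : Function.Injective ρ)
    {W : Subgroup X} [W.Normal] (hWc : ∀ s ∈ W, ∀ t ∈ W, s * t = t * s)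
    (hodd : (Nat.card W).Coprime 2) {z : X} {e : ℕ} (hzP : z ^ 2 ^ (e + 1) = 1)
    (hzN : ∑ i ∈ Finset.range (2 ^ (e + 1)), ρ (z ^ i) = 0) :
    z ^ 2 ^ e ∈ centralizer (W : Set X) := by
  haveI := Fact.mk Nat.prime_two
  letI : CommGroup W :=
    { (inferInstance : Group W) with mul_comm := fun s t => Subtype.ext (hWc _ s.2 _ t.2) }
  set θ : MulAut W := MulAut.conjNormal z with hθ
  have hp0 : ((2 : ℕ) : Module.End K V) = 0 := by
    rw [← map_natCast (algebraMap K (Module.End K V)), CharP.cast_eq_zero K 2, map_zero]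
  have h := CfsgLib.PGroups.fixed_of_norm_eq_zero (ρ.comp W.subtype) (m := e) hp0 hodd θ
    (by rw [hθ, ← map_pow, hzP, map_one]) (ρ z)
    (fun a => by
      show ρ z * ρ (a : X) = ρ ((θ a : W) : X) * ρ z
      rw [← map_mul, ← map_mul, hθ, MulAut.conjNormal_apply, inv_mul_cancel_right])
    (by simpa only [map_pow] using hzN)
  rw [mem_centralizer_iff]
  intro s hs
  have h1 := hρ (h ⟨s, hs⟩)
  rw [Subgroup.subtype_apply, Subgroup.subtype_apply, hθ, ← map_pow, MulAut.conjNormal_apply,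
    mul_inv_eq_iff_eq_mul] at h1
  exact h1.symm

/-- An element trivial on every piece centralises `O_q`. -/
theorem centralizes_of_char {X : Type*} [Group X] [Finite X] {K : Type*} [Field K] [IsAlgClosed K]
    [CharP K 2] {V : Type*} [AddCommGroup V] [Module K V] [FiniteDimensional K V]
    (ρ : X →* Module.End K V) (hρ : Function.Injective ρ) {q : ℕ} [hq : Fact q.Prime] (hq2 : q ≠ 2)
    {U : Subgroup X} (hUn : U.Normal) (hUq : IsPGroup q U)
    (hUc : ∀ x ∈ U, ∀ y ∈ U, ⁅x, y⁆ ∈ U ⊓ centralizer (U : Set X))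
    (hUs : ∀ t ∈ Cfsg.pCore q X, (∀ u ∈ U, t * u = u * t) → t ∈ U)
    {d : X} (hd2 : ∃ k, d ^ 2 ^ k = 1)
    (hdW : d ∈ centralizer ((U ⊓ centralizer (U : Set X) : Subgroup X) : Set X))
    (hf : ∀ f : X → K, (∃ v, v ∈ eig ρ ((U ⊓ centralizer (U : Set X) : Subgroup X) : Set X) f ∧ v ≠ 0) →
      ∀ u ∈ U, ∀ y ∈ U, f ⁅⁅d, u⁆, y⁆ = 1) :
    ∀ t ∈ Cfsg.pCore q X, d * t = t * d := by
  obtain ⟨k, hk⟩ := hd2
  have hWab : ∀ s ∈ U ⊓ centralizer (U : Set X), ∀ t ∈ U ⊓ centralizer (U : Set X), s * t = t * s :=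
    fun s hs t ht => (mem_centralizer_iff.1 hs.2 t ht.1).symm
  have hdU : ∀ u ∈ U, d * u = u * d := by
    intro u hu
    have hcU : ⁅d, u⁆ ∈ U := by
      rw [commutatorElement_def]
      exact mul_mem (hUn.conj_mem u hu d) (inv_mem hu)
    have hcW : ⁅d, u⁆ ∈ U ⊓ centralizer (U : Set X) := by
      refine Subgroup.mem_inf.2 ⟨hcU, mem_centralizer_iff.2 fun y hy => ?_⟩
      by_contra hne
      have hz0 : ⁅⁅d, u⁆, y⁆ ≠ 1 := fun h =>
        hne (commutatorElement_eq_one_iff_mul_comm.1 h).symm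
      obtain ⟨j, hj⟩ := hUq ⟨_, (hUc _ hcU y hy).1⟩
      obtain ⟨f, hf', hf1⟩ := exists_char_ne_one ρ hρ hWab (hUc _ hcU y hy) hz0
        ((hq.out.odd_of_ne_two hq2).pow (n := j)) (congrArg Subtype.val hj)
      exact hf1 (hf f hf' u hu y hy)
    have hdc : d * ⁅d, u⁆ = ⁅d, u⁆ * d := (mem_centralizer_iff.1 hdW _ hcW).symm
    exact commutatorElement_eq_one_iff_mul_comm.1 (eq_one_of_conj_eq' Nat.prime_two hq.out
      (Ne.symm hq2) hUq hcU hk hdc (u := u) (by rw [commutatorElement_def]; group))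
  intro t ht
  set c := ⁅d, t⁆ with hc
  have hcQ : c ∈ Cfsg.pCore q X := by
    rw [hc, commutatorElement_def]
    exact mul_mem ((normal_pCore _ X).conj_mem t ht d) (inv_mem ht)
  have hcU : c ∈ U := by
    refine hUs c hcQ fun u hu => ?_
    have h1 : d * (t⁻¹ * u * t) = t⁻¹ * u * t * d :=
      hdU _ (by simpa using hUn.conj_mem u hu t⁻¹)
    have h3 : d * (t⁻¹ * u * t) * d⁻¹ = t⁻¹ * u * t := by rw [h1, mul_inv_cancel_right]
    have h4 : d * u * d⁻¹ = u := by rw [hdU u hu, mul_inv_cancel_right]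
    rw [hc, commutatorElement_def]
    calc d * t * d⁻¹ * t⁻¹ * u = d * t * d⁻¹ * (t⁻¹ * u * t) * t⁻¹ := by group
      _ = d * t * d⁻¹ * (d * (t⁻¹ * u * t) * d⁻¹) * t⁻¹ := by rw [h3]
      _ = d * u * d⁻¹ * (d * t * d⁻¹ * t⁻¹) := by group
      _ = u * (d * t * d⁻¹ * t⁻¹) := by rw [h4]
  exact commutatorElement_eq_one_iff_mul_comm.1 (eq_one_of_conj_eq' Nat.prime_two hq.out
    (Ne.symm hq2) hUq hcU hk (hdU c hcU) (u := t) (by rw [commutatorElement_def]; group))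

theorem top_mem_of_rep {X : Type u} [Group X] [Finite X] {K : Type*} [Field K] [IsAlgClosed K]
    [CharP K 2] {V : Type*} [AddCommGroup V] [Module K V] [FiniteDimensional K V]
    (hsol : Group.IsSolvable X) (hO : Cfsg.pCore 2 X = ⊥)
    (ρ : X →* Module.End K V) (hρ : Function.Injective ρ) {e : ℕ}
    (hX : ∀ z : X, (∃ k, z ^ 2 ^ k = 1) → z ^ 2 ^ (e + 1) = 1 ∧
      ∑ i ∈ Finset.range (2 ^ (e + 1)), ρ (z ^ i) = 0)
    {z : X} (hz : ∃ k, z ^ 2 ^ k = 1) :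
    QuotientGroup.mk' (Cfsg.pPrimeCore 2 X) (z ^ 2 ^ e) ∈
      Cfsg.pCore 2 (X ⧸ Cfsg.pPrimeCore 2 X) := by
  classical
  haveI := Fact.mk Nat.prime_two
  haveI := hsol
  -- the pieces
  have hpiece : ∀ q : {q : ℕ // q.Prime ∧ q ≠ 2}, ∃ U : Subgroup X, U.Normal ∧ U ≤ Cfsg.pCore q X ∧
      IsPGroup q U ∧ (∀ x ∈ U, ∀ y ∈ U, ⁅x, y⁆ ∈ U ⊓ centralizer (U : Set X)) ∧
      (∀ x ∈ U, x ^ (q : ℕ) ∈ U ⊓ centralizer (U : Set X)) ∧
      ∀ t ∈ Cfsg.pCore q X, (∀ u ∈ U, t * u = u * t) → t ∈ U := fun q =>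
    haveI := Fact.mk q.2.1
    exists_piece
  choose U hUn hUQ hUq hUc hUp hUs using hpiece
  let W := fun q => U q ⊓ centralizer (U q : Set X)
  have hWn : ∀ q, (W q).Normal := fun q => by haveI := hUn q; exact inferInstance
  have hWab : ∀ q, ∀ s ∈ W q, ∀ t ∈ W q, s * t = t * s := fun q s hs t ht =>
    (mem_centralizer_iff.1 hs.2 t ht.1).symm
  have hUodd : ∀ q, (Nat.card (U q)).Coprime 2 := fun q => by
    haveI := Fact.mk q.2.1
    obtain ⟨j, hj⟩ := IsPGroup.iff_card.1 (hUq q)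
    rw [hj]
    exact ((Nat.coprime_primes q.2.1 Nat.prime_two).2 q.2.2).pow_left j
  have hfixW : ∀ q, ∀ y : X, (∃ k, y ^ 2 ^ k = 1) → y ^ 2 ^ e ∈ centralizer (W q : Set X) := fun q y hy =>
    haveI := hWn q
    top_centralizes ρ hρ (hWab q)
      ((hUodd q).coprime_dvd_left (Subgroup.card_dvd_of_le inf_le_left)) (hX y hy).1 (hX y hy).2
  let ι := {x : {q : ℕ // q.Prime ∧ q ≠ 2} × (X → K) //
    ∃ v, v ∈ eig ρ (W x.1 : Set X) x.2 ∧ v ≠ 0}
  have hper : ∀ i : ι, ∃ J L : Subgroup X, (∀ y : X, (∃ k, y ^ 2 ^ k = 1) → y ^ 2 ^ e ∈ J) ∧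
      (∀ x ∈ J, x ^ 2 ^ Nat.card X ∈ L) ∧
      (∀ g ∈ centralizer (W i.1.1 : Set X), ∀ x ∈ L, g * x * g⁻¹ ∈ L) ∧
      (∀ N : Subgroup X, N.Normal → N ≤ centralizer (W i.1.1 : Set X) → (Nat.card N).Coprime 2 → N ≤ L) ∧
      ∀ d ∈ L, (∃ k, d ^ 2 ^ k = 1) → ∀ u ∈ U i.1.1, ∀ y ∈ U i.1.1, i.1.2 ⁅⁅d, u⁆, y⁆ = 1 := fun i =>
    haveI := hUn i.1.1
    per_char ρ (CfsgLib.Core.isPSolvable_of_isSolvable hsol) i.1.1.2.1 i.1.1.2.2 (U i.1.1) rfl (hUc _) (hUp _) i.1.2 i.2 hX (hfixW _)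
  choose J L hJa hJL hLn hLo hLd using hper
  -- the normal closure of the top
  set a := z ^ 2 ^ e with ha
  set T := normalClosure ({a} : Set X) with hT
  have hTJ : ∀ i, T ≤ J i := by
    intro i
    rw [hT, normalClosure, closure_le]
    intro x hx
    obtain ⟨b, rfl, hb⟩ := Group.mem_conjugatesOfSet_iff.1 hx
    obtain ⟨c, hc⟩ := isConj_iff.1 hb
    rw [← hc, ha, ← conj_pow]
    obtain ⟨k, hk⟩ := hz
    exact hJa i _ ⟨k, by rw [conj_pow, hk, mul_one, mul_inv_cancel]⟩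
  have hTW : ∀ q, T ≤ centralizer (W q : Set X) := fun q => by
    haveI := hWn q
    exact normalClosure_le_normal (Set.singleton_subset_iff.2 (hfixW q z hz))
  set D := T ⊓ ⨅ i, L i with hD
  have hDn : (D.subgroupOf T).Normal := ⟨fun x hx g => by
    rw [mem_subgroupOf] at hx ⊢
    refine Subgroup.mem_inf.2 ⟨(g * x * g⁻¹).2, Subgroup.mem_iInf.2 fun i => ?_⟩
    exact hLn i g (hTW _ g.2) x (Subgroup.mem_iInf.1 hx.2 i)⟩
  -- it has odd order
  have hDodd : (Nat.card D).Coprime 2 := by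
    rw [Nat.coprime_comm, Nat.prime_two.coprime_iff_not_dvd]
    intro hdvd
    obtain ⟨⟨d, hd⟩, hd2⟩ := exists_prime_orderOf_dvd_card' 2 hdvd
    have hd2' : d ^ 2 ^ 1 = 1 := by
      rw [pow_one]
      have := pow_orderOf_eq_one (⟨d, hd⟩ : D)
      rw [hd2] at this
      exact congrArg Subtype.val this
    have hd1 : d ≠ 1 := by
      rintro rfl
      rw [show (⟨1, hd⟩ : D) = 1 from rfl, orderOf_one] at hd2
      omega
    refine hd1 ?_
    have hdQ : ∀ q : {q : ℕ // q.Prime ∧ q ≠ 2}, ∀ t ∈ Cfsg.pCore q X, d * t = t * d := fun q =>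
      haveI := Fact.mk q.2.1
      centralizes_of_char ρ hρ q.2.2 (hUn q) (hUq q) (hUc q) (hUs q) ⟨1, hd2'⟩ (hTW q hd.1)
        fun f hf => hLd ⟨(q, f), hf⟩ d (Subgroup.mem_iInf.1 hd.2 _) ⟨1, hd2'⟩
    have hF : Cfsg.fittingSubgroup X ≤ centralizer ({d} : Set X) := by
      rw [fittingSubgroup_eq_iSup_pCore]
      refine iSup_le fun q => ?_
      by_cases hq2 : (q : ℕ) = 2
      · rw [hq2, hO]; exact bot_le
      · exact fun t ht => mem_centralizer_singleton_iff.2 (hdQ ⟨q, q.2, hq2⟩ t ht).symm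
    have hdF : d ∈ Cfsg.fittingSubgroup X :=
      CfsgLib.Components.centralizer_fitting_le_of_isSolvable
        (mem_centralizer_iff.2 fun t ht => mem_centralizer_singleton_iff.1 (hF ht))
    have hFodd : Cfsg.fittingSubgroup X ≤ Cfsg.pPrimeCore 2 X := by
      rw [fittingSubgroup_eq_iSup_pCore]
      refine iSup_le fun q => ?_
      by_cases hq2 : (q : ℕ) = 2
      · rw [hq2, hO]; exact bot_le
      · exact pCore_le_pPrimeCore_of_ne Nat.prime_two q.2 hq2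
    have h3 := pow_gcd_eq_one.mpr (⟨hd2', orderOf_dvd_iff_pow_eq_one.1
      (Subgroup.orderOf_dvd_natCard _ (hFodd hdF))⟩ :
      d ^ 2 ^ 1 = 1 ∧ d ^ Nat.card (Cfsg.pPrimeCore 2 X) = 1)
    rwa [((coprime_card_pPrimeCore 2 X).symm.pow_left 1).gcd_eq_one, pow_one] at h3
  have hDK : D ≤ Cfsg.pPrimeCore 2 X := by
    haveI := hDn
    have h1 : D.subgroupOf T ≤ Cfsg.pPrimeCore 2 T := le_pPrimeCore
      (by rwa [Nat.card_congr (Subgroup.subgroupOfEquivOfLe inf_le_left).toEquiv])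
    have h2 := (Subgroup.map_mono (f := T.subtype) h1).trans (map_subtype_pPrimeCore_le T)
    rwa [map_subgroupOf_eq_of_le inf_le_left] at h2
  have hp : IsPGroup 2 (T.map (QuotientGroup.mk' (Cfsg.pPrimeCore 2 X))) := by
    rintro ⟨_, ⟨x, hx, rfl⟩⟩
    refine ⟨Nat.card X, Subtype.ext ?_⟩
    rw [coe_pow, ← map_pow]
    exact (QuotientGroup.eq_one_iff _).2 (hDK (Subgroup.mem_inf.2
      ⟨pow_mem hx _, Subgroup.mem_iInf.2 fun i => hJL i x (hTJ i hx)⟩))
  haveI : (T.map (QuotientGroup.mk' (Cfsg.pPrimeCore 2 X))).Normal :=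
    (Subgroup.normalClosure_normal).map _ (QuotientGroup.mk'_surjective _)
  exact le_pCore hp (mem_map_of_mem _ (subset_normalClosure (Set.mem_singleton a)))

/-- The tops lie in `O_{2',2}` modulo `O_2`. -/
theorem top_mem {H : Type u} [Group H] [Finite H] (hsol : Group.IsSolvable H)
    (hO : Cfsg.pPrimeCore 2 H = ⊥) {e : ℕ}
    (hexp : ∀ x : H, (∃ k, x ^ 2 ^ k = 1) → x ^ 2 ^ (e + 1) = 1)
    {y : H} (hy : ∃ k, y ^ 2 ^ k = 1) :
    QuotientGroup.mk' (Cfsg.pPrimeCore 2 (H ⧸ Cfsg.pCore 2 H))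
        (QuotientGroup.mk' (Cfsg.pCore 2 H) y ^ 2 ^ e) ∈
      Cfsg.pCore 2 ((H ⧸ Cfsg.pCore 2 H) ⧸ Cfsg.pPrimeCore 2 (H ⧸ Cfsg.pCore 2 H)) := by
  classical
  haveI := Fact.mk Nat.prime_two
  obtain ⟨M, _, _, r0, em, hM, hinj, hem, hadd, hact⟩ :=
    frattini_rep (CfsgLib.Core.isPSolvable_of_isSolvable hsol) hO
  obtain ⟨W, _, _, _, ι, hι⟩ := exists_linear hM
  set κ := QuotientGroup.mk' (Cfsg.pCore 2 H) with hκ
  haveI := hsol
  refine top_mem_of_rep inferInstance (pCore_quotient_pCore 2 H) (ι.toMonoidHom.comp r0)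
    (hι.comp hinj) (fun z hz => ?_) ?_
  · have hzP : IsPGroup 2 (zpowers z) := by
      obtain ⟨k, hk⟩ := hz
      obtain ⟨j, -, hj⟩ := (Nat.dvd_prime_pow Nat.prime_two).mp (orderOf_dvd_of_pow_eq_one hk)
      exact IsPGroup.of_card (n := j) (by rw [Nat.card_zpowers, hj])
    obtain ⟨S, hS⟩ := HHCritical.exists_sylow_cover (QuotientGroup.mk'_surjective _) hzP
    obtain ⟨z', hz', rfl⟩ := hS (mem_zpowers z)
    obtain ⟨k', hk'⟩ := S.2 ⟨z', hz'⟩
    replace hk' : z' ^ 2 ^ k' = 1 := congrArg Subtype.val hk'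
    refine ⟨by rw [← map_pow, hexp z' ⟨k', hk'⟩, map_one], ?_⟩
    have hN : ∑ i ∈ Finset.range (2 ^ (e + 1)), r0 (κ z') ^ i = 0 := by
      refine DFunLike.ext _ _ fun w => ?_
      obtain ⟨r, rfl⟩ := hem w
      rw [show κ z' = (z' : H ⧸ Cfsg.pCore 2 H) from rfl, norm_apply r0 em hadd hact]
      have hrz : ∃ k, ((r : H) * z') ^ 2 ^ k = 1 := by
        have hmem : ((r : H) * z') ^ 2 ^ k' ∈ Cfsg.pCore 2 H := by
          have h := rpow_div_mem (Cfsg.pCore 2 H) z' r r.2 (2 ^ k')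
          rwa [hk', inv_one, mul_one] at h
        obtain ⟨l, hl⟩ := (isPGroup_pCore 2 H) ⟨_, hmem⟩
        exact ⟨k' + l, by rw [pow_add, pow_mul]; simpa using congrArg Subtype.val hl⟩
      have h1 := hadd 1 1
      rw [mul_one, left_eq_add] at h1
      refine Eq.trans (congrArg em (Subtype.ext ?_)) h1
      show ((r : H) * z') ^ 2 ^ (e + 1) * (z' ^ 2 ^ (e + 1))⁻¹ = 1
      rw [hexp _ hrz, hexp z' ⟨k', hk'⟩, inv_one, mul_one]
    have h := congrArg ι hN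
    rw [map_sum, map_zero] at h
    rw [← h]
    refine Finset.sum_congr rfl fun i _ => ?_
    show ι (r0 (κ z' ^ i)) = _
    rw [map_pow]
  · obtain ⟨k, hk⟩ := hy
    exact ⟨k, by rw [← map_pow, hk, map_one]⟩

end CfsgLib.Core.HHTwo
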