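import Mathlib
import Cfsg.Agent.Lib.Core.HHCritical.TwoTops.Main
import Cfsg.Agent.Lib.Core.HHCritical.TwoTops.ExcPlane

/-!
# A series below the tops at one odd prime

* `sqIter A i`: the iterated squares
* `exists_chain`: for a `2`-subgroup `A` generated by the tops of the `2`-elements normalising it, a
  descending series of invariant subgroups with elementary factors on which those `2`-elements have
  vanishing norm, the last term centralising `O_q`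
-/

set_option autoImplicit false
set_option linter.all false

namespace CfsgLib.Core.HHTwo

open Subgroup CfsgLib.Core.HHTop QuadDerived
open scoped commutatorElement

section Squares

variable {X : Type*} [Group X]

/-- The iterated squares of a subgroup. -/
def sqIter (A : Subgroup X) : ℕ → Subgroup X
  | 0 => A
  | i + 1 => closure ((fun x => x * x) '' (sqIter A i : Set X))

theorem mul_self_mem_sqIter {A : Subgroup X} {i : ℕ} {x : X} (hx : x ∈ sqIter A i) :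
    x * x ∈ sqIter A (i + 1) :=
  subset_closure ⟨x, hx, rfl⟩

theorem sqIter_succ_le (A : Subgroup X) (i : ℕ) : sqIter A (i + 1) ≤ sqIter A i :=
  (closure_le _).2 (by rintro _ ⟨x, hx, rfl⟩; exact mul_mem hx hx)

theorem sqIter_antitone (A : Subgroup X) : Antitone (sqIter A) :=
  antitone_nat_of_succ_le (sqIter_succ_le A)

theorem sqIter_le (A : Subgroup X) (i : ℕ) : sqIter A i ≤ A := sqIter_antitone A (Nat.zero_le i)

theorem conj_mem_sqIter {A : Subgroup X} {g : X} (hg : ∀ a ∈ A, g * a * g⁻¹ ∈ A) :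
    ∀ (i : ℕ), ∀ a ∈ sqIter A i, g * a * g⁻¹ ∈ sqIter A i := by
  intro i
  induction i with
  | zero => exact hg
  | succ i ih =>
    have h : sqIter A (i + 1) ≤ (sqIter A (i + 1)).comap (MulAut.conj g).toMonoidHom := by
      conv_lhs => rw [sqIter]
      rw [closure_le]
      rintro _ ⟨x, hx, rfl⟩
      show g * (x * x) * g⁻¹ ∈ sqIter A (i + 1)
      rw [show g * (x * x) * g⁻¹ = g * x * g⁻¹ * (g * x * g⁻¹) by group]
      exact mul_self_mem_sqIter (ih x hx)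
    exact fun a ha => h ha

theorem sqIter_eq_bot [Finite X] {A : Subgroup X} (hA : IsPGroup 2 A) {N : ℕ} (hN : Nat.card A ≤ N) :
    sqIter A N = ⊥ := by
  haveI := Fact.mk Nat.prime_two
  have h : ∀ i, sqIter A i = ⊥ ∨ Nat.card (sqIter A i) + i ≤ Nat.card A := by
    intro i
    induction i with
    | zero => exact Or.inr (le_of_eq rfl)
    | succ i ih =>
      refine or_iff_not_imp_left.2 fun hne => ?_
      set F := sqIter A i with hF
      have hlt : sqIter A (i + 1) < F := by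
        refine lt_of_le_of_ne (sqIter_succ_le A i) fun heq => ?_
        have hFp : IsPGroup 2 F := hA.to_le (sqIter_le A i)
        haveI : Nontrivial F := (Subgroup.nontrivial_iff_ne_bot F).2 (heq ▸ hne)
        refine CfsgLib.PGroups.frattini_ne_top (G := F) (eq_top_iff.2 ?_)
        have hle : sqIter A (i + 1) ≤ (frattini F).map F.subtype := (closure_le _).2 (by
          rintro _ ⟨x, hx, rfl⟩
          refine ⟨(⟨x, hx⟩ : F) ^ 2, CfsgLib.PGroups.pow_mem_frattini hFp _, ?_⟩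
          rw [map_pow, Subgroup.subtype_apply, pow_two])
        rintro ⟨x, hx⟩ -
        obtain ⟨y, hy, hyx⟩ := hle (heq.symm ▸ hx : x ∈ sqIter A (i + 1))
        exact (Subtype.ext hyx : y = ⟨x, hx⟩) ▸ hy
      rcases ih with h | h
      · exact absurd (le_bot_iff.1 (h ▸ sqIter_succ_le A i)) hne
      · have h1 : Nat.card (sqIter A (i + 1)) < Nat.card F := by
          refine lt_of_le_of_ne (Subgroup.card_le_of_le hlt.le) fun e => hlt.ne ?_
          exact Subgroup.eq_of_le_of_card_ge hlt.le e.ge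
        omega
  rcases h N with h | h
  · exact h
  · have := Nat.card_pos (α := sqIter A N)
    omega

/-- Powers of `r * z` against powers of `z`. -/
theorem mul_pow_div_mem {R : Subgroup X} {z r : X} (hz : ∀ x ∈ R, z * x * z⁻¹ ∈ R) (hr : r ∈ R) :
    ∀ n : ℕ, (r * z) ^ n * (z ^ n)⁻¹ ∈ R := by
  have hzn : ∀ (n : ℕ) (x : X), x ∈ R → z ^ n * x * (z ^ n)⁻¹ ∈ R := by
    intro n
    induction n with
    | zero => intro x hx; simpa using hx
    | succ n ih =>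
      intro x hx
      rw [show z ^ (n + 1) * x * (z ^ (n + 1))⁻¹ = z ^ n * (z * x * z⁻¹) * (z ^ n)⁻¹ by
        rw [pow_succ]; group]
      exact ih _ (hz x hx)
  intro n
  induction n with
  | zero => simp
  | succ n ih =>
    rw [show (r * z) ^ (n + 1) * (z ^ (n + 1))⁻¹ =
        (r * z) ^ n * (z ^ n)⁻¹ * (z ^ n * r * (z ^ n)⁻¹) by rw [pow_succ, pow_succ]; group]
    exact mul_mem ih (hzn n r hr)

theorem exists_pow_eq_one_of_mul {R : Subgroup X} (hR : IsPGroup 2 R) {z r : X}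
    (hz : ∀ x ∈ R, z * x * z⁻¹ ∈ R) (hr : r ∈ R) (h2 : ∃ k, z ^ 2 ^ k = 1) :
    ∃ k, (r * z) ^ 2 ^ k = 1 := by
  obtain ⟨k, hk⟩ := h2
  have h := mul_pow_div_mem hz hr (2 ^ k)
  rw [hk, inv_one, mul_one] at h
  obtain ⟨j, hj⟩ := hR ⟨_, h⟩
  exact ⟨k + j, by rw [pow_add, pow_mul]; simpa using congrArg Subtype.val hj⟩

end Squares

variable {X : Type*} [Group X] [Finite X] {K : Type*} [Field K] [IsAlgClosed K] [CharP K 2]
  {V : Type*} [AddCommGroup V] [Module K V] [FiniteDimensional K V]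

set_option maxHeartbeats 1000000 in
/-- The norm on one piece. -/
theorem Piece.top_div_mem {ρ : X →* Module.End K V} {q : ℕ} [hqf : Fact q.Prime] [Fact (Nat.Prime 2)]
    (S : Piece ρ q) (hq2 : q ≠ 2) {m : ℕ}
    (hX : ∀ z : X, (∃ k, z ^ 2 ^ k = 1) → z ^ 2 ^ (m + 1) = 1 ∧
      ∑ i ∈ Finset.range (2 ^ (m + 1)), ρ (z ^ i) = 0)
    {A : Subgroup X} (hA : IsPGroup 2 A)
    (hgen : A ≤ closure {a | ∃ z ∈ normalizer (A : Set X), (∃ k, z ^ 2 ^ k = 1) ∧ z ^ 2 ^ m = a})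
    (htop : ∀ z ∈ normalizer (A : Set X), (∃ k, z ^ 2 ^ k = 1) → z ^ 2 ^ m ∈ A)
    (hAX : A ≤ S.Xf) {F F' : Subgroup (MulAut S.Q)} (hFA : F ≤ (A.subgroupOf S.Xf).map S.φ)
    (hF' : ∀ x ∈ F, x * x ∈ F') {z r : X} (hzN : z ∈ normalizer (A : Set X))
    (hz2 : ∃ k, z ^ 2 ^ k = 1) (hxN : r * z ∈ normalizer (A : Set X))
    (hx2 : ∃ k, (r * z) ^ 2 ^ k = 1) (hdivA : ∀ n, (r * z) ^ n * (z ^ n)⁻¹ ∈ A)
    (hdiv : ∀ n (h : (r * z) ^ n * (z ^ n)⁻¹ ∈ S.Xf), S.φ ⟨_, h⟩ ∈ F) :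
    ∀ h : (r * z) ^ 2 ^ m * (z ^ 2 ^ m)⁻¹ ∈ S.Xf, S.φ ⟨_, h⟩ ∈ F' := by
  classical
  have hN : ∀ g ∈ normalizer (A : Set X), ∀ a ∈ A, g * a * g⁻¹ ∈ A := fun g hg a ha =>
    (mem_normalizer_iff.1 hg a).1 ha
  set φ := S.φ with hφ
  set Ab := (A.subgroupOf S.Xf).map φ with hAb
  -- the groups generated with one element
  have hpg : ∀ w : S.Xf, (∃ k, w ^ 2 ^ k = 1) → (w : X) ∈ normalizer (A : Set X) →
      (∀ g ∈ Ab, φ w * g * (φ w)⁻¹ ∈ Ab) ∧
        IsPGroup 2 (Ab ⊔ zpowers (φ w) : Subgroup (MulAut S.Q)) := by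
    intro w hw hwN
    have hc : ∀ a ∈ A.subgroupOf S.Xf, w * a * w⁻¹ ∈ A.subgroupOf S.Xf := fun a ha =>
      mem_subgroupOf.2 (by rw [coe_mul, coe_mul, coe_inv]; exact hN _ hwN _ (mem_subgroupOf.1 ha))
    refine ⟨?_, ?_⟩
    · rintro _ ⟨a, ha, rfl⟩
      exact ⟨w * a * w⁻¹, hc a ha, by rw [map_mul, map_mul, map_inv]⟩
    · obtain ⟨k, hk⟩ := hw
      obtain ⟨j, -, hj⟩ := (Nat.dvd_prime_pow Nat.prime_two).1 (orderOf_dvd_of_pow_eq_one hk)
      have hwp : IsPGroup 2 (zpowers w) := IsPGroup.of_card (n := j) (by rw [Nat.card_zpowers, hj])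
      have hAX' : IsPGroup 2 (A.subgroupOf S.Xf) :=
        hA.of_equiv (Subgroup.subgroupOfEquivOfLe (hAX)).symm
      have hle : zpowers w ≤ normalizer (A.subgroupOf S.Xf : Set S.Xf) := by
        rw [zpowers_le, mem_normalizer_iff]
        intro a
        rw [mem_subgroupOf, mem_subgroupOf, coe_mul, coe_mul, coe_inv]
        exact mem_normalizer_iff.1 hwN (a : X)
      have h := (hwp.to_sup_of_normal_right' hAX' hle).map φ
      rw [Subgroup.map_sup, MonoidHom.map_zpowers, sup_comm] at h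
      exact h
  have hiso : ∀ w : S.Xf, ∀ g ∈ Ab ⊔ zpowers (φ w), Pairing S.χ g := by
    intro w g hg
    have hle : Ab ⊔ zpowers (φ w) ≤ φ.range :=
      sup_le (Subgroup.map_le_range _ _) (zpowers_le.2 ⟨w, rfl⟩)
    obtain ⟨x, rfl⟩ := hle hg
    exact S.pairing x
  -- the least powers fixing the eigenvalues
  have hdich : ∀ y : X, ∀ hy : y ∈ normalizer (A : Set X), ∀ hy2 : ∃ k, y ^ 2 ^ k = 1,
      ∃ l ≤ m, (∀ j < l, y ^ 2 ^ j ∉ S.Xf) ∧ ∃ hl : y ^ 2 ^ l ∈ S.Xf,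
        φ ⟨_, hl⟩ ^ 2 ^ (m - l) = φ ⟨y ^ 2 ^ m, hAX (htop y hy hy2)⟩ ∧
        (φ ⟨_, hl⟩ ^ 2 ^ (m - l) = 1 ∨
          (q + 1 = 2 ^ (m - l + 1) ∧ 1 ≤ m - l ∧ Top q (m - l) Ab (φ ⟨_, hl⟩))) := by
    intro y hy hy2
    obtain ⟨hyP, hyS⟩ := hX y hy2
    obtain ⟨l, hlm, hmin, hl, hcase⟩ := S.dichotomy hqf.out hq2 hyP hyS
    have htp : φ ⟨_, hl⟩ ^ 2 ^ (m - l) = φ ⟨y ^ 2 ^ m, hAX (htop y hy hy2)⟩ := by
      rw [← map_pow]
      refine congrArg φ (Subtype.ext ?_)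
      rw [coe_pow]
      show (y ^ 2 ^ l) ^ 2 ^ (m - l) = y ^ 2 ^ m
      rw [← pow_mul, ← pow_add, show l + (m - l) = m by omega]
    refine ⟨l, hlm, hmin, hl, htp, hcase.imp_right ?_⟩
    rintro ⟨hq1, hk1, hfix, hcard⟩
    have hlpow : (⟨y ^ 2 ^ l, hl⟩ : S.Xf) ^ 2 ^ (m - l + 1) = 1 := Subtype.ext (by
      rw [coe_pow, ← pow_mul, ← pow_add, show l + (m - l + 1) = m + 1 by omega, hyP]; rfl)
    obtain ⟨h1, h2⟩ := hpg ⟨_, hl⟩ ⟨_, hlpow⟩ (pow_mem hy _)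
    exact ⟨hq1, hk1, ⟨by rw [← map_pow, hlpow, map_one], hfix, hcard⟩,
      by rw [htp]; exact mem_map_of_mem _ (mem_subgroupOf.2 (htop y hy hy2)), h1, h2⟩
  obtain ⟨l, hlm, hmin, hl, htp, hcase⟩ := hdich z hzN hz2
  obtain ⟨l', hlm', hmin', hl', htp', hcase'⟩ := hdich (r * z) hxN hx2
  have hiffX : ∀ n : ℕ, (r * z) ^ n ∈ S.Xf ↔ z ^ n ∈ S.Xf := by
    intro n
    constructor
    · intro h
      have := mul_mem (inv_mem (hAX (hdivA n))) h
      rwa [mul_inv_rev, inv_inv, mul_assoc, inv_mul_cancel, mul_one] at this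
    · intro h
      have := mul_mem (hAX (hdivA n)) h
      rwa [inv_mul_cancel_right] at this
  obtain rfl : l' = l := by
    rcases lt_trichotomy l' l with h | h | h
    · exact absurd ((hiffX _).1 hl') (hmin l' h)
    · exact h
    · exact absurd ((hiffX _).2 hl) (hmin' l h)
  set v := φ ⟨z ^ 2 ^ l', hl⟩ with hv
  set n := φ ⟨_, hAX (hdivA (2 ^ l'))⟩ with hn
  have hv' : φ ⟨(r * z) ^ 2 ^ l', hl'⟩ = n * v := by
    rw [hn, hv, ← map_mul]
    exact congrArg φ (Subtype.ext (inv_mul_cancel_right _ _).symm)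
  rw [hv'] at hcase' htp'
  have hnF : n ∈ F := hdiv _ _
  have hgen' : ∀ k, q + 1 = 2 ^ (k + 1) → Ab ≤ closure {b | ∃ u, Top q k Ab u ∧ u ^ 2 ^ k = b} := by
    intro k hk
    set Sk := {b | ∃ u, Top q k Ab u ∧ u ^ 2 ^ k = b} with hSk
    have hle : A ≤ ((closure Sk).comap φ).map S.Xf.subtype := hgen.trans ((closure_le _).2 (by
      rintro _ ⟨y, hy, hy2, rfl⟩
      refine ⟨⟨y ^ 2 ^ m, hAX (htop y hy hy2)⟩, ?_, rfl⟩
      obtain ⟨ly, -, -, hly, htpy, hcy⟩ := hdich y hy hy2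
      show φ _ ∈ closure Sk
      rcases hcy with h | ⟨hq1, -, htop'⟩
      · rw [← htpy, h]; exact one_mem _
      · obtain rfl : k = m - ly := Nat.succ_injective
          (Nat.pow_right_injective le_rfl (hk.symm.trans hq1))
        exact subset_closure ⟨_, htop', htpy⟩))
    rintro _ ⟨a, ha, rfl⟩
    obtain ⟨a', ha', he⟩ := hle (mem_subgroupOf.1 ha)
    rw [← (Subtype.ext he : a' = a)]
    exact ha'
  have hc : (n * v) ^ 2 ^ (m - l') * (v ^ 2 ^ (m - l'))⁻¹ ∈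
      F' := by
    rcases hcase with h | ⟨hq1, hk1, hT⟩
    · rcases hcase' with h' | ⟨hq1', hk1', hT'⟩
      · rw [h, h', inv_one, mul_one]; exact one_mem _
      · have hiso' := hiso ⟨(r * z) ^ 2 ^ l', hl'⟩
        rw [hv'] at hiso'
        have := hT'.div_mem hq1' hk1' S.pow_Q hFA hF' (hgen' _ hq1') hiso' (inv_mem hnF)
          (by rw [inv_mul_cancel_left]; exact Or.inl h)
        rw [inv_mul_cancel_left] at this
        simpa using inv_mem this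
    · exact hT.div_mem hq1 hk1 S.pow_Q hFA hF' (hgen' _ hq1) (hiso _) hnF
        (hcase'.imp_right fun h => h.2.2)
  rw [htp, htp', ← map_inv, ← map_mul] at hc
  exact fun h => hc

theorem exists_chain (ρ : X →* Module.End K V) (hρ : Function.Injective ρ) {q : ℕ}
    [hqf : Fact q.Prime] (hq2 : q ≠ 2) {m : ℕ}
    (hX : ∀ z : X, (∃ k, z ^ 2 ^ k = 1) → z ^ 2 ^ (m + 1) = 1 ∧
      ∑ i ∈ Finset.range (2 ^ (m + 1)), ρ (z ^ i) = 0)
    (A : Subgroup X) (hA : IsPGroup 2 A)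
    (hgen : A ≤ closure {a | ∃ z ∈ normalizer (A : Set X), (∃ k, z ^ 2 ^ k = 1) ∧ z ^ 2 ^ m = a})
    (htop : ∀ z ∈ normalizer (A : Set X), (∃ k, z ^ 2 ^ k = 1) → z ^ 2 ^ m ∈ A) :
    ∃ B : ℕ → Subgroup X, Antitone B ∧ B 0 = A ∧
      (∀ i, ∀ g ∈ normalizer (A : Set X), ∀ r ∈ B i, g * r * g⁻¹ ∈ B i) ∧
      (∀ i, ∀ r ∈ B i, r * r ∈ B (i + 1)) ∧
      (∀ i, ∀ z ∈ normalizer (A : Set X), (∃ k, z ^ 2 ^ k = 1) → ∀ r ∈ B i,
        (r * z) ^ 2 ^ m * (z ^ 2 ^ m)⁻¹ ∈ B (i + 1)) ∧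
      ∀ N, Nat.card A ≤ N → ∀ r ∈ B N, ∀ t ∈ Cfsg.pCore q X, r * t = t * r := by
  classical
  haveI := Fact.mk Nat.prime_two
  obtain ⟨U, hUn, hUQ, hUq, hUc, hUp, hUs⟩ := exists_piece (X := X) (q := q)
  haveI := hUn
  set W := U ⊓ centralizer (U : Set X) with hW
  haveI hWn : W.Normal := by rw [hW]; infer_instance
  have hWab : ∀ s ∈ W, ∀ t ∈ W, s * t = t * s := fun s hs t ht =>
    (mem_centralizer_iff.1 hs.2 t ht.1).symm
  have hWodd : (Nat.card W).Coprime 2 := by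
    obtain ⟨j, hj⟩ := IsPGroup.iff_card.1 (hUq.to_le (inf_le_left : W ≤ U))
    rw [hj]
    exact ((Nat.coprime_primes hqf.out Nat.prime_two).2 hq2).pow_left j
  have hAW : A ≤ centralizer (W : Set X) := hgen.trans ((closure_le _).2 (by
    rintro _ ⟨z, -, hz, rfl⟩
    exact top_centralizes ρ hρ hWab hWodd (hX z hz).1 (hX z hz).2))
  let ι := {f : X → K // ∃ v, v ∈ eig ρ (W : Set X) f ∧ v ≠ 0}
  obtain ⟨S, hSU, hSW, hSf⟩ : ∃ S : ι → Piece ρ q,
      (∀ f, (S f).U = U) ∧ (∀ f, (S f).W = W) ∧ ∀ f, (S f).f = f.1 :=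
    ⟨fun f => ⟨U, W, hUn, rfl, hUc, hUp, f.1, f.2⟩, fun _ => rfl, fun _ => rfl, fun _ => rfl⟩
  have hAX : ∀ f, A ≤ (S f).Xf := fun f => by
    refine hAW.trans ?_
    rw [← hSW f]
    exact (S f).centralizer_le_Xf
  have hN : ∀ g ∈ normalizer (A : Set X), ∀ a ∈ A, g * a * g⁻¹ ∈ A := fun g hg a ha =>
    (mem_normalizer_iff.1 hg a).1 ha
  let Sf : ι → ℕ → Subgroup X := fun f i =>
    ((((sqIter A i).subgroupOf (S f).Xf).map (S f).φ).comap (S f).φ).map (S f).Xf.subtype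
  let B : ℕ → Subgroup X := fun i => A ⊓ ⨅ f, Sf f i
  have hiff : ∀ (f : ι) (i : ℕ) (r : X), r ∈ A → (r ∈ Sf f i ↔
      ∃ a ∈ sqIter A i, ∀ u ∈ U, ∀ y ∈ U, f.1 ⁅⁅a⁻¹ * r, u⁆, y⁆ = 1) := by
    intro f i r hr
    have hφ : ∀ a : (S f).Xf, (S f).φ a = (S f).φ ⟨r, hAX f hr⟩ ↔
        ∀ u ∈ U, ∀ y ∈ U, f.1 ⁅⁅(a : X)⁻¹ * r, u⁆, y⁆ = 1 := fun a => by
      rw [← inv_mul_eq_one, ← map_inv, ← map_mul]
      rw [← hSU f, ← hSf f]
      exact (S f).φ_eq_one_iff _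
    constructor
    · rintro ⟨r', hr', rfl⟩
      obtain ⟨a, ha, he⟩ := hr'
      exact ⟨a, mem_subgroupOf.1 ha, (hφ a).1 he⟩
    · rintro ⟨a, ha, he⟩
      exact ⟨⟨r, hAX f hr⟩, ⟨⟨a, hAX f (sqIter_le A i ha)⟩, mem_subgroupOf.2 ha, (hφ _).2 he⟩, rfl⟩
  have hmono : Antitone B := fun i j hij =>
    inf_le_inf le_rfl (iInf_mono fun f => map_mono (comap_mono (map_mono
      (fun x hx => sqIter_antitone A hij hx))))
  have hBconj : ∀ i, ∀ g ∈ normalizer (A : Set X), ∀ r ∈ B i, g * r * g⁻¹ ∈ B i := by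
    intro i g hg r hr
    refine Subgroup.mem_inf.2 ⟨hN g hg r hr.1, Subgroup.mem_iInf.2 fun f => ?_⟩
    obtain ⟨v, hv, hv0⟩ := f.2
    let f' : ι := ⟨fun x => f.1 (g⁻¹⁻¹ * x * g⁻¹), ρ g⁻¹ v,
      eig_conj ρ (fun s hs => by simpa using hWn.conj_mem s hs g) hv, fun h => hv0 (by
        have h1 := congrArg (ρ g) h
        rwa [← Module.End.mul_apply, ← map_mul, mul_inv_cancel, map_one, Module.End.one_apply,
          map_zero] at h1)⟩
    obtain ⟨a, ha, he⟩ := (hiff f' i r hr.1).1 (Subgroup.mem_iInf.1 hr.2 f')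
    refine (hiff f i _ (hN g hg r hr.1)).2
      ⟨g * a * g⁻¹, conj_mem_sqIter (hN g hg) i a ha, fun u hu y hy => ?_⟩
    have h1 := he (g⁻¹ * u * g) (by simpa using hUn.conj_mem u hu g⁻¹)
      (g⁻¹ * y * g) (by simpa using hUn.conj_mem y hy g⁻¹)
    change f.1 (g⁻¹⁻¹ * _ * g⁻¹) = 1 at h1
    rw [← h1]
    congr 1
    simp only [commutatorElement_def]
    group
  refine ⟨B, hmono, ?_, hBconj, ?_, ?_, ?_⟩
  · refine inf_eq_left.2 (le_iInf fun f r hr => (hiff f 0 r hr).2 ⟨r, hr, fun u _ y _ => ?_⟩)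
    rw [inv_mul_cancel, commutatorElement_one_left, commutatorElement_one_left]
    rw [← hSf f]
    exact (S f).f_one
  · intro i r hr
    refine Subgroup.mem_inf.2 ⟨mul_mem hr.1 hr.1, Subgroup.mem_iInf.2 fun f => ?_⟩
    obtain ⟨r', hr', rfl⟩ := Subgroup.mem_iInf.1 hr.2 f
    obtain ⟨a, ha, he⟩ := hr'
    exact ⟨r' * r', ⟨a * a, mem_subgroupOf.2 (mul_self_mem_sqIter (mem_subgroupOf.1 ha)),
      by rw [map_mul, map_mul, he]⟩, map_mul _ _ _⟩
  · intro i z hzN hz2 r hr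
    have hzA := hN z hzN
    have hxN : r * z ∈ normalizer (A : Set X) := mul_mem (le_normalizer hr.1) hzN
    have hx2 := exists_pow_eq_one_of_mul hA hzA hr.1 hz2
    have hzB : ∀ b ∈ B i, z * b * z⁻¹ ∈ B i := hBconj i z hzN
    refine Subgroup.mem_inf.2 ⟨mul_mem (htop _ hxN hx2) (inv_mem (htop z hzN hz2)),
      Subgroup.mem_iInf.2 fun f => ?_⟩
    have hdivB : ∀ n, (r * z) ^ n * (z ^ n)⁻¹ ∈ B i := mul_pow_div_mem hzB hr
    refine ⟨⟨_, hAX f (mul_mem (htop _ hxN hx2) (inv_mem (htop z hzN hz2)))⟩,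
      (S f).top_div_mem (F := ((sqIter A i).subgroupOf (S f).Xf).map (S f).φ)
        (F' := ((sqIter A (i + 1)).subgroupOf (S f).Xf).map (S f).φ) hq2 hX hA hgen htop (hAX f)
        (map_mono fun x hx => sqIter_le A i hx) ?_ hzN hz2
        hxN hx2 (fun n => (hdivB n).1) (fun n h => ?_) _, rfl⟩
    · rintro _ ⟨a, ha, rfl⟩
      exact ⟨a * a, mem_subgroupOf.2 (mul_self_mem_sqIter (mem_subgroupOf.1 ha)), map_mul _ _ _⟩
    · obtain ⟨r', hr', he⟩ := Subgroup.mem_iInf.1 (hdivB n).2 f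
      rw [show (⟨_, h⟩ : (S f).Xf) = r' from Subtype.ext he.symm]
      exact hr'
  · intro N hNA r hr t ht
    obtain ⟨j, hj⟩ := hA ⟨r, hr.1⟩
    refine centralizes_of_char ρ hρ hq2 hUn hUq hUc hUs ⟨j, congrArg Subtype.val hj⟩ (hAW hr.1)
      (fun f hf u hu y hy => ?_) t ht
    obtain ⟨a, ha, he⟩ := (hiff ⟨f, hf⟩ N r hr.1).1 (Subgroup.mem_iInf.1 hr.2 ⟨f, hf⟩)
    rw [sqIter_eq_bot hA hNA, Subgroup.mem_bot] at ha
    simpa [ha] using he u hu y hy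

end CfsgLib.Core.HHTwo
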