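import Mathlib
import Cfsg.Agent.Lib.Core.HHCritical.TwoTops.Layers

/-!
# The module given by invariant sections of `O_2`

* `NormData n X`: a faithful module of exponent two on which every `2`-element has order at most
  `2 ^ n` and vanishing norm
* `normData_quotient`: sections of `O_2(Y)` with vanishing norms give such a module of `Y / O_2(Y)`
-/

set_option autoImplicit false
set_option linter.all false

namespace CfsgLib.Core.HHTwo

open Subgroup CfsgLib.Core.HHTop
open scoped commutatorElement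

universe u

/-- A faithful module of exponent two with vanishing norms. -/
def NormData (n : ℕ) (X : Type u) [Group X] : Prop :=
  ∃ (M : Type u) (_ : AddCommGroup M) (_ : Finite M) (r : X →* AddMonoid.End M),
    (∀ x : M, 2 • x = 0) ∧ Function.Injective r ∧
      ∀ z : X, (∃ k, z ^ 2 ^ k = 1) → z ^ 2 ^ n = 1 ∧ ∑ i ∈ Finset.range (2 ^ n), r (z ^ i) = 0

theorem NormData.congr {n : ℕ} {X X' : Type u} [Group X] [Group X'] (e : X' ≃* X) (h : NormData n X) :
    NormData n X' := by
  obtain ⟨M, iA, iF, r, hM, hr, hn⟩ := h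
  refine ⟨M, iA, iF, r.comp e.toMonoidHom, hM, hr.comp e.injective, fun z ⟨k, hk⟩ => ?_⟩
  obtain ⟨h1, h2⟩ := hn (e z) ⟨k, by rw [← map_pow, hk, map_one]⟩
  refine ⟨e.injective (by rw [map_pow, h1, map_one]), ?_⟩
  rw [← h2]
  refine Finset.sum_congr rfl fun i _ => ?_
  show r (e (z ^ i)) = r (e z ^ i)
  rw [map_pow e]

variable {Y : Type u} [Group Y] [Finite Y]

/-- An invariant section of `O_2` of exponent two with vanishing norms. -/
structure PreLayer (n : ℕ) (H H' : Subgroup Y) : Prop where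
  nH : H.Normal
  nH' : H'.Normal
  le : H' ≤ H
  leR : H ≤ Cfsg.pCore 2 Y
  sq : ∀ h ∈ H, h * h ∈ H'
  norm : ∀ h ∈ H, ∀ y : Y, (∃ k, y ^ 2 ^ k = 1) → (h * y) ^ 2 ^ n * (y ^ 2 ^ n)⁻¹ ∈ H'

variable {n : ℕ}

/-- The module of one section. -/
theorem PreLayer.exists_rep [(Cfsg.pCore 2 Y).Normal] {H H' : Subgroup Y} (hL : PreLayer n H H')
    (hc : ∀ h ∈ H, ∀ r ∈ Cfsg.pCore 2 Y, ⁅r, h⁆ ∈ H') :
    ∃ (M : Type u) (_ : AddCommGroup M) (_ : Finite M) (r : Y ⧸ Cfsg.pCore 2 Y →* AddMonoid.End M),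
      (∀ x : M, 2 • x = 0) ∧
      (∀ y : Y, (∃ k, y ^ 2 ^ k = 1) →
        ∑ i ∈ Finset.range (2 ^ n), r (((y ^ i : Y)) : Y ⧸ Cfsg.pCore 2 Y) = 0) ∧
      ∀ d : Y, r (d : Y ⧸ Cfsg.pCore 2 Y) = 1 → ∀ h ∈ H, ⁅d, h⁆ ∈ H' := by
  haveI := hL.nH
  haveI := hL.nH'
  set ψ := QuotientGroup.mk' H' with hψ
  set V := H.map ψ with hV
  haveI : V.Normal := hL.nH.map ψ (QuotientGroup.mk'_surjective H')
  have hone : ∀ x : Y, x ∈ H' → ψ x = 1 := fun x hx => (QuotientGroup.eq_one_iff x).2 hx
  have hVp : ∀ v ∈ V, v * v = 1 := by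
    rintro _ ⟨h, hh, rfl⟩
    rw [← map_mul]
    exact hone _ (hL.sq h hh)
  letI : CommGroup V :=
    { (inferInstance : Group V) with
      mul_comm := fun v w => by
        have h2 : ∀ z : V, z * z = 1 := fun z => Subtype.ext (hVp _ z.2)
        calc v * w = (v * w)⁻¹ := eq_inv_of_mul_eq_one_left (h2 _)
          _ = w * v := by
            rw [mul_inv_rev, inv_eq_of_mul_eq_one_left (h2 w), inv_eq_of_mul_eq_one_left (h2 v)] }
  let c : (Y ⧸ H') →* AddMonoid.End (Additive V) :=
    { toFun := fun x => MonoidHom.toAdditive (MulAut.conjNormal x : MulAut V).toMonoidHom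
      map_one' := by rw [map_one]; rfl
      map_mul' := fun x y => by rw [map_mul]; rfl }
  have hcv : ∀ (x : Y ⧸ H') (v : V),
      ((Additive.toMul (c x (Additive.ofMul v)) : V) : Y ⧸ H') = x * v * x⁻¹ :=
    fun x v => MulAut.conjNormal_apply x v
  have hker : Cfsg.pCore 2 Y ≤ (c.comp ψ).ker := fun x hx => DFunLike.ext _ _ fun v => by
    obtain ⟨⟨_, h, hh, rfl⟩, rfl⟩ := Additive.ofMul.surjective v
    apply Additive.toMul.injective
    apply Subtype.ext
    show ((Additive.toMul (c (ψ x) (Additive.ofMul _)) : V) : Y ⧸ H') = ψ h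
    rw [hcv]
    have h1 := hone _ (hc h hh x hx)
    rw [map_commutatorElement, commutatorElement_def, mul_inv_eq_one] at h1
    exact h1
  refine ⟨Additive V, inferInstance, inferInstance, QuotientGroup.lift _ (c.comp ψ) hker, fun x => ?_,
    fun y hy => DFunLike.ext _ _ fun v => ?_, fun d hd h hh => ?_⟩
  · rw [two_nsmul]
    exact Additive.toMul.injective (Subtype.ext (hVp _ (Additive.toMul x).2))
  · obtain ⟨⟨_, h, hh, rfl⟩, rfl⟩ := Additive.ofMul.surjective v
    have key : ∀ k, ((Additive.toMul ((∑ i ∈ Finset.range k, c (ψ (y ^ i)))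
        (Additive.ofMul (⟨ψ h, mem_map_of_mem ψ hh⟩ : V))) : V) : Y ⧸ H') =
        ψ ((h * y) ^ k * (y ^ k)⁻¹) := by
      intro k
      induction k with
      | zero =>
        rw [Finset.range_zero, Finset.sum_empty, pow_zero, pow_zero, inv_one, mul_one, map_one]
        rfl
      | succ k ih =>
        rw [Finset.sum_range_succ]
        show ((Additive.toMul (((∑ i ∈ Finset.range k, c (ψ (y ^ i))) _ +
          c (ψ (y ^ k)) _ : Additive V)) : V) : Y ⧸ H') = _
        rw [toMul_add, Subgroup.coe_mul, ih, hcv, ← map_inv, ← map_mul, ← map_mul, ← map_mul]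
        congr 1
        rw [pow_succ, pow_succ]; group
    apply Additive.toMul.injective
    apply Subtype.ext
    show ((Additive.toMul ((∑ i ∈ Finset.range (2 ^ n), c (ψ (y ^ i))) _) : V) : Y ⧸ H') = 1
    rw [key]
    exact hone _ (hL.norm h hh y hy)
  · have h1 := hcv (ψ d) ⟨ψ h, mem_map_of_mem ψ hh⟩
    rw [show c (ψ d) = 1 from hd] at h1
    change ψ h = ψ d * ψ h * (ψ d)⁻¹ at h1
    rw [← QuotientGroup.eq_one_iff]
    show ψ ⁅d, h⁆ = 1
    rw [map_commutatorElement, commutatorElement_def, ← h1, mul_inv_cancel]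

/-- Componentwise endomorphisms. -/
def piEnd {ι : Type u} {M : ι → Type u} [∀ i, AddCommGroup (M i)] (f : ∀ i, AddMonoid.End (M i)) :
    AddMonoid.End (∀ i, M i) :=
  AddMonoidHom.mk' (fun x i => f i (x i)) fun x y => funext fun i => map_add (f i) _ _

/-- An element of odd order trivial on all central sections is trivial on every section. -/
theorem PreLayer.commutator_mem [(Cfsg.pCore 2 Y).Normal] {p : ℕ} (hp : p.Prime) (hp2 : p ≠ 2) {d : Y}
    (hd : d ^ p = 1)
    (hlay : ∀ H H' : Subgroup Y, PreLayer n H H' → (∀ h ∈ H, ∀ r ∈ Cfsg.pCore 2 Y, ⁅r, h⁆ ∈ H') →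
      ∀ h ∈ H, ⁅d, h⁆ ∈ H') :
    ∀ (N : ℕ) (H H' : Subgroup Y), Nat.card H ≤ N → PreLayer n H H' → ∀ h ∈ H, ⁅d, h⁆ ∈ H' := by
  haveI := Fact.mk Nat.prime_two
  intro N
  induction N with
  | zero => intro H H' h; exact absurd h (not_le.2 Nat.card_pos)
  | succ N ih =>
    intro H H' hN hL h hh
    haveI := hL.nH
    haveI := hL.nH'
    set R := Cfsg.pCore 2 Y with hR
    have hdh : ⁅d, h⁆ ∈ H := by
      rw [commutatorElement_def]
      exact mul_mem (hL.nH.conj_mem h hh d) (inv_mem hh)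
    by_cases hle : H ≤ H'
    · exact hle hdh
    set H1 := ⁅H, R⁆ ⊔ H' with hH1
    have h1le : H1 ≤ H := sup_le (Subgroup.commutator_le_left H R) hL.le
    have hne : H1 ≠ H := by
      intro heq
      refine hle ?_
      set ψ := QuotientGroup.mk' H' with hψ
      have hHb : ⁅H.map ψ, R.map ψ⁆ = H.map ψ := by
        conv_rhs => rw [← heq, hH1, Subgroup.map_sup, QuotientGroup.map_mk'_self, sup_bot_eq]
        rw [map_commutator]
      have hk : ∀ k, H.map ψ ≤ (R.map ψ).lowerCentralSeries k := by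
        intro k
        induction k with
        | zero => simpa using map_mono (f := ψ) hL.leR
        | succ k ihk =>
          rw [Subgroup.lowerCentralSeries_succ, ← hHb]
          exact commutator_mono ihk le_rfl
      haveI : Group.IsNilpotent (R.map ψ) := ((isPGroup_pCore 2 Y).map ψ).isNilpotent
      have key : ∀ k, ((⊤ : Subgroup (R.map ψ)).lowerCentralSeries k).map (R.map ψ).subtype =
          (R.map ψ).lowerCentralSeries k := by
        intro k
        induction k with
        | zero => simp [← MonoidHom.range_eq_map]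
        | succ k ihk =>
          rw [Subgroup.lowerCentralSeries_succ, Subgroup.lowerCentralSeries_succ, map_commutator, ihk,
            ← MonoidHom.range_eq_map, range_subtype]
      have hbot := key (Group.nilpotencyClass (R.map ψ))
      rw [Subgroup.lowerCentralSeries_nilpotencyClass, Subgroup.map_bot] at hbot
      have h0 := hk (Group.nilpotencyClass (R.map ψ))
      rw [← hbot, le_bot_iff, Subgroup.map_eq_bot_iff, QuotientGroup.ker_mk'] at h0
      exact h0
    have hL1 : PreLayer n H H1 := ⟨hL.nH, inferInstance, h1le, hL.leR,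
      fun x hx => mem_sup_right (hL.sq x hx), fun x hx y hy => mem_sup_right (hL.norm x hx y hy)⟩
    have hL2 : PreLayer n H1 H' := ⟨inferInstance, hL.nH', le_sup_right, h1le.trans hL.leR,
      fun x hx => hL.sq x (h1le hx), fun x hx => hL.norm x (h1le hx)⟩
    have hc : ⁅d, h⁆ ∈ H1 := hlay H H1 hL1 (fun x hx r hr => mem_sup_left (by
      rw [← commutatorElement_inv]; exact inv_mem (commutator_mem_commutator hx hr))) h hh
    have hlt : Nat.card H1 < Nat.card H := by
      refine lt_of_le_of_ne (Subgroup.card_le_of_le h1le) fun e => hne ?_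
      exact Subgroup.eq_of_le_of_card_ge h1le e.ge
    have hcd := ih H1 H' (by omega) hL2 _ hc
    rw [← QuotientGroup.eq_one_iff] at hcd ⊢
    have hcd' : ((d : Y ⧸ H')) * (⁅d, h⁆ : Y) = (⁅d, h⁆ : Y) * (d : Y ⧸ H') :=
      commutatorElement_eq_one_iff_mul_comm.1
        ((map_commutatorElement (QuotientGroup.mk' H') d ⁅d, h⁆).symm.trans hcd)
    refine eq_one_of_conj_eq' (j := 1) hp Nat.prime_two hp2 (S := zpowers ((⁅d, h⁆ : Y) : Y ⧸ H'))
      ?_ (mem_zpowers _) (by rw [pow_one, ← QuotientGroup.mk_pow, hd, QuotientGroup.mk_one]) hcd'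
      (u := (h : Y ⧸ H')) ?_
    · have h2 : (((⁅d, h⁆ : Y) : Y ⧸ H')) ^ 2 ^ 1 = 1 := by
        rw [pow_one, ← QuotientGroup.mk_pow, QuotientGroup.eq_one_iff, pow_two]
        exact hL.sq _ hdh
      obtain ⟨j, -, hj⟩ := (Nat.dvd_prime_pow Nat.prime_two).1 (orderOf_dvd_of_pow_eq_one h2)
      exact IsPGroup.of_card (n := j) (by rw [Nat.card_zpowers, hj])
    · rw [← QuotientGroup.mk_mul, ← QuotientGroup.mk_mul, ← QuotientGroup.mk_mul, commutatorElement_def]
      congr 1
      group

/-- An element of odd order trivial on the factors of a series centralises it. -/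
theorem centralizes_of_series {p : ℕ} (hp : p.Prime) (hp2 : p ≠ 2) {d : Y} (hd : d ^ p = 1)
    (T : ℕ → Subgroup Y) (hT : ∀ i, T i ≤ Cfsg.pCore 2 Y)
    (hstep : ∀ i, ∀ h ∈ T i, ⁅d, h⁆ ∈ T (i + 1)) {N : ℕ} (hN : ∀ h ∈ T N, d * h = h * d) :
    ∀ h ∈ T 0, d * h = h * d := by
  suffices h : ∀ j i, i + j = N → ∀ h ∈ T i, d * h = h * d from h N 0 (zero_add N)
  intro j
  induction j with
  | zero => intro i hi; rw [add_zero] at hi; rw [hi]; exact hN
  | succ j ih =>
    intro i hi h hh
    have hc := hstep i h hh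
    exact commutatorElement_eq_one_iff_mul_comm.1 (eq_one_of_conj_eq' (j := 1) hp Nat.prime_two hp2
      (isPGroup_pCore 2 Y) (hT _ hc) (by rw [pow_one, hd]) (ih (i + 1) (by omega) _ hc) (u := h)
      (by rw [commutatorElement_def]; group))

/-- Sections of `O_2` give a faithful module of the quotient. -/
theorem normData_quotient [(Cfsg.pCore 2 Y).Normal] (hsol : Cfsg.IsPSolvable 2 Y)
    (hO : Cfsg.pPrimeCore 2 Y = ⊥) (H : ℕ → Subgroup Y) (hn : ∀ i, (H i).Normal) (hanti : Antitone H)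
    (hR : H 0 ≤ Cfsg.pCore 2 Y) (htop : ∀ y : Y, (∃ k, y ^ 2 ^ k = 1) → y ^ 2 ^ n ∈ H 0)
    (hsq : ∀ i, ∀ h ∈ H i, h * h ∈ H (i + 1))
    (hnorm : ∀ i, ∀ h ∈ H i, ∀ y : Y, (∃ k, y ^ 2 ^ k = 1) →
      (h * y) ^ 2 ^ n * (y ^ 2 ^ n)⁻¹ ∈ H (i + 1))
    {N : ℕ} (hN : H N = ⊥) :
    NormData n (Y ⧸ Cfsg.pCore 2 Y) := by
  classical
  haveI := Fact.mk Nat.prime_two
  set R := Cfsg.pCore 2 Y with hRdef
  have hRp : IsPGroup 2 R := isPGroup_pCore 2 Y
  let I := {p : Subgroup Y × Subgroup Y //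
    PreLayer n p.1 p.2 ∧ ∀ h ∈ p.1, ∀ r ∈ R, ⁅r, h⁆ ∈ p.2}
  choose M iA iF r hM hMn hMd using fun i : I => i.2.1.exists_rep i.2.2
  haveI : ∀ i, Finite (M i) := iF
  let ρ : Y ⧸ R →* AddMonoid.End (∀ i, M i) :=
    { toFun := fun y => piEnd fun i => r i y
      map_one' := DFunLike.ext _ _ fun x => funext fun i => by
        show r i 1 (x i) = x i
        rw [map_one]; rfl
      map_mul' := fun y y' => DFunLike.ext _ _ fun x => funext fun i => by
        show r i (y * y') (x i) = r i y (r i y' (x i))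
        rw [map_mul]; rfl }
  haveI : Finite (∀ i, M i) := Pi.finite
  refine ⟨∀ i, M i, inferInstance, inferInstance, ρ, fun x => funext fun i => hM i (x i), ?_, ?_⟩
  · -- faithful
    rw [← MonoidHom.ker_eq_bot_iff]
    set Nk := ρ.ker.comap (QuotientGroup.mk' R) with hNk
    suffices hle : Nk ≤ R by
      rw [Subgroup.eq_bot_iff_forall]
      intro g hg
      obtain ⟨x, rfl⟩ := QuotientGroup.mk'_surjective R g
      exact (QuotientGroup.eq_one_iff x).2 (hle hg)
    refine le_pCore fun g => ?_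
    obtain ⟨j, hj⟩ : ∃ j, orderOf (g : Y) = 2 ^ j := by
      by_contra hno
      push Not at hno
      obtain ⟨p, hp, hpdvd, hp2⟩ : ∃ p, p.Prime ∧ p ∣ orderOf (g : Y) ∧ p ≠ 2 := by
        by_contra hall
        push Not at hall
        exact hno _ (Nat.eq_prime_pow_of_unique_prime_dvd (orderOf_pos _).ne'
          (fun {d} hd hdd => hall d hd hdd))
      set d := (g : Y) ^ (orderOf (g : Y) / p) with hd
      have hdp : orderOf d = p := by
        rw [hd, orderOf_pow_orderOf_div (orderOf_pos _).ne' hpdvd]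
      have hdNk : d ∈ Nk := pow_mem g.2 _
      have hdpow : d ^ p = 1 := hdp ▸ pow_orderOf_eq_one d
      have hr1 : ∀ i, r i (d : Y ⧸ R) = 1 := fun i => DFunLike.ext _ _ fun x => by
        have h1 := congrFun (DFunLike.congr_fun (show ρ (d : Y ⧸ R) = 1 from hdNk) (Pi.single i x)) i
        change r i (d : Y ⧸ R) (Pi.single i x i) = Pi.single i x i at h1
        rwa [Pi.single_eq_same] at h1
      have hall : ∀ H H' : Subgroup Y, PreLayer n H H' → ∀ h ∈ H, ⁅d, h⁆ ∈ H' := fun H H' hL =>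
        PreLayer.commutator_mem hp hp2 hdpow
          (fun H H' hL hc => hMd ⟨(H, H'), hL, hc⟩ d (hr1 _)) _ H H' le_rfl hL
      have hcentH : ∀ h ∈ H 0, d * h = h * d :=
        centralizes_of_series hp hp2 hdpow H (fun i => (hanti (Nat.zero_le i)).trans hR)
          (fun i => hall _ _ ⟨hn i, hn (i + 1), hanti (Nat.le_succ i), (hanti (Nat.zero_le i)).trans hR,
            hsq i, hnorm i⟩) (N := N) (fun h hh => by
              rw [hN, Subgroup.mem_bot] at hh
              rw [hh, mul_one, one_mul])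
      -- from `O_2` down to the first term
      let T : ℕ → Subgroup Y := fun k => H 0 ⊔ sqIter R k
      have hTR : ∀ k, T k ≤ R := fun k => sup_le hR (sqIter_le R k)
      have hTn : ∀ k, (T k).Normal := fun k => by
        haveI := hn 0
        haveI : (sqIter R k).Normal := ⟨fun a ha g =>
          conj_mem_sqIter (fun a ha => (inferInstance : R.Normal).conj_mem a ha g) k a ha⟩
        exact Subgroup.sup_normal _ _
      have hT0 : ∀ h ∈ T 0, d * h = h * d := by
        refine centralizes_of_series hp hp2 hdpow T hTR (fun k => hall _ _ ⟨hTn k, hTn (k + 1),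
          sup_le_sup_left (sqIter_succ_le R k) _, hTR k, fun x hx => ?_, fun x hx y hy => ?_⟩)
          (N := Nat.card R) ?_
        · haveI := hn 0
          have hx1 : QuotientGroup.mk' (H 0) x ∈ (sqIter R k).map (QuotientGroup.mk' (H 0)) := by
            have := mem_map_of_mem (QuotientGroup.mk' (H 0)) hx
            rwa [Subgroup.map_sup, QuotientGroup.map_mk'_self, bot_sup_eq] at this
          obtain ⟨s, hs, hsx⟩ := hx1
          have h2 : x * x ∈ ((sqIter R (k + 1)).map (QuotientGroup.mk' (H 0))).comap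
              (QuotientGroup.mk' (H 0)) :=
            ⟨s * s, mul_self_mem_sqIter hs, by rw [map_mul, map_mul, hsx]⟩
          rwa [Subgroup.comap_map_eq, QuotientGroup.ker_mk', sup_comm] at h2
        · refine mem_sup_left (mul_mem (htop _ ?_) (inv_mem (htop y hy)))
          exact exists_pow_eq_one_of_mul hRp (fun a ha => (inferInstance : R.Normal).conj_mem a ha y)
            (hTR k hx) hy
        · intro h hh
          simp only [T, sqIter_eq_bot hRp le_rfl, sup_bot_eq] at hh
          exact hcentH h hh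
      have hdR : d ∈ R := CfsgLib.PLocal.centralizer_pCore_le hsol hO
        (mem_centralizer_iff.2 fun h hh => (hT0 h (mem_sup_right hh)).symm)
      obtain ⟨k, hk⟩ := hRp ⟨d, hdR⟩
      have h3 := pow_gcd_eq_one.mpr (⟨hdpow, congrArg Subtype.val hk⟩ : d ^ p = 1 ∧ d ^ 2 ^ k = 1)
      rw [((Nat.coprime_primes hp Nat.prime_two).2 hp2).pow_right k |>.gcd_eq_one, pow_one] at h3
      rw [h3, orderOf_one] at hdp
      exact hp.ne_one hdp.symm
    exact ⟨j, Subtype.ext (by rw [coe_pow, ← hj, pow_orderOf_eq_one]; rfl)⟩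
  · intro z hz
    have hzP : IsPGroup 2 (zpowers z) := by
      obtain ⟨k, hk⟩ := hz
      obtain ⟨j, -, hj⟩ := (Nat.dvd_prime_pow Nat.prime_two).mp (orderOf_dvd_of_pow_eq_one hk)
      exact IsPGroup.of_card (n := j) (by rw [Nat.card_zpowers, hj])
    obtain ⟨S, hS⟩ := HHCritical.exists_sylow_cover (QuotientGroup.mk'_surjective R) hzP
    obtain ⟨y, hy, rfl⟩ := hS (mem_zpowers z)
    obtain ⟨k', hk'⟩ := S.2 ⟨y, hy⟩
    have hy2 : ∃ k, y ^ 2 ^ k = 1 := ⟨k', congrArg Subtype.val hk'⟩
    refine ⟨by rw [← map_pow]; exact (QuotientGroup.eq_one_iff _).2 (hR (htop y hy2)), ?_⟩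
    refine DFunLike.ext _ _ fun x => funext fun i => ?_
    have h1 := DFunLike.congr_fun (hMn i y hy2) (x i)
    rw [show ((∑ j ∈ Finset.range (2 ^ n), r i ((y ^ j : Y) : Y ⧸ R)) (x i)) =
      ∑ j ∈ Finset.range (2 ^ n), r i ((y ^ j : Y) : Y ⧸ R) (x i) from
        map_sum (AddMonoidHom.eval (x i)) _ _] at h1
    rw [show ((∑ j ∈ Finset.range (2 ^ n), ρ (QuotientGroup.mk' R y ^ j)) x) =
      ∑ j ∈ Finset.range (2 ^ n), ρ (QuotientGroup.mk' R y ^ j) x from
        map_sum (AddMonoidHom.eval x) _ _, Finset.sum_apply]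
    refine Eq.trans (Finset.sum_congr rfl fun j _ => ?_) h1
    rw [← map_pow]
    rfl

end CfsgLib.Core.HHTwo
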