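import Mathlib
import Cfsg.Agent.Lib.Core.HHCritical.TwoTops.LayerModule

/-!
# One step of Bryukhanova's bound on the two-length

* `tops_mem_pCore`: the tops lie in `O_{2',2}`
* `normData_step`: the quotient by `O_{2',2}` has the data with exponent one smaller
-/

set_option autoImplicit false
set_option linter.all false

namespace CfsgLib.Core.HHTwo

open Subgroup CfsgLib.Core.HHTop QuadDerived
open scoped commutatorElement

universe u

theorem isPGroup_zpowers_two {X : Type*} [Group X] [Finite X] {z : X} (hz : ∃ k, z ^ 2 ^ k = 1) :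
    IsPGroup 2 (zpowers z) := by
  haveI := Fact.mk Nat.prime_two
  obtain ⟨k, hk⟩ := hz
  obtain ⟨j, -, hj⟩ := (Nat.dvd_prime_pow Nat.prime_two).mp (orderOf_dvd_of_pow_eq_one hk)
  exact IsPGroup.of_card (n := j) (by rw [Nat.card_zpowers, hj])

theorem exists_two_lift {X Y : Type*} [Group X] [Finite X] [Group Y] [Finite Y] {f : X →* Y}
    (hf : Function.Surjective f) {y : Y} (hy : ∃ k, y ^ 2 ^ k = 1) :
    ∃ z, f z = y ∧ ∃ k, z ^ 2 ^ k = 1 := by
  haveI := Fact.mk Nat.prime_two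
  obtain ⟨S, hS⟩ := HHCritical.exists_sylow_cover hf (isPGroup_zpowers_two hy)
  obtain ⟨z, hz, rfl⟩ := hS (mem_zpowers y)
  obtain ⟨k, hk⟩ := S.2 ⟨z, hz⟩
  exact ⟨z, rfl, k, congrArg Subtype.val hk⟩

/-- The subgroup generated by the tops. -/
def topGroup (m : ℕ) (Y : Type*) [Group Y] : Subgroup Y :=
  closure {a | ∃ y : Y, (∃ k, y ^ 2 ^ k = 1) ∧ y ^ 2 ^ m = a}

theorem top_mem_topGroup {m : ℕ} {Y : Type*} [Group Y] {y : Y} (hy : ∃ k, y ^ 2 ^ k = 1) :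
    y ^ 2 ^ m ∈ topGroup m Y :=
  subset_closure ⟨y, hy, rfl⟩

theorem normal_topGroup (m : ℕ) (Y : Type*) [Group Y] : (topGroup m Y).Normal := by
  refine ⟨fun a ha g => ?_⟩
  have h : topGroup m Y ≤ (topGroup m Y).comap (MulAut.conj g).toMonoidHom := (closure_le _).2 (by
    rintro _ ⟨y, ⟨k, hk⟩, rfl⟩
    show g * y ^ 2 ^ m * g⁻¹ ∈ topGroup m Y
    rw [← conj_pow]
    exact top_mem_topGroup ⟨k, by rw [conj_pow, hk, mul_one, mul_inv_cancel]⟩)
  exact h ha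

theorem map_topGroup {m : ℕ} {X Y : Type*} [Group X] [Finite X] [Group Y] [Finite Y] {f : X →* Y}
    (hf : Function.Surjective f) : (topGroup m X).map f = topGroup m Y := by
  refine le_antisymm ?_ ((closure_le _).2 ?_)
  · rw [topGroup, MonoidHom.map_closure, closure_le]
    rintro _ ⟨_, ⟨z, ⟨k, hk⟩, rfl⟩, rfl⟩
    rw [map_pow]
    exact top_mem_topGroup ⟨k, by rw [← map_pow, hk, map_one]⟩
  · rintro _ ⟨y, hy, rfl⟩
    obtain ⟨z, rfl, hz⟩ := exists_two_lift hf hy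
    exact ⟨_, top_mem_topGroup hz, map_pow _ _ _⟩

variable {X : Type u} [Group X] [Finite X]

/-- An element centralising a Sylow subgroup for each prime is central on a `2'`-group. -/
theorem mem_centralizer_of_sylows {d : X} {Kn : Subgroup X}
    (h : ∀ q : ℕ, q.Prime → q ∣ Nat.card Kn →
      ∃ S : Sylow q Kn, ∀ s ∈ (S : Subgroup Kn).map Kn.subtype, d * s = s * d) :
    d ∈ centralizer (Kn : Set X) := by
  have htop : (centralizer ({d} : Set X)).subgroupOf Kn = ⊤ := by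
    refine Subgroup.eq_top_of_card_eq _ (Nat.dvd_antisymm (Subgroup.card_subgroup_dvd_card _) ?_)
    refine (Nat.dvd_iff_prime_pow_dvd_dvd _ _).mpr fun q k hq hk => ?_
    rcases k with _ | k
    · rw [pow_zero]; exact one_dvd _
    haveI := Fact.mk hq
    obtain ⟨S, hS⟩ := h q hq ((dvd_pow_self q k.succ_ne_zero).trans hk)
    refine (S.pow_dvd_card_of_pow_dvd_card hk).trans (Subgroup.card_dvd_of_le fun s hs => ?_)
    rw [mem_subgroupOf, mem_centralizer_singleton_iff]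
    exact (hS _ (mem_map_of_mem _ hs)).symm
  rw [mem_centralizer_iff]
  intro y hy
  have h1 : (⟨y, hy⟩ : Kn) ∈ (centralizer ({d} : Set X)).subgroupOf Kn := htop.ge (mem_top _)
  rw [mem_subgroupOf, mem_centralizer_singleton_iff] at h1
  exact h1

/-- A two-element centralising Sylow subgroups of `O_{2'}` is trivial. -/
theorem eq_one_of_sylows (hsol : Cfsg.IsPSolvable 2 X) (hO : Cfsg.pCore 2 X = ⊥) {d : X}
    (hd : ∃ k, d ^ 2 ^ k = 1)
    (h : ∀ q : ℕ, q.Prime → q ≠ 2 → ∃ S : Sylow q (Cfsg.pPrimeCore 2 X),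
      ∀ s ∈ (S : Subgroup _).map (Cfsg.pPrimeCore 2 X).subtype, d * s = s * d) : d = 1 := by
  haveI := Fact.mk Nat.prime_two
  have hc := coprime_card_pPrimeCore 2 X
  have h1 := CfsgLib.PGroups.centralizer_pPrimeCore_le hsol hO
    (mem_centralizer_of_sylows fun q hq hdvd => h q hq fun e => by
      subst e
      exact Nat.prime_two.ne_one (Nat.Coprime.eq_one_of_dvd hc.symm hdvd))
  obtain ⟨k, hk⟩ := hd
  have h3 := pow_gcd_eq_one.mpr (⟨orderOf_dvd_iff_pow_eq_one.mp (Subgroup.orderOf_dvd_natCard _ h1),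
    hk⟩ : d ^ Nat.card (Cfsg.pPrimeCore 2 X) = 1 ∧ d ^ 2 ^ k = 1)
  rwa [(hc.pow_right k).gcd_eq_one, pow_one] at h3

/-- An element of a `2`-group killed modulo `O_{2'}`. -/
theorem eq_one_of_mk_eq_one [(Cfsg.pPrimeCore 2 X).Normal] {d : X} (hd : ∃ k, d ^ 2 ^ k = 1)
    (h : QuotientGroup.mk' (Cfsg.pPrimeCore 2 X) d = 1) : d = 1 := by
  haveI := Fact.mk Nat.prime_two
  obtain ⟨k, hk⟩ := hd
  have h3 := pow_gcd_eq_one.mpr (⟨orderOf_dvd_iff_pow_eq_one.mp (Subgroup.orderOf_dvd_natCard _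
    ((QuotientGroup.eq_one_iff d).1 h)), hk⟩ : d ^ Nat.card (Cfsg.pPrimeCore 2 X) = 1 ∧ d ^ 2 ^ k = 1)
  rwa [((coprime_card_pPrimeCore 2 X).pow_right k).gcd_eq_one, pow_one] at h3

/-- The normaliser of a Sylow subgroup of `O_{2'}` covers the quotient. -/
theorem normalizer_covers [(Cfsg.pPrimeCore 2 X).Normal] {q : ℕ} [Fact q.Prime]
    (S : Sylow q (Cfsg.pPrimeCore 2 X)) :
    Function.Surjective ((QuotientGroup.mk' (Cfsg.pPrimeCore 2 X)).comp
      (normalizer ((S : Subgroup _).map (Cfsg.pPrimeCore 2 X).subtype : Set X)).subtype) := by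
  set π := QuotientGroup.mk' (Cfsg.pPrimeCore 2 X) with hπ
  intro y
  have h := congrArg (Subgroup.map π) (Sylow.normalizer_sup_eq_top S)
  rw [Subgroup.map_sup, hπ, QuotientGroup.map_mk'_self, sup_bot_eq,
    Subgroup.map_top_of_surjective _ (QuotientGroup.mk'_surjective _)] at h
  obtain ⟨g, hg, rfl⟩ := h.ge (mem_top y)
  exact ⟨⟨g, hg⟩, rfl⟩

variable {K : Type*} [Field K] [IsAlgClosed K] [CharP K 2] {V : Type*} [AddCommGroup V] [Module K V]
  [FiniteDimensional K V]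

/-- The tops seen by one Sylow subgroup of `O_{2'}`. -/
theorem tops_piece [(Cfsg.pPrimeCore 2 X).Normal] (hsol : Cfsg.IsPSolvable 2 X)
    (ρ : X →* Module.End K V) (hρ : Function.Injective ρ) {m : ℕ}
    (hX : ∀ z : X, (∃ k, z ^ 2 ^ k = 1) → z ^ 2 ^ (m + 1) = 1 ∧
      ∑ i ∈ Finset.range (2 ^ (m + 1)), ρ (z ^ i) = 0)
    {q : ℕ} [hqf : Fact q.Prime] (hq2 : q ≠ 2) (S : Sylow q (Cfsg.pPrimeCore 2 X)) :
    ∃ D : Subgroup (X ⧸ Cfsg.pPrimeCore 2 X),
      (∀ a ∈ topGroup m (X ⧸ Cfsg.pPrimeCore 2 X), ∀ x ∈ D, a * x * a⁻¹ ∈ D) ∧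
      (∀ y ∈ topGroup m (X ⧸ Cfsg.pPrimeCore 2 X), y ^ 2 ^ Nat.card X ∈ D) ∧
      ∀ d : X, (∃ k, d ^ 2 ^ k = 1) →
        d ∈ normalizer ((S : Subgroup _).map (Cfsg.pPrimeCore 2 X).subtype : Set X) →
        QuotientGroup.mk' (Cfsg.pPrimeCore 2 X) d ∈ D →
        ∀ s ∈ (S : Subgroup _).map (Cfsg.pPrimeCore 2 X).subtype, d * s = s * d := by
  classical
  haveI := Fact.mk Nat.prime_two
  set S' := (S : Subgroup (Cfsg.pPrimeCore 2 X)).map (Cfsg.pPrimeCore 2 X).subtype with hS'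
  set G := normalizer (S' : Set X) with hG
  set π := (QuotientGroup.mk' (Cfsg.pPrimeCore 2 X)).comp G.subtype with hπ
  have hπs : Function.Surjective π := normalizer_covers S
  have hXG : ∀ z : G, (∃ k, z ^ 2 ^ k = 1) → z ^ 2 ^ (m + 1) = 1 ∧
      ∑ i ∈ Finset.range (2 ^ (m + 1)), (ρ.comp G.subtype) (z ^ i) = 0 := by
    rintro z ⟨k, hk⟩
    obtain ⟨h1, h2⟩ := hX (z : X) ⟨k, by rw [← coe_pow, hk]; rfl⟩
    exact ⟨Subtype.ext (by rw [coe_pow, h1]; rfl), by simpa using h2⟩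
  have hρG : Function.Injective (ρ.comp G.subtype) := hρ.comp G.subtype_injective
  obtain ⟨U, hUn, hUQ, hUq, hUc, hUp, hUs⟩ := exists_piece (X := G) (q := q)
  haveI := hUn
  set W := U ⊓ centralizer (U : Set G) with hW
  haveI hWn : W.Normal := by rw [hW]; infer_instance
  have hWab : ∀ s ∈ W, ∀ t ∈ W, s * t = t * s := fun s hs t ht =>
    (mem_centralizer_iff.1 hs.2 t ht.1).symm
  have hWodd : (Nat.card W).Coprime 2 := by
    obtain ⟨j, hj⟩ := IsPGroup.iff_card.1 (hUq.to_le (inf_le_left : W ≤ U))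
    rw [hj]
    exact ((Nat.coprime_primes hqf.out Nat.prime_two).2 hq2).pow_left j
  have hfixW : ∀ z : G, (∃ k, z ^ 2 ^ k = 1) → z ^ 2 ^ m ∈ centralizer (W : Set G) := fun z hz =>
    top_centralizes (ρ.comp G.subtype) hρG hWab hWodd (hXG z hz).1 (hXG z hz).2
  let ι := {f : G → K // ∃ v, v ∈ eig (ρ.comp G.subtype) (W : Set G) f ∧ v ≠ 0}
  choose J L hJa hJL hLn hLo hLd using fun f : ι =>
    per_char (ρ.comp G.subtype) (CfsgLib.PLocal.isPSolvable_subgroup hsol G) hqf.out hq2 U rfl hUc hUp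
      f.1 f.2 hXG hfixW
  set T := topGroup m G with hT
  have hTW : T ≤ centralizer (W : Set G) := (closure_le _).2 (by
    rintro _ ⟨z, hz, rfl⟩; exact hfixW z hz)
  have hTJ : ∀ f, T ≤ J f := fun f => (closure_le _).2 (by
    rintro _ ⟨z, hz, rfl⟩; exact hJa f z hz)
  set D0 := T ⊓ ⨅ f, L f with hD0
  refine ⟨D0.map π, ?_, ?_, ?_⟩
  · rintro a ha _ ⟨x, hx, rfl⟩
    rw [← map_topGroup (m := m) hπs] at ha
    obtain ⟨t, ht, rfl⟩ := ha
    refine ⟨t * x * t⁻¹, Subgroup.mem_inf.2 ⟨(normal_topGroup m G).conj_mem x hx.1 t,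
      Subgroup.mem_iInf.2 fun f => hLn f t (hTW ht) x (Subgroup.mem_iInf.1 hx.2 f)⟩, ?_⟩
    rw [map_mul, map_mul, map_inv]
  · intro y hy
    rw [← map_topGroup (m := m) hπs] at hy
    obtain ⟨t, ht, rfl⟩ := hy
    refine ⟨t ^ 2 ^ Nat.card X, Subgroup.mem_inf.2 ⟨pow_mem ht _, Subgroup.mem_iInf.2 fun f => ?_⟩,
      map_pow _ _ _⟩
    obtain ⟨c, hc⟩ := Nat.pow_dvd_pow 2 (Subgroup.card_le_card_group G)
    rw [hc, pow_mul]
    exact pow_mem (hJL f t (hTJ f ht)) _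
  · intro d hd2 hdG hdD s hs
    obtain ⟨x, hx, hxd⟩ := hdD
    set dG : G := ⟨d, hdG⟩ with hdGdef
    obtain ⟨j, hj⟩ := hd2
    have hdG2 : dG ^ 2 ^ j = 1 := Subtype.ext (by rw [coe_pow, hdGdef]; exact hj)
    set Nk := π.ker with hNk
    have hk : x⁻¹ * dG ∈ Nk := by
      rw [hNk, MonoidHom.mem_ker, map_mul, map_inv, show π dG = π x from hxd.symm, inv_mul_cancel]
    have hNle : Nk.map G.subtype ≤ (Cfsg.pPrimeCore 2 X) := by
      rintro _ ⟨y, hy, rfl⟩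
      exact (QuotientGroup.eq_one_iff _).1 hy
    have hNodd : (Nat.card Nk).Coprime 2 := by
      rw [← Subgroup.card_map_of_injective G.subtype_injective]
      exact (coprime_card_pPrimeCore 2 X).coprime_dvd_left (Subgroup.card_dvd_of_le hNle)
    haveI : (centralizer (W : Set G)).Normal := Subgroup.normal_centralizer
    have hmk : QuotientGroup.mk' (centralizer (W : Set G)) dG =
        QuotientGroup.mk' (centralizer (W : Set G)) (x⁻¹ * dG) := by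
      rw [map_mul, map_inv, show QuotientGroup.mk' (centralizer (W : Set G)) x = 1 from
        (QuotientGroup.eq_one_iff x).2 (hTW hx.1), inv_one, one_mul]
    have hdW : dG ∈ centralizer (W : Set G) := by
      rw [← QuotientGroup.eq_one_iff]
      show QuotientGroup.mk' (centralizer (W : Set G)) dG = 1
      have h1 : QuotientGroup.mk' (centralizer (W : Set G)) dG ^ 2 ^ j = 1 := by
        rw [← map_pow, hdG2, map_one]
      have h2 : QuotientGroup.mk' (centralizer (W : Set G)) dG ^ Nat.card Nk = 1 := by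
        rw [hmk, ← map_pow, orderOf_dvd_iff_pow_eq_one.1 (Subgroup.orderOf_dvd_natCard _ hk), map_one]
      have h3 := pow_gcd_eq_one.mpr (⟨h1, h2⟩ :
        QuotientGroup.mk' (centralizer (W : Set G)) dG ^ 2 ^ j = 1 ∧
          QuotientGroup.mk' (centralizer (W : Set G)) dG ^ Nat.card Nk = 1)
      rwa [(hNodd.symm.pow_left j).gcd_eq_one, pow_one] at h3
    have hcomm : ∀ t ∈ Cfsg.pCore q G, dG * t = t * dG :=
      centralizes_of_char (ρ.comp G.subtype) hρG hq2 hUn hUq hUc hUs ⟨j, hdG2⟩ hdW fun f hf => by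
        refine hLd ⟨f, hf⟩ dG ?_ ⟨j, hdG2⟩
        rw [show dG = x * (x⁻¹ * dG) by rw [mul_inv_cancel_left]]
        refine mul_mem (Subgroup.mem_iInf.1 hx.2 _) (hLo ⟨f, hf⟩ (Nk ⊓ centralizer (W : Set G))
          (Subgroup.normal_inf_normal _ _) inf_le_right
          (hNodd.coprime_dvd_left (Subgroup.card_dvd_of_le inf_le_left)) ⟨hk, ?_⟩)
        exact Subgroup.mul_mem _ (Subgroup.inv_mem _ (hTW hx.1)) hdW
    have hsG : s ∈ G := le_normalizer hs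
    haveI : (S'.subgroupOf G).Normal := Subgroup.normal_in_normalizer
    have hsQ : (⟨s, hsG⟩ : G) ∈ Cfsg.pCore q G :=
      le_pCore ((S.2.map (Cfsg.pPrimeCore 2 X).subtype).of_equiv (Subgroup.subgroupOfEquivOfLe le_normalizer).symm)
        (mem_subgroupOf.2 hs)
    exact congrArg Subtype.val (hcomm _ hsQ)

/-- The tops lie in `O_{2',2}`. -/
theorem tops_mem_pCore [(Cfsg.pPrimeCore 2 X).Normal] (hsol : Cfsg.IsPSolvable 2 X)
    (hO : Cfsg.pCore 2 X = ⊥) (ρ : X →* Module.End K V) (hρ : Function.Injective ρ) {m : ℕ}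
    (hX : ∀ z : X, (∃ k, z ^ 2 ^ k = 1) → z ^ 2 ^ (m + 1) = 1 ∧
      ∑ i ∈ Finset.range (2 ^ (m + 1)), ρ (z ^ i) = 0) :
    topGroup m (X ⧸ Cfsg.pPrimeCore 2 X) ≤ Cfsg.pCore 2 (X ⧸ Cfsg.pPrimeCore 2 X) := by
  classical
  haveI := Fact.mk Nat.prime_two
  set A := topGroup m (X ⧸ (Cfsg.pPrimeCore 2 X)) with hA
  haveI hAn : A.Normal := normal_topGroup m _
  let ι := Σ q : {q : ℕ // q.Prime ∧ q ≠ 2}, Sylow q (Cfsg.pPrimeCore 2 X)
  choose D hDn hDp hDc using fun i : ι =>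
    haveI := Fact.mk i.1.2.1
    tops_piece hsol ρ hρ hX i.1.2.2 i.2
  set Db := A ⊓ ⨅ i, D i with hDb
  haveI : (Db.subgroupOf A).Normal := ⟨fun x hx a => by
    rw [mem_subgroupOf] at hx ⊢
    exact Subgroup.mem_inf.2 ⟨(a * x * a⁻¹).2,
      Subgroup.mem_iInf.2 fun i => hDn i a a.2 x (Subgroup.mem_iInf.1 hx.2 i)⟩⟩
  have hodd : (Nat.card Db).Coprime 2 := by
    rw [Nat.coprime_comm, Nat.prime_two.coprime_iff_not_dvd]
    intro hdvd
    obtain ⟨⟨y, hy⟩, hy2⟩ := exists_prime_orderOf_dvd_card' 2 hdvd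
    have hy2' : y ^ 2 ^ 1 = 1 := by
      rw [pow_one]
      have := pow_orderOf_eq_one (⟨y, hy⟩ : Db)
      rw [hy2] at this
      exact congrArg Subtype.val this
    obtain ⟨d, hdy, hd⟩ := exists_two_lift (QuotientGroup.mk'_surjective (Cfsg.pPrimeCore 2 X)) ⟨1, hy2'⟩
    have hd1 : d = 1 := eq_one_of_sylows hsol hO hd fun q hq hq2 => by
      haveI := Fact.mk hq
      haveI := (isPGroup_zpowers_two hd).isNilpotent
      have hcop : (Nat.card (zpowers d)).Coprime (Nat.card (Cfsg.pPrimeCore 2 X)) := by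
        obtain ⟨k, hk⟩ := hd
        rw [Nat.card_zpowers]
        exact ((coprime_card_pPrimeCore 2 X).symm.pow_left k).coprime_dvd_left
          (orderOf_dvd_of_pow_eq_one hk)
      obtain ⟨S, hS⟩ := exists_invariant_sylow (A := zpowers d) (K := (Cfsg.pPrimeCore 2 X)) (le_normalizer_of_normal _ _) hcop
        (Or.inl inferInstance) q
      exact ⟨S, hDc ⟨⟨q, hq, hq2⟩, S⟩ d hd (hS (mem_zpowers d))
        (by rw [hdy]; exact Subgroup.mem_iInf.1 hy.2 _)⟩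
    rw [hd1, map_one] at hdy
    rw [← Subgroup.orderOf_coe, show ((⟨y, hy⟩ : Db) : X ⧸ (Cfsg.pPrimeCore 2 X)) = 1 from hdy.symm, orderOf_one] at hy2
    omega
  have hbot : Db = ⊥ := by
    have h1 : Db.subgroupOf A ≤ Cfsg.pPrimeCore 2 A := le_pPrimeCore
      (by rwa [Nat.card_congr (Subgroup.subgroupOfEquivOfLe inf_le_left).toEquiv])
    have h2 := (Subgroup.map_mono (f := A.subtype) h1).trans (map_subtype_pPrimeCore_le A)
    rw [map_subgroupOf_eq_of_le inf_le_left, pPrimeCore_quotient_pPrimeCore] at h2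
    exact le_bot_iff.1 h2
  refine le_pCore fun a => ⟨Nat.card X, Subtype.ext ?_⟩
  have h : (a : X ⧸ (Cfsg.pPrimeCore 2 X)) ^ 2 ^ Nat.card X ∈ Db :=
    Subgroup.mem_inf.2 ⟨pow_mem a.2 _, Subgroup.mem_iInf.2 fun i => hDp i a a.2⟩
  rw [hbot, Subgroup.mem_bot] at h
  rw [coe_pow, h]; rfl

/-- The series in `A` seen by one invariant Sylow subgroup. -/
theorem chain_piece [(Cfsg.pPrimeCore 2 X).Normal] (ρ : X →* Module.End K V) (hρ : Function.Injective ρ)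
    {m : ℕ}
    (hX : ∀ z : X, (∃ k, z ^ 2 ^ k = 1) → z ^ 2 ^ (m + 1) = 1 ∧
      ∑ i ∈ Finset.range (2 ^ (m + 1)), ρ (z ^ i) = 0)
    (hAR : topGroup m (X ⧸ Cfsg.pPrimeCore 2 X) ≤ Cfsg.pCore 2 (X ⧸ Cfsg.pPrimeCore 2 X))
    (P : Sylow 2 X) {q : ℕ} [hqf : Fact q.Prime] (hq2 : q ≠ 2) (S : Sylow q (Cfsg.pPrimeCore 2 X))
    (hPS : (P : Subgroup X) ≤ normalizer ((S : Subgroup _).map (Cfsg.pPrimeCore 2 X).subtype : Set X)) :
    ∃ B : ℕ → Subgroup (X ⧸ Cfsg.pPrimeCore 2 X), Antitone B ∧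
      topGroup m (X ⧸ Cfsg.pPrimeCore 2 X) ≤ B 0 ∧ (∀ i, (B i).Normal) ∧
      (∀ i, ∀ h ∈ B i, h * h ∈ B (i + 1)) ∧
      (∀ i, ∀ h ∈ B i, ∀ y, (∃ k, y ^ 2 ^ k = 1) → (h * y) ^ 2 ^ m * (y ^ 2 ^ m)⁻¹ ∈ B (i + 1)) ∧
      ∀ h ∈ B (Nat.card X), ∀ b ∈ (P : Subgroup X), QuotientGroup.mk' (Cfsg.pPrimeCore 2 X) b = h →
        ∀ s ∈ (S : Subgroup _).map (Cfsg.pPrimeCore 2 X).subtype, b * s = s * b := by
  classical
  haveI := Fact.mk Nat.prime_two
  set A0 := topGroup m (X ⧸ (Cfsg.pPrimeCore 2 X)) with hA0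
  haveI : A0.Normal := normal_topGroup m _
  set S' := (S : Subgroup (Cfsg.pPrimeCore 2 X)).map (Cfsg.pPrimeCore 2 X).subtype with hS'
  set G := normalizer (S' : Set X) with hG
  set π := (QuotientGroup.mk' (Cfsg.pPrimeCore 2 X)).comp G.subtype with hπ
  have hπs : Function.Surjective π := normalizer_covers S
  set AG := ((P : Subgroup X) ⊓ A0.comap (QuotientGroup.mk' (Cfsg.pPrimeCore 2 X))).subgroupOf G with hAG
  have hAG2 : IsPGroup 2 AG :=
    (P.2.to_le inf_le_left).of_equiv (Subgroup.subgroupOfEquivOfLe (inf_le_left.trans hPS)).symm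
  have hπA : AG.map π = A0 := by
    refine le_antisymm ?_ fun a ha => ?_
    · rintro _ ⟨x, hx, rfl⟩
      exact (mem_subgroupOf.1 hx).2
    · obtain ⟨b, hb, rfl⟩ : a ∈ (P : Subgroup X).map (QuotientGroup.mk' (Cfsg.pPrimeCore 2 X)) :=
        pCore_le_sylow (P.mapSurjective (QuotientGroup.mk'_surjective (Cfsg.pPrimeCore 2 X))) (hAR ha)
      exact ⟨⟨b, hPS hb⟩, mem_subgroupOf.2 ⟨hb, ha⟩, rfl⟩
  -- injectivity on `2`-groups
  have hinj : ∀ T : Subgroup G, IsPGroup 2 T → ∀ x ∈ T, ∀ y ∈ T, π x = π y → x = y := by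
    intro T hT x hx y hy h
    obtain ⟨k, hk⟩ := hT ⟨x⁻¹ * y, T.mul_mem (T.inv_mem hx) hy⟩
    have := eq_one_of_mk_eq_one (X := X) (d := ((x⁻¹ * y : G) : X))
      ⟨k, by rw [← coe_pow, show (x⁻¹ * y) ^ 2 ^ k = 1 from congrArg Subtype.val hk]; rfl⟩
      (by show π (x⁻¹ * y) = 1; rw [map_mul, map_inv, h, inv_mul_cancel])
    exact inv_mul_eq_one.1 (Subtype.ext this)
  have htop : ∀ z ∈ normalizer (AG : Set G), (∃ k, z ^ 2 ^ k = 1) → z ^ 2 ^ m ∈ AG := by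
    intro z hz hz2
    obtain ⟨k, hk⟩ := hz2
    have hzp : IsPGroup 2 (zpowers z) := isPGroup_zpowers_two ⟨k, hk⟩
    have hP2 : IsPGroup 2 (zpowers z ⊔ AG : Subgroup G) :=
      hzp.to_sup_of_normal_right' hAG2 (zpowers_le.2 hz)
    obtain ⟨a, ha, he⟩ : π (z ^ 2 ^ m) ∈ AG.map π := by
      rw [hπA, map_pow]
      exact top_mem_topGroup ⟨k, by rw [← map_pow, hk, map_one]⟩
    rw [hinj _ hP2 _ (mem_sup_left (pow_mem (mem_zpowers z) _)) a (mem_sup_right ha) he.symm]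
    exact ha
  -- the normaliser of `AG` covers the quotient
  set E := A0.comap π with hE
  have hAE : AG ≤ E := fun x hx => (mem_subgroupOf.1 hx).2
  haveI : E.Normal := inferInstance
  have hEs : ∃ T : Sylow 2 E, (T : Subgroup E).map E.subtype = AG := by
    obtain ⟨T, hT⟩ := (hAG2.of_equiv (Subgroup.subgroupOfEquivOfLe hAE).symm).exists_le_sylow
    refine ⟨T, le_antisymm ?_ ?_⟩
    · rintro _ ⟨t, ht, rfl⟩
      obtain ⟨a, ha, he⟩ : π (t : G) ∈ AG.map π := by rw [hπA]; exact t.2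
      rw [Subgroup.subtype_apply, ← hinj _ (T.2.map E.subtype) a
        ⟨⟨a, hAE ha⟩, hT (mem_subgroupOf.2 ha), rfl⟩ (t : G) (mem_map_of_mem _ ht) he]
      exact ha
    · intro a ha
      exact ⟨⟨a, hAE ha⟩, hT (mem_subgroupOf.2 ha), rfl⟩
  set NA := normalizer (AG : Set G) with hNA
  set πN := π.comp NA.subtype with hπN
  have hπNs : Function.Surjective πN := by
    intro y
    obtain ⟨T, hT⟩ := hEs
    have h := congrArg (Subgroup.map π) (Sylow.normalizer_sup_eq_top T)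
    rw [hT, ← hNA, Subgroup.map_sup, Subgroup.map_top_of_surjective _ hπs, sup_eq_left.2] at h
    · obtain ⟨g, hg, rfl⟩ := h.ge (mem_top y)
      exact ⟨⟨g, hg⟩, rfl⟩
    · rw [hE, Subgroup.map_comap_eq_self_of_surjective hπs, ← hπA]
      exact map_mono le_normalizer
  have hlift : ∀ y : X ⧸ (Cfsg.pPrimeCore 2 X), (∃ k, y ^ 2 ^ k = 1) →
      ∃ z ∈ NA, (∃ k, z ^ 2 ^ k = 1) ∧ π z = y := by
    intro y hy
    obtain ⟨z, rfl, k, hk⟩ := exists_two_lift hπNs hy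
    exact ⟨(z : G), z.2, ⟨k, by rw [← coe_pow, hk]; rfl⟩, rfl⟩
  have hgen : AG ≤ closure {a | ∃ z ∈ NA, (∃ k, z ^ 2 ^ k = 1) ∧ z ^ 2 ^ m = a} := by
    set T := closure {a | ∃ z ∈ NA, (∃ k, z ^ 2 ^ k = 1) ∧ z ^ 2 ^ m = a} with hT
    have hTA : T ≤ AG := (closure_le _).2 (by rintro _ ⟨z, hz, hz2, rfl⟩; exact htop z hz hz2)
    have hA0T : A0 ≤ T.map π := (closure_le _).2 (by
      rintro _ ⟨y, hy, rfl⟩
      obtain ⟨z, hz, hz2, rfl⟩ := hlift y hy
      exact ⟨z ^ 2 ^ m, subset_closure ⟨z, hz, hz2, rfl⟩, map_pow _ _ _⟩)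
    intro a ha
    obtain ⟨t, ht, he⟩ := hA0T (show π a ∈ A0 by rw [← hπA]; exact mem_map_of_mem π ha)
    rw [← hinj AG hAG2 t (hTA ht) a ha he]
    exact ht
  have hXG : ∀ z : G, (∃ k, z ^ 2 ^ k = 1) → z ^ 2 ^ (m + 1) = 1 ∧
      ∑ i ∈ Finset.range (2 ^ (m + 1)), (ρ.comp G.subtype) (z ^ i) = 0 := by
    rintro z ⟨k, hk⟩
    obtain ⟨h1, h2⟩ := hX (z : X) ⟨k, by rw [← coe_pow, hk]; rfl⟩
    exact ⟨Subtype.ext (by rw [coe_pow, h1]; rfl), by simpa using h2⟩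
  obtain ⟨B, hBa, hB0, hBn, hBs, hBz, hBc⟩ := exists_chain (ρ.comp G.subtype)
    (hρ.comp G.subtype_injective) hq2 hXG AG hAG2 hgen htop
  refine ⟨fun i => (B i).map π, fun i j hij => map_mono (hBa hij), ?_, fun i => ⟨fun h hh y => ?_⟩,
    fun i h hh => ?_, fun i h hh y hy => ?_, fun h hh b hb hbh s hs => ?_⟩
  · show A0 ≤ (B 0).map π
    rw [hB0, hπA]
  · obtain ⟨r, hr, rfl⟩ := hh
    obtain ⟨g, rfl⟩ := hπNs y
    exact ⟨(g : G) * r * (g : G)⁻¹, hBn i g g.2 r hr, by rw [map_mul, map_mul, map_inv]; rfl⟩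
  · obtain ⟨r, hr, rfl⟩ := hh
    exact ⟨r * r, hBs i r hr, map_mul _ _ _⟩
  · obtain ⟨r, hr, rfl⟩ := hh
    obtain ⟨z, hz, hz2, rfl⟩ := hlift y hy
    exact ⟨_, hBz i z hz hz2 r hr, by simp only [map_mul, map_inv, map_pow]⟩
  · obtain ⟨r, hr, rfl⟩ := hh
    have hrA : r ∈ AG := by rw [← hB0]; exact hBa (Nat.zero_le _) hr
    set bG : G := ⟨b, hPS hb⟩ with hbG
    have hbP : bG ∈ (P : Subgroup X).subgroupOf G := mem_subgroupOf.2 hb
    have hrb : r = bG := hinj ((P : Subgroup X).subgroupOf G)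
      (P.2.of_equiv (Subgroup.subgroupOfEquivOfLe hPS).symm) r (mem_subgroupOf.2 (mem_subgroupOf.1 hrA).1)
      bG hbP hbh.symm
    have hsG : s ∈ G := le_normalizer hs
    haveI : (S'.subgroupOf G).Normal := Subgroup.normal_in_normalizer
    have hsQ : (⟨s, hsG⟩ : G) ∈ Cfsg.pCore q G :=
      le_pCore ((S.2.map (Cfsg.pPrimeCore 2 X).subtype).of_equiv (Subgroup.subgroupOfEquivOfLe le_normalizer).symm)
        (mem_subgroupOf.2 hs)
    have h1 := hBc (Nat.card X) ((Subgroup.card_le_card_group AG).trans (Subgroup.card_le_card_group G))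
      r hr _ hsQ
    rw [hrb] at h1
    exact congrArg Subtype.val h1

/-- One step. -/
theorem normData_step [(Cfsg.pPrimeCore 2 X).Normal]
    [(Cfsg.pCore 2 (X ⧸ Cfsg.pPrimeCore 2 X)).Normal] (hsol : Cfsg.IsPSolvable 2 X)
    (hO : Cfsg.pCore 2 X = ⊥) {n : ℕ} (hn : NormData (n + 1) X) :
    NormData n ((X ⧸ Cfsg.pPrimeCore 2 X) ⧸ Cfsg.pCore 2 (X ⧸ Cfsg.pPrimeCore 2 X)) := by
  classical
  haveI := Fact.mk Nat.prime_two
  obtain ⟨M, _, _, r, hM, hr, hN⟩ := hn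
  obtain ⟨W, _, _, _, ι, hι⟩ := exists_linear hM
  set ρ := ι.toMonoidHom.comp r with hρdef
  have hρ : Function.Injective ρ := hι.comp hr
  have hX : ∀ z : X, (∃ k, z ^ 2 ^ k = 1) → z ^ 2 ^ (n + 1) = 1 ∧
      ∑ i ∈ Finset.range (2 ^ (n + 1)), ρ (z ^ i) = 0 := by
    intro z hz
    obtain ⟨h1, h2⟩ := hN z hz
    refine ⟨h1, ?_⟩
    have h := congrArg ι h2
    rw [map_sum, map_zero] at h
    exact h
  set A0 := topGroup n (X ⧸ (Cfsg.pPrimeCore 2 X)) with hA0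
  have hAR : A0 ≤ Cfsg.pCore 2 (X ⧸ (Cfsg.pPrimeCore 2 X)) := tops_mem_pCore hsol hO ρ hρ hX
  obtain ⟨P⟩ : Nonempty (Sylow 2 X) := inferInstance
  haveI := P.2.isNilpotent
  have hcop : (Nat.card (P : Subgroup X)).Coprime (Nat.card (Cfsg.pPrimeCore 2 X)) := by
    obtain ⟨j, hj⟩ := IsPGroup.iff_card.1 P.2
    rw [hj]
    exact (coprime_card_pPrimeCore 2 X).symm.pow_left j
  let Iq := {q : ℕ // q.Prime ∧ q ≠ 2}
  choose S hS using fun q : Iq =>
    haveI := Fact.mk q.2.1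
    exists_invariant_sylow (A := (P : Subgroup X)) (K := (Cfsg.pPrimeCore 2 X)) (le_normalizer_of_normal _ _) hcop
      (Or.inl inferInstance) (q : ℕ)
  choose B hBa hB0 hBn hBs hBz hBc using fun q : Iq =>
    haveI := Fact.mk q.2.1
    chain_piece ρ hρ hX hAR P q.2.2 (S q) (hS q)
  let H : ℕ → Subgroup (X ⧸ (Cfsg.pPrimeCore 2 X)) := fun i => A0 ⊓ ⨅ q, B q i
  have hH0 : H 0 = A0 := inf_eq_left.2 (le_iInf hB0)
  refine normData_quotient (CfsgLib.PLocal.isPSolvable_quotient hsol (Cfsg.pPrimeCore 2 X))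
    (pPrimeCore_quotient_pPrimeCore 2 X) H (fun i => ?_)
    (fun i j hij => inf_le_inf le_rfl (iInf_mono fun q => hBa q hij)) (hH0 ▸ hAR)
    (fun y hy => hH0 ▸ top_mem_topGroup hy) (fun i h hh => ?_) (fun i h hh y hy => ?_)
    (N := Nat.card X) ?_
  · haveI : A0.Normal := normal_topGroup n _
    haveI : (⨅ q, B q i).Normal := Subgroup.normal_iInf_normal fun q => hBn q i
    exact Subgroup.normal_inf_normal _ _
  · exact Subgroup.mem_inf.2 ⟨mul_mem hh.1 hh.1,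
      Subgroup.mem_iInf.2 fun q => hBs q i h (Subgroup.mem_iInf.1 hh.2 q)⟩
  · refine Subgroup.mem_inf.2 ⟨mul_mem (top_mem_topGroup ?_) (inv_mem (top_mem_topGroup hy)),
      Subgroup.mem_iInf.2 fun q => hBz q i h (Subgroup.mem_iInf.1 hh.2 q) y hy⟩
    exact exists_pow_eq_one_of_mul ((isPGroup_pCore 2 _).to_le hAR)
      (fun a ha => (normal_topGroup n _).conj_mem a ha y) hh.1 hy
  · rw [Subgroup.eq_bot_iff_forall]
    intro h hh
    obtain ⟨b, hb, rfl⟩ : h ∈ (P : Subgroup X).map (QuotientGroup.mk' (Cfsg.pPrimeCore 2 X)) :=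
      pCore_le_sylow (P.mapSurjective (QuotientGroup.mk'_surjective (Cfsg.pPrimeCore 2 X))) (hAR hh.1)
    obtain ⟨k, hk⟩ := P.2 ⟨b, hb⟩
    rw [eq_one_of_sylows (d := b) hsol hO ⟨k, congrArg Subtype.val hk⟩ fun q hq hq2 =>
      ⟨S ⟨q, hq, hq2⟩, hBc ⟨q, hq, hq2⟩ _ (Subgroup.mem_iInf.1 hh.2 _) b hb rfl⟩, map_one]

end CfsgLib.Core.HHTwo
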